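import Cfsg.Agent.Lib.SEB.CaseC

/-! Project SEB: Bender's theorem on strongly embedded subgroups. -/

set_option autoImplicit false

namespace CfsgLib.SEB

open Subgroup MulAction Cfsg CfsgLib.Cop CfsgLib.H1 CfsgLib.SE CfsgLib.SEG

universe u

theorem Cw.tc {G Ω : Type*} [Group G] [MulAction G Ω] [Finite G] (C : Cw G Ω) : Tc G Ω := by
  have S := C.S
  by_cases hG : IsSimpleGroup G
  · refine C.tc_of_simple fun ω => by_contra fun h => Ca.false (G := G) (Ω := Ω) ⟨C, fun α e => h ?_⟩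
    obtain ⟨g, rfl⟩ := S.trans α ω
    refine isSolvable_of_le (isSolvable_map e (MulAut.conj g).toMonoidHom) fun x hx =>
      ⟨g⁻¹ * x * g⁻¹⁻¹, by simpa using conj_mem_Jg g⁻¹ hx, by simp [mul_assoc]⟩
  obtain ⟨N, hN, h1, h2⟩ : ∃ N : Subgroup G, N.Normal ∧ N ≠ ⊥ ∧ N ≠ ⊤ := by
    by_contra hcon
    push Not at hcon
    obtain ⟨u, hu⟩ := S.even
    have : Nontrivial G := ⟨u, 1, hu.2⟩
    exact hG ⟨fun N hN => or_iff_not_imp_left.2 (hcon N hN)⟩
  have h5 : ∀ v, IsInv v → v ∈ N := fun v hv => by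
    by_contra h5
    refine C.norm_ne_top (odd_of_forall fun w hw hwi => ?_) h1 (normalizer_eq_top N)
    obtain ⟨d, rfl⟩ := S.exists_conj_top hwi hv
    exact h5 (hN.conj_mem w hw d)
  intro a b α ha hb h6 h7
  have h8 : ¬ N ≤ stabilizer G α := fun h8 => by
    obtain ⟨β, hβ⟩ := S.exists_ne α
    obtain ⟨t, ht, h9, -⟩ := S.exists_swap hβ.symm
    exact hβ (h9.symm.trans (h8 (h5 t ht)))
  have B := C.ih N α h2 (by
    obtain ⟨c, hc, d, hd, e1, e2, e⟩ := S.rk2_stab C.hr α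
    exact ⟨c, ⟨h5 c e1, hc⟩, d, ⟨h5 d e2, hd⟩, e1, e2, e⟩) h8
  have h9 : a * b * (a * b) = 1 := C.hf _ fun ω => by
    by_cases e : α = ω
    · simp only [← e, mul_smul, h6, h7]
    obtain ⟨t, ht, rfl, -⟩ := S.exists_swap e
    exact B.sq (h5 a ha) (h5 b hb) ha hb h6 h7 (h5 t ht)
  rw [← inv_eq_of_mul_eq_one_right h9, mul_inv_rev, ha.inv_eq, hb.inv_eq]

theorem exists_RO (G : Type u) [Group G] [Finite G] :
    ∀ (Ω : Type u) [MulAction G Ω], SEA G Ω → Rk2 (⊤ : Subgroup G) →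
      (∀ g : G, (∀ ω : Ω, g • ω = ω) → g = 1) →
      ∀ α : Ω, ∃ Q t, Suz.RO (stabilizer G α) Q t ∧ Suz.Rank2 Q := by
  revert G
  refine card_induction fun G _ _ ih => ?_
  intro Ω _ S hr hf α
  have C : Cw G Ω := ⟨S, hr, hf, fun M β hM h1 h2 => by
    have R := red_orbit M β
    have := R.finite
    obtain ⟨a, ha, -, -, hai, -⟩ := id h1
    exact bu_of_red R S h2 h1 (ih _ (R.card_le.trans_lt (card_lt_of_ne_top hM)) _
      (R.sea S h2 hai ha.1 ha.2) (R.rk2 S h2 (h1.mono inf_le_left)) R.faith)⟩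
  exact S.exists_RO C.tc hr hf C.ih' (C.solv_stab C.tc α)

/-- Bender's theorem: a strongly embedded subgroup with trivial core of a group of `2`-rank at
least two is a Borel subgroup of a split `BN`-pair of rank one. -/
theorem bender {G : Type u} [Group G] [Finite G] {H : Subgroup G}
    (h : IsStronglyEmbedded H) (hc : H.normalCore = ⊥) (hr : Rk2 (⊤ : Subgroup G)) :
    ∃ Q t, Suz.RO H Q t ∧ Suz.Rank2 Q := by
  have := exists_RO G (G ⧸ H) (sea_of_isStronglyEmbedded h) hr (faithful_quot hc)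
    ((1 : G) : G ⧸ H)
  rwa [stab_quot_one] at this

end CfsgLib.SEB
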