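import Cfsg.Agent.Lib.SEB.Stab

/-! Project SEB: the involutions fixing a point generate a solvable group but do not commute. -/

set_option autoImplicit false

namespace CfsgLib.SEB

open Subgroup MulAction Cfsg CfsgLib.Cop CfsgLib.H1 CfsgLib.SE CfsgLib.SEG
open scoped commutatorElement

variable {G Ω : Type*} [Group G] [MulAction G Ω] [Finite G]

theorem solv_of_comm_le {O E : Subgroup G} (hO : Odd (Nat.card O))
    (h : ∀ x ∈ E, ∀ y ∈ E, ⁅x, y⁆ ∈ O) : Group.IsSolvable E := by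
  refine isSolvable_of_normal_of_quotient (_root_.commutator E) (isSolvable_of_equiv
    ((_root_.commutator E).equivMapOfInjective _ E.subtype_injective).symm ?_)
      (inferInstanceAs (Group.IsSolvable (Abelianization E)))
  rw [map_subtype_commutator]
  exact isSolvable_of_le (FT.feit_thompson hO) (commutator_le.2 h)

theorem exists_E_of_J (S : SEA G Ω) {α : Ω} (hs : Group.IsSolvable (Jg G α)) :
    ∃ E : Subgroup G, piCoreOf {2}ᶜ (stabilizer G α) ≤ E ∧ E ≤ stabilizer G α ∧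
      stabilizer G α ≤ normalizer (E : Set G) ∧ (∀ u ∈ stabilizer G α, IsInv u → u ∈ E) ∧
      ∀ x ∈ E, ∀ y ∈ E, ⁅x, y⁆ ∈ piCoreOf {2}ᶜ (stabilizer G α) := by
  obtain ⟨a, ha, h⟩ := S.exists_inv α
  obtain ⟨β, hβ⟩ := S.exists_ne α
  have hJ := le_normalizer_Jg (G := G) α
  have hO := le_normalizer_piCoreOf (π := {2}ᶜ) (stabilizer G α)
  have hL : st2 G α β ⊔ Jg G α ≤ stabilizer G α := sup_le inf_le_left (Jg_le α)
  obtain ⟨E, -, -, -, h1, h2⟩ := exists_E (isSolvable_sup (inf_le_left.trans hJ)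
    (FT.feit_thompson (S.odd_st2 hβ.symm)) hs) ha (mem_sup_right (mem_Jg ha h))
    fun u hu v hv b c => by
      obtain ⟨d, hd, e⟩ := S.exists_conj hβ.symm b c (hL hu) (hL hv)
      exact ⟨d, mem_sup_left hd, e⟩
  have h3 : Jg G α ≤ E := Jg_le_iff.2 fun u b c => h1 u (mem_sup_right (mem_Jg b c)) b
  have h4 : ⁅Jg G α, Jg G α⁆ ≤ piCoreOf {2}ᶜ (stabilizer G α) :=
    le_oddCore ((commutator_le_self _).trans (Jg_le α)) (le_normalizer_commutator hJ hJ)
      ((odd_piCoreOf _).of_dvd_nat (card_dvd_of_le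
        (commutator_le.2 fun x hx y hy => h2 x (h3 hx) y (h3 hy))))
  refine ⟨piCoreOf {2}ᶜ (stabilizer G α) ⊔ Jg G α, le_sup_left, sup_le (piCoreOf_le _) (Jg_le α),
    le_normalizer_sup hO hJ, fun u hu b => mem_sup_right (mem_Jg b hu), commutator_le.1 ?_⟩
  exact (FT.commutator_sup_self_le ((Jg_le α).trans hO)).trans (sup_le le_rfl h4)

theorem exists_prime_J (S : SEA G Ω) (hT : ¬ Tc G Ω) (hs : ∀ ω : Ω, Group.IsSolvable (Jg G ω)) :
    ∃ p : ℕ, p.Prime ∧ p ≠ 2 ∧ ∀ (α : Ω) (u : G), IsInv u → u • α = α →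
      ¬ pCoreOf p (stabilizer G α) ≤ centralizer {u} := by
  have : Fact (Nat.Prime 2) := ⟨Nat.prime_two⟩
  obtain ⟨α, -⟩ := S.nontriv
  obtain ⟨a, ha, h1⟩ := S.exists_inv α
  have h0 : ∀ p, pCoreOf p (Jg G α) ≤ pCoreOf p (stabilizer G α) := fun p =>
    pCoreOf_le_of_le_normalizer (Jg_le α) (le_normalizer_Jg α)
  have h2 : pCoreOf 2 (stabilizer G α) = ⊥ := by
    by_contra h
    exact hT (S.tc_of_normal (pCoreOf_le _) (le_normalizer_pCoreOf _) (pCoreOf_isPGroup _) h)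
  have h3 : ¬ fittingOf (Jg G α) ≤ centralizer {a} := fun h => by
    have h4 := inf_centralizer_fittingOf_le (layerIn_eq_bot_of_isSolvable (hs α))
      (mem_inf.2 ⟨mem_Jg ha h1, mem_cent_of_le h⟩)
    have h5 := (le_pCoreOf_of_le_fittingOf (zpowers_le_of_mem h4)
      (Invol.isPGroup_zpowers ha.1)).trans (h0 2)
    rw [h2] at h5
    exact ha.2 (mem_bot.1 (h5 (mem_zpowers a)))
  by_contra hcon
  push Not at hcon
  refine h3 (fittingOf_le_of_forall fun p hp => (h0 p).trans ?_)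
  by_cases hp2 : p = 2
  · subst hp2; rw [h2]; exact bot_le
  obtain ⟨β, u, hu, h4, h5⟩ := hcon p hp.out hp2
  obtain ⟨g, rfl⟩ := S.exists_conj_top hu ha
  rw [S.uniq _ ha _ _ h1 (conj_smul_eq h4), stab_smul, pCoreOf_map_conj]
  rintro _ ⟨x, hx, rfl⟩
  have := mem_centralizer_singleton_iff.1 (h5 hx)
  exact mem_centralizer_singleton_iff.2 (by
    change g * x * g⁻¹ * _ = _ * (g * x * g⁻¹)
    rw [conj_mul, conj_mul, this])

theorem piCoreOf_eq_bot {p : ℕ} [Fact p.Prime] {H X : Subgroup G} (hc : CharIn p H) (h1 : X ≤ H)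
    (h2 : pCoreOf p H ≤ X) : piCoreOf {p}ᶜ X = ⊥ := by
  have h3 := piCoreOf_compl_coprime p X
  refine H5.eq_bot_of_isPGroup_of_coprime ((pCoreOf_isPGroup H).to_le (le_trans (le_inf
    ((piCoreOf_le _).trans h1) ?_) hc)) h3
  exact commutator_eq_bot_iff_le_centralizer.1 (commutator_eq_bot_of_coprime
    (((piCoreOf_le _).trans h1).trans (le_normalizer_pCoreOf _))
    (h2.trans (le_normalizer_piCoreOf _)) (coprime_card_of_isPGroup h3 (pCoreOf_isPGroup _)))

/-- the elements of `G_α` centralizing the involutions fixing `α` modulo `O(G_α)` -/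
def CO (G : Type*) [Group G] [MulAction G Ω] [Finite G] (α : Ω) : Subgroup G where
  carrier := {c | c • α = α ∧ ∀ u, IsInv u → u • α = α →
    c * u * c⁻¹ * u⁻¹ ∈ piCoreOf {2}ᶜ (stabilizer G α)}
  one_mem' := ⟨one_smul _ _, fun u _ _ => by simp⟩
  mul_mem' := fun {x y} hx hy => ⟨by rw [mul_smul, hy.1, hx.1], fun u a b => by
    have := mul_mem (conj_mem_of_mem_normalizer (le_normalizer_piCoreOf _ hx.1) (hy.2 u a b))
      (hx.2 u a b)
    rwa [show x * (y * u * y⁻¹ * u⁻¹) * x⁻¹ * (x * u * x⁻¹ * u⁻¹) =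
      x * y * u * (x * y)⁻¹ * u⁻¹ by group] at this⟩
  inv_mem' := fun {x} hx => ⟨inv_smul_eq_iff.2 hx.1.symm, fun u a b => by
    have := inv_mem (conj_mem_of_mem_normalizer (le_normalizer_piCoreOf _
      (inv_mem (show x ∈ stabilizer G α from hx.1))) (hx.2 u a b))
    rwa [show (x⁻¹ * (x * u * x⁻¹ * u⁻¹) * x⁻¹⁻¹)⁻¹ = x⁻¹ * u * x⁻¹⁻¹ * u⁻¹ by group] at this⟩

theorem CO_le (α : Ω) : CO G α ≤ stabilizer G α := fun _ h => h.1

theorem le_normalizer_CO (α : Ω) : stabilizer G α ≤ normalizer (CO G α : Set G) := fun g hg =>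
  mem_normalizer_of_conj_mem fun x hx => ⟨mul_mem (mul_mem hg hx.1) (inv_mem hg), fun u a b => by
    have := conj_mem_of_mem_normalizer (le_normalizer_piCoreOf _ hg) (hx.2 _ (a.conj g⁻¹)
      (mul_mem (mul_mem (inv_mem hg) (show u ∈ stabilizer G α from b)) (inv_mem (inv_mem hg))))
    rwa [show g * (x * (g⁻¹ * u * g⁻¹⁻¹) * x⁻¹ * (g⁻¹ * u * g⁻¹⁻¹)⁻¹) * g⁻¹ =
      g * x * g⁻¹ * u * (g * x * g⁻¹)⁻¹ * u⁻¹ by group] at this⟩

/-- the involutions fixing a point commute modulo the odd core, but not exactly -/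
structure Cb (G Ω : Type*) [Group G] [MulAction G Ω] (p : ℕ) : Prop extends Cw G Ω where
  hE : ∀ α : Ω, ∃ E : Subgroup G, piCoreOf {2}ᶜ (stabilizer G α) ≤ E ∧ E ≤ stabilizer G α ∧
      stabilizer G α ≤ normalizer (E : Set G) ∧ (∀ u ∈ stabilizer G α, IsInv u → u ∈ E) ∧
      ∀ x ∈ E, ∀ y ∈ E, ⁅x, y⁆ ∈ piCoreOf {2}ᶜ (stabilizer G α)
  hp2 : p ≠ 2
  hR : ∀ (α : Ω) (u : G), IsInv u → u • α = α → ¬ pCoreOf p (stabilizer G α) ≤ centralizer {u}

namespace Cb

variable {p : ℕ} [hp : Fact p.Prime] (C : Cb G Ω p)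
include C

omit hp in
theorem mem_oddCore {α : Ω} {u y : G} (hu : IsInv u)
    (h1 : u • α = α) (h2 : y • α = α) (hy : Odd (orderOf y)) (e : u * y * u⁻¹ = y⁻¹) :
    y ∈ piCoreOf {2}ᶜ (stabilizer G α) := by
  obtain ⟨E, -, -, -, h3, h4⟩ := C.hE α
  by_cases hy1 : u * y = 1
  · have : y = u := by rw [← hu.inv_eq]; exact (inv_eq_of_mul_eq_one_right hy1).symm
    rw [this, hu.orderOf] at hy
    exact absurd hy (by decide)
  have h5 := h4 u (h3 u h1 hu) (u * y) (h3 _ (mul_mem (show u ∈ stabilizer G α from h1) h2)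
    ⟨Invol.mul_mul_self hu.1 e, hy1⟩)
  have h6 : ⁅u, u * y⁆ = y * y := by
    have e' : u * y⁻¹ * u⁻¹ = y := by rw [← conj_inv, e, inv_inv]
    rw [commutatorElement_def, hu.mul_mul, mul_inv_rev]
    calc y * u⁻¹ * (y⁻¹ * u⁻¹) = y * (u * y⁻¹ * u⁻¹) := by rw [hu.inv_eq]; group
      _ = y * y := by rw [e']
  rw [h6] at h5
  obtain ⟨m, hm⟩ := hy
  have h7 : y = (y * y) ^ (m + 1) := by
    rw [← pow_two, ← pow_mul, show 2 * (m + 1) = (2 * m + 1) + 1 by ring, pow_succ, ← hm,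
      pow_orderOf_eq_one, one_mul]
  rw [h7]; exact pow_mem h5 _

theorem odd_R (α : Ω) : Odd (Nat.card (pCoreOf p (stabilizer G α))) :=
  odd_card_of_isPGroup C.hp2 (pCoreOf_isPGroup _)

theorem exists_good {α : Ω} {z : G} (hz : IsInv z) (h : z • α = α) : ∃ y, Good p α z y := by
  obtain ⟨b, hb, h1, h2⟩ := C.S.exists_comm C.hr hz
  have hbα : b • α = α := C.S.fix_of_comm hz h h2.symm
  have hn := le_normalizer_pCoreOf (p := p) (stabilizer G α)
  have key : ∀ v, IsInv v → v * z = z * v →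
      ¬ pCoreOf p (stabilizer G α) ⊓ centralizer {v} ≤ centralizer {z} → ∃ y, Good p α z y := by
    intro v hv h3 h4
    obtain ⟨y, hy, hy1, e⟩ := exists_inverted hz (X := pCoreOf p (stabilizer G α) ⊓ centralizer {v})
      (le_normalizer_inf (H := zpowers z) (zpowers_le_of_mem (hn h))
        (zpowers_le_of_mem (le_normalizer (mem_centralizer_singleton_iff.2 h3.symm)))
        (mem_zpowers z)) h4
    exact ⟨y, hy.1, hy1, e, C.S.cent_le_of_inverts (odd_orderOf_of_mem (C.odd_R α) hy.1) hy1 hz hv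
      h e (mem_centralizer_singleton_iff.1 hy.2).symm⟩
  by_contra hcon
  refine C.hR α z hz h (le_of_four hz hb h1 h2 (C.odd_R α) (hn h) (hn hbα) inf_le_right ?_ ?_)
  · by_contra h3
    exact hcon (key b hb h2.symm h3)
  · by_contra h3
    exact hcon (key _ (isInv_mul hz hb h1 h2) (by rw [mul_assoc, h2]) h3)

theorem cent_R_le (α : Ω) : centralizer (pCoreOf p (stabilizer G α) : Set G) ≤ stabilizer G α := by
  obtain ⟨z, hz, h⟩ := C.S.exists_inv α
  obtain ⟨y, hy⟩ := C.exists_good hz h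
  exact (centralizer_le (Set.singleton_subset_iff.2 hy.mem)).trans hy.cent

theorem sig {α : Ω} {z y : G} (hz : IsInv z) (h : z • α = α) (hy : Good p α z y) {X : Subgroup G}
    (hX : Odd (Nat.card X)) (hc : (Nat.card X).Coprime p) (h1 : y ∈ normalizer (X : Set G))
    (h2 : z ∈ normalizer (X : Set G)) : X ≤ stabilizer G α := by
  have hyp : IsPGroup p (zpowers y) := (pCoreOf_isPGroup _).to_le (zpowers_le_of_mem hy.mem)
  refine (le_cent_of_dihedral hz (odd_orderOf_of_mem (C.odd_R α) hy.mem) hy.inv hX ?_ h1 h2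
    fun x hx => ?_).trans hy.cent
  · rw [← Nat.card_zpowers]; exact (coprime_card_of_isPGroup hc hyp).symm
  · rw [mem_centralizer_singleton_iff, ← commutatorElement_eq_one_iff_mul_comm]
    refine disjoint_def.1 (H5.disjoint_of_isPGroup_of_coprime (pCoreOf_isPGroup (stabilizer G α))
      hc) ?_ ?_
    · exact mul_mem (conj_mem_of_mem_normalizer (le_normalizer_pCoreOf _ (C.S.cent_le hz h hx.2))
        hy.mem) (inv_mem hy.mem)
    · rw [commutatorElement_def, mul_assoc, mul_assoc, ← mul_assoc y]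
      exact mul_mem hx.1 (conj_mem_of_mem_normalizer h1 (inv_mem hx.1))

/-- a `p'`-subgroup of `G_α` normalized by `O_p(G_α)` has odd order -/
theorem odd_of_norm {α : Ω} {U : Subgroup G} (h1 : U ≤ stabilizer G α)
    (h2 : pCoreOf p (stabilizer G α) ≤ normalizer (U : Set G)) (hc : (Nat.card U).Coprime p) :
    Odd (Nat.card U) ∧ U ≤ centralizer (pCoreOf p (stabilizer G α) : Set G) := by
  have h3 : U ≤ centralizer (pCoreOf p (stabilizer G α) : Set G) :=
    commutator_eq_bot_iff_le_centralizer.1 (commutator_eq_bot_of_coprime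
      (h1.trans (le_normalizer_pCoreOf _)) h2 (coprime_card_of_isPGroup hc (pCoreOf_isPGroup _)))
  exact ⟨odd_of_forall fun u hu hi => C.hR α u hi (h1 hu) (le_cent_of_mem (h3 hu)), h3⟩

theorem four {α : Ω} {P : Subgroup G} (hP : IsSylowIn p P (stabilizer G α)) :
    Rk2 (normalizer (dSub P : Set G) ⊓ stabilizer G α) := by
  obtain ⟨E, h1, h2, h3, h4, h5⟩ := C.hE α
  have hX : P ⊔ E ≤ stabilizer G α := sup_le hP.le h2
  have h6 := fact C.hp2 (isSolvable_sup (hP.le.trans h3)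
    (isSolvable_of_isPGroup hP.isPGroup) (solv_of_comm_le (odd_piCoreOf _) h5)) (abTwo_sup (odd_piCoreOf _)
    (odd_card_of_isPGroup C.hp2 hP.isPGroup) (hP.le.trans h3) h5) (hP.mono le_sup_left hX)
  have h7 := (C.odd_of_norm ((piCoreOf_le _).trans hX) (((pCoreOf_le_sylow hP).trans
    le_sup_left).trans (le_normalizer_piCoreOf (P ⊔ E))) (piCoreOf_compl_coprime p _)).1
  have h8 : Rk2 (P ⊔ E) := by
    obtain ⟨a, ha, b, hb, h8, h9, h⟩ := C.S.rk2_stab C.hr α
    exact ⟨a, mem_sup_right (h4 a ha h8), b, mem_sup_right (h4 b hb h9), h8, h9, h⟩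
  refine (h8.of_odd_relIndex (N := (P ⊔ E) ⊓ normalizer (dSub P : Set G)) inf_le_left ?_).mono
    (le_inf inf_le_right (inf_le_left.trans hX))
  set N := (P ⊔ E) ⊓ normalizer (dSub P : Set G)
  set U := piCoreOf {p}ᶜ (P ⊔ E)
  have h9 : N ⊔ U = P ⊔ E :=
    le_antisymm (sup_le inf_le_left (piCoreOf_le _)) (h6.trans (sup_comm _ _).le)
  have h10 := card_sup_mul_card_inf (H := N) (N := U)
    (inf_le_left.trans (le_normalizer_piCoreOf _))
  rw [h9, ← card_mul_relIndex (inf_le_left : N ≤ P ⊔ E), mul_assoc] at h10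
  exact h7.of_dvd_nat (Dvd.intro _ (Nat.eq_of_mul_eq_mul_left Nat.card_pos h10))

theorem inverted_mem {α β : Ω} {z : G} (hz : IsInv z) (h : z • α = α) (hne : β ≠ α)
    {P : Subgroup G} (hP : IsSylowIn p P (st2 G β (z • β))) (hPα : P ≤ stabilizer G α)
    (hzP : z ∈ normalizer (P : Set G)) {y : G} (hy : y ∈ pCoreOf p (stabilizer G α))
    (e : z * y * z⁻¹ = y⁻¹) : y ∈ P := by
  set O := piCoreOf {2}ᶜ (stabilizer G α) with hO
  set R := pCoreOf p (stabilizer G α) with hR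
  have hOn : stabilizer G α ≤ normalizer (O : Set G) := le_normalizer_piCoreOf _
  have hRn : stabilizer G α ≤ normalizer (R : Set G) := le_normalizer_pCoreOf _
  have hX : Odd (Nat.card ↥(P ⊔ O)) := odd_sup (hPα.trans hOn)
    (odd_card_of_isPGroup C.hp2 hP.isPGroup) (odd_piCoreOf _)
  have hXα : P ⊔ O ≤ stabilizer G α := sup_le hPα (piCoreOf_le _)
  have hzX : z ∈ normalizer ((P ⊔ O : Subgroup G) : Set G) :=
    le_normalizer_sup (H := zpowers z) (zpowers_le_of_mem hzP) (zpowers_le_of_mem (hOn h))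
      (mem_zpowers z)
  obtain ⟨T, hT, hzT, hPT⟩ := hz.exists_sylow_ge hX hzX (U := P ⊔ R)
    (isPGroup_sup_of_le_normalizer hP.isPGroup (pCoreOf_isPGroup _) (hPα.trans hRn))
    (sup_le_sup_left (le_oddCore (pCoreOf_le _) hRn (C.odd_R α)) _)
    (le_normalizer_sup (H := zpowers z) (zpowers_le_of_mem hzP) (zpowers_le_of_mem (hRn h))
      (mem_zpowers z))
  have hβ : β ≠ z • β := (C.S.smul_ne hz h hne).symm
  have h1 := hz.relIndex_sylow (C.S.odd_st2 hβ) (mem_normalizer_st2 rfl (hz.smul_smul β)) hP hzP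
  rw [C.S.relIndex_cent_swap hβ hz rfl, C.S.nJ_eq β α] at h1
  have h2 := hz.relIndex_sylow hX hzX hT hzT
  have h3 : (centralizer {z}).relIndex (P ⊔ O) = (centralizer {z}).relIndex O := by
    rw [← Frob.ncard_conj_subgroup, ← Frob.ncard_conj_subgroup]
    congr 1
    ext v
    refine ⟨?_, fun ⟨x, hx, e⟩ => ⟨x, mem_sup_right hx, e⟩⟩
    rintro ⟨x, hx, rfl⟩
    have h4 : z * (x * z * x⁻¹) ∈ P ⊔ O := by
      rw [← hz.inv_eq, ← mul_assoc, ← mul_assoc, hz.inv_eq]
      nth_rw 2 [← hz.inv_eq]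
      exact mul_mem (conj_mem_of_mem_normalizer hzX hx) (inv_mem hx)
    have h5 := Invol.inverts_mul hz.1 (hz.conj x).1
    obtain ⟨c, hc, e⟩ := Invol.exists_conj_eq_mul h5 (odd_orderOf_of_mem hX h4)
    rw [hz.mul_mul] at e
    exact ⟨c, zpowers_le_of_mem (C.mem_oddCore hz h (hXα h4)
      (odd_orderOf_of_mem hX h4) h5) hc, e⟩
  have h4 : (centralizer {z}).relIndex O ∣ nJ G α := by
    have := normal_subgroupOf_of_le_normalizer hOn
    rw [← C.S.relIndex_cent_stab hz h, ← relIndex_subgroupOf (piCoreOf_le _)]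
    exact OrbitRep.relIndex_dvd_index_of_normal_right _ _
  have h5 : (centralizer {z}).relIndex T ≤ (centralizer {z}).relIndex P := by
    rw [h1, h2, h3]
    exact Nat.pow_le_pow_right hp.out.pos ((Nat.factorization_le_iff_dvd
      (ne_zero_of_dvd_ne_zero (C.S.nJ_ne_zero α) h4) (C.S.nJ_ne_zero α)).2 h4 p)
  rw [← Frob.ncard_conj_subgroup, ← Frob.ncard_conj_subgroup] at h5
  have h6 := Set.eq_of_subset_of_ncard_le (s := {y : G | ∃ x ∈ P, x * z * x⁻¹ = y})
    (t := {y : G | ∃ x ∈ T, x * z * x⁻¹ = y}) (fun v ⟨x, hx, e⟩ => ⟨x, hPT (mem_sup_left hx), e⟩) h5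
  obtain ⟨c, hc, e1⟩ := Invol.exists_conj_eq_mul e (odd_orderOf_of_mem (C.odd_R α) hy)
  obtain ⟨x, hx, e2⟩ : z * y ∈ {y : G | ∃ x ∈ P, x * z * x⁻¹ = y} := by
    rw [h6]; exact ⟨c, hPT (mem_sup_right (zpowers_le_of_mem hy hc)), e1⟩
  have h7 : y = (z * x * z⁻¹) * x⁻¹ := by
    rw [← hz.mul_mul y, ← e2, hz.inv_eq]; group
  rw [h7]
  exact mul_mem (conj_mem_of_mem_normalizer hzP hx) (inv_mem hx)

variable [IsSimpleGroup G]

theorem dSub_ne_top {α : Ω} {P : Subgroup G} (hP : IsPGroup p P) (h : P ≠ ⊥)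
    (h1 : P ≤ stabilizer G α) : normalizer (dSub P : Set G) ≠ ⊤ :=
  normalizer_ne_top (dSub_ne_bot hP h) fun e =>
    C.S.stab_ne_top α (top_le_iff.1 (e.ge.trans ((dSub_le P).trans h1)))

theorem sylow_of_max {α β : Ω} (hne : α ≠ β) {P : Subgroup G} (hP : IsSylowIn p P (st2 G α β))
    (hmax : ∀ (Y : Subgroup G) (γ δ : Ω), γ ≠ δ → IsPGroup p Y → Y ≤ st2 G γ δ →
      Nat.card Y ≤ Nat.card P)
    {z y : G} (hz : IsInv z) (h : z • α = α) (hzP : z ∈ normalizer (P : Set G))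
    (hy : Good p α z y) (hyP : y ∈ P) : IsSylowIn p P (stabilizer G α) := by
  by_contra hcon
  have hPα : P ≤ stabilizer G α := hP.le.trans inf_le_left
  have hyα : y ∈ stabilizer G α := pCoreOf_le _ hy.mem
  have hA : ∀ M Y : Subgroup G, M ≠ ⊤ → ¬ M ≤ stabilizer G α → Y ≤ M ⊓ stabilizer G α →
      IsPGroup p Y → Nat.card P < Nat.card Y → ¬ Rk2 (M ⊓ stabilizer G α) := by
    intro M Y h1 h2 h3 h4 h5 h6
    obtain ⟨m, -, h7, h8⟩ := (C.ih' M α h1 h6 h2).c1 p hp.out C.hp2 Y h3 h4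
    exact absurd (hmax Y _ _ h7.symm h4 (le_inf (h3.trans inf_le_right) h8)) (not_le.2 h5)
  obtain ⟨P0, ⟨M, hM1, hM2, hM3, hM4, hM5, hM6, hM7⟩, hP0⟩ := Set.exists_max_image
    {Y : Subgroup G | ∃ M : Subgroup G, M ≠ ⊤ ∧ z ∈ M ∧ y ∈ M ∧ ¬ M ≤ stabilizer G α ∧
      Y ≤ M ⊓ stabilizer G α ∧ IsPGroup p Y ∧ Nat.card P < Nat.card Y} (fun Y => Nat.card Y)
    (Set.toFinite _) (by
      obtain ⟨s, hs, -, h1, -⟩ := C.S.exists_swap_normalizer hne hP
      obtain ⟨Y, h2, h3⟩ := IsSylowIn.exists_ge hP.isPGroup (le_inf hPα (le_normalizer (H := P)))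
      refine ⟨Y, normalizer (P : Set G), normalizer_ne_top (fun e => hy.ne (mem_bot.1 (e ▸ hyP)))
        fun e => C.S.stab_ne_top α (top_le_iff.1 (e.ge.trans hPα)), hzP, le_normalizer hyP,
        fun h4 => hne ((h4 hs).symm.trans h1), h3.le.trans (inf_comm _ _).le, h3.isPGroup,
        lt_of_not_ge fun h4 => hcon (sylow_of_normalizer ?_)⟩
      rwa [← eq_of_le_of_card_ge h2 h4] at h3)
  have hnr : ¬ Rk2 M := fun h1 => hA M P0 hM1 hM4 hM5 hM6 hM7 (C.S.rk2_inf hz hM2 h h1)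
  set O := piCoreOf {2}ᶜ M with hO
  have hOn : M ≤ normalizer (O : Set G) := le_normalizer_piCoreOf _
  have hZ : ∀ g ∈ M, g * z * g⁻¹ * z⁻¹ ∈ O := fun g hg => zstar_of_not_rk2 hnr hz hM2 hg
  have hO1 : ¬ O ≤ stabilizer G α := fun h1 => hM4 fun g hg => C.S.fix_of_conj hz h (by
    have := mul_mem (h1 (hZ g hg)) (show z ∈ stabilizer G α from h)
    simpa using this)
  have hP0M : P0 ≤ M := hM5.trans inf_le_left
  have hXM : P0 ⊔ O ≤ M := sup_le hP0M (piCoreOf_le _)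
  have hX : Odd (Nat.card ↥(P0 ⊔ O)) := odd_sup (hP0M.trans hOn)
    (odd_card_of_isPGroup C.hp2 hM6) (odd_piCoreOf _)
  have hzX : z ∈ normalizer ((P0 ⊔ O : Subgroup G) : Set G) := by
    refine mem_normalizer_of_conj_mem fun x hx => ?_
    have := mul_mem (mem_sup_right (S := P0) (inv_mem (hZ x (hXM hx)))) hx
    simpa [mul_assoc] using this
  have hyX : y ∈ P0 ⊔ O := by
    refine mem_sup_right (mem_of_sq_mem (odd_orderOf_of_mem (C.odd_R α) hy.mem) ?_)
    have := hZ y hM3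
    rwa [mul_assoc y z, mul_assoc y, ← conj_inv, hy.inv, inv_inv] at this
  set X := P0 ⊔ O with hXdef
  obtain ⟨T, hT, hzT, hyT⟩ := hz.exists_sylow_ge (p := p) (X := X ⊓ stabilizer G α)
    (U := zpowers y) (hX.of_dvd_nat (card_dvd_of_le inf_le_left))
    (le_normalizer_inf (H := zpowers z) (zpowers_le_of_mem hzX)
      (zpowers_le_of_mem (le_normalizer h)) (mem_zpowers z))
    ((pCoreOf_isPGroup _).to_le (zpowers_le_of_mem hy.mem)) (zpowers_le_of_mem ⟨hyX, hyα⟩)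
    (mem_normalizer_of_conj_mem fun x hx => by
      rw [Invol.inverts_of_mem_zpowers hy.inv hx]; exact inv_mem hx)
  have hTα : T ≤ stabilizer G α := hT.le.trans inf_le_right
  have h1 : Nat.card P0 ≤ Nat.card T :=
    hT.card_le hM6 (le_inf le_sup_left (hM5.trans inf_le_right))
  have h2 : normalizer (T : Set G) ≤ stabilizer G α := fun n hn => by
    by_contra h3
    exact absurd (hmax T _ _ (Ne.symm h3) hT.isPGroup (le_inf hTα (le_stab_smul hn hTα)))
      (not_le.2 (hM7.trans_le h1))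
  have h3 : IsSylowIn p T X := sylow_of_normalizer
    (hT.mono (le_inf (hT.le.trans inf_le_left) le_normalizer) (inf_le_inf_left _ h2))
  have h4 := fact C.hp2 (FT.feit_thompson hX) (abTwo_of_odd hX) h3
  have h5 : piCoreOf {p}ᶜ X ≤ stabilizer G α := C.sig hz h hy
    (hX.of_dvd_nat (card_dvd_of_le (piCoreOf_le _))) (piCoreOf_compl_coprime p _)
    (le_normalizer_piCoreOf X hyX) (normalizer_le_normalizer_piCoreOf _ hzX)
  have h6 : ¬ normalizer (dSub T : Set G) ≤ stabilizer G α := fun h6 =>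
    hO1 (le_sup_right.trans (h4.trans (sup_le h5 (inf_le_right.trans h6))))
  have hyT' : y ∈ T := hyT (mem_zpowers y)
  have h7 := C.dSub_ne_top hT.isPGroup (fun e => hy.ne (mem_bot.1 (e ▸ hyT'))) hTα
  have h8 := normalizer_le_normalizer_dSub T
  have h9 : IsSylowIn p T (stabilizer G α) := by
    refine sylow_of_normalizer (IsSylowIn.of_maximal (le_inf hTα le_normalizer) hT.isPGroup
      fun Y hY h9 h10 => (eq_of_le_of_card_ge h9 (le_trans (hP0 Y ?_) h1)).ge)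
    exact ⟨_, h7, h8 hzT, h8 (le_normalizer hyT'), h6,
      le_inf (h10.trans (inf_le_right.trans h8)) (h10.trans inf_le_left), hY,
      (hM7.trans_le h1).trans_le (card_le_of_le h9)⟩
  exact hA _ T h7 h6 (le_inf (le_normalizer.trans h8) hTα) hT.isPGroup (hM7.trans_le h1)
    (C.four h9)

theorem exists_common_sylow : ∃ (α β : Ω) (P : Subgroup G), α ≠ β ∧
    IsSylowIn p P (stabilizer G α) ∧ IsSylowIn p P (stabilizer G β) := by
  obtain ⟨P, ⟨hP, γ, δ, hne, hle⟩, hmax⟩ := Set.exists_max_image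
    {Y : Subgroup G | IsPGroup p Y ∧ ∃ γ δ : Ω, γ ≠ δ ∧ Y ≤ st2 G γ δ} (fun Y => Nat.card Y)
    (Set.toFinite _) (by
      obtain ⟨γ, δ, h⟩ := C.S.nontriv
      exact ⟨⊥, IsPGroup.of_bot, γ, δ, h, bot_le⟩)
  have hS : ∀ α β : Ω, α ≠ β → P ≤ st2 G α β → IsSylowIn p P (st2 G α β) := fun α β h1 h2 =>
    IsSylowIn.of_maximal h2 hP fun Y hY h3 h4 =>
      (eq_of_le_of_card_ge h3 (hmax Y ⟨hY, α, β, h1, h4⟩)).ge
  have key : ∀ α β : Ω, IsSylowIn p P (stabilizer G α) → P ≤ stabilizer G β →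
      IsSylowIn p P (stabilizer G β) := fun α β h1 h2 => by
    obtain ⟨T, hT⟩ := IsSylowIn.exists_in (p := p) (stabilizer G β)
    exact hT.of_card_le hP h2 (by rw [hT.card_eq_ordProj, h1.card_eq_ordProj, C.S.card_stab α β])
  by_cases h3 : Fix3 Ω P
  · obtain ⟨z, hzP, hz, α, h1, h2⟩ := C.S.exists_inv_max3 C.hp2 (Y := P) ⟨hP, h3,
      fun Y hY h4 ⟨a, b, _, h5, _, _, h6, h7, _⟩ =>
        (eq_of_le_of_card_ge h4 (hmax Y ⟨hY, a, b, h5, le_inf h6 h7⟩)).ge⟩
    obtain ⟨β, hβ, -, h4⟩ := h3.exists_third α α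
    obtain ⟨y, hy⟩ := C.exists_good hz h2
    have h5 := C.sylow_of_max hβ.symm (hS _ _ hβ.symm (le_inf h1 h4))
      (fun Y a b h5 h6 h7 => hmax Y ⟨h6, a, b, h5, h7⟩) hz h2 hzP hy
      (C.inverted_mem hz h2 hβ (hS _ _ (C.S.smul_ne hz h2 hβ).symm
        (le_inf h4 (le_stab_smul hzP h4))) h1 hzP hy.mem hy.inv)
    exact ⟨α, β, P, hβ.symm, h5, key α β h5 h4⟩
  · have h5 := sylow_of_not_fix3 (N := ⊤) hne.symm (by rw [top_inf_eq]; exact hS _ _ hne hle) h3
    rw [top_inf_eq] at h5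
    exact ⟨γ, δ, P, hne, h5, key γ δ h5 (hle.trans inf_le_right)⟩

omit [IsSimpleGroup G] in
theorem U_prop (α : Ω) : Odd (Nat.card (piCoreOf {p}ᶜ (stabilizer G α))) ∧
    piCoreOf {p}ᶜ (stabilizer G α) ≤ centralizer (pCoreOf p (stabilizer G α) : Set G) :=
  C.odd_of_norm (piCoreOf_le _) ((pCoreOf_le _).trans (le_normalizer_piCoreOf _))
    (piCoreOf_compl_coprime p _)

omit [IsSimpleGroup G] [Finite G] hp in
theorem R_ne_bot (α : Ω) : pCoreOf p (stabilizer G α) ≠ ⊥ := fun e => by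
  obtain ⟨z, hz, h⟩ := C.S.exists_inv α
  exact C.hR α z hz h (e.le.trans bot_le)

theorem U_le_stab {α β : Ω} (hne : α ≠ β) {P : Subgroup G}
    (h1 : IsSylowIn p P (stabilizer G α)) (h2 : IsSylowIn p P (stabilizer G β)) :
    piCoreOf {p}ᶜ (stabilizer G β) ≤ stabilizer G α := by
  obtain ⟨s, hs, hsi, hs1, hs2⟩ := C.S.exists_swap_normalizer hne
    (h1.mono (le_inf h1.le h2.le) inf_le_left)
  set N := normalizer (dSub P : Set G) with hN
  have hPN : normalizer (P : Set G) ≤ N := normalizer_le_normalizer_dSub P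
  have hP0 : P ≠ ⊥ := fun e => C.R_ne_bot α (eq_bot_iff.2 ((pCoreOf_le_sylow h1).trans e.le))
  have hNt : N ≠ ⊤ := C.dSub_ne_top h1.isPGroup hP0 h1.le
  have hc : ∀ γ δ : Ω, γ ≠ δ → s • γ = δ → IsSylowIn p P (stabilizer G γ) → ∀ m ∈ N,
      pCoreOf p (stabilizer G γ) ≤ stabilizer G (m • γ) := fun γ δ h3 h4 h5 =>
    (C.ih' N γ hNt (C.four h5) fun h6 => h3 ((h6 (hPN hs)).symm.trans h4)).c2 _
      (le_inf ((pCoreOf_le_sylow h5).trans (le_normalizer.trans hPN)) (pCoreOf_le _))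
      (C.odd_R γ) (inf_le_right.trans (le_normalizer_pCoreOf _))
  let K : Subgroup G :=
    { carrier := {x | ∀ m ∈ N, x • m • α = m • α}
      one_mem' := fun _ _ => one_smul _ _
      mul_mem' := fun {x y} hx hy m hm => by rw [mul_smul, hy m hm, hx m hm]
      inv_mem' := fun {x} hx m hm => inv_smul_eq_iff.2 (hx m hm).symm }
  have hKn : N ≤ normalizer (K : Set G) := fun n hn => mem_normalizer_of_conj_mem fun x hx m hm => by
    have := hx (n⁻¹ * m) (mul_mem (inv_mem hn) hm)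
    rw [mul_smul] at this
    rw [mul_smul, mul_smul, this, smul_inv_smul]
  have hKα : K ≤ stabilizer G α := fun x hx => by simpa using hx 1 (one_mem _)
  have hKβ : K ≤ stabilizer G β := fun x hx => by simpa [hs1] using hx s (hPN hs)
  set T := pCoreOf p K with hT
  have hTα : pCoreOf p (stabilizer G α) ≤ T := le_pCoreOf
    (fun x hx m hm => hc α β hne hs1 h1 m hm hx) (hKα.trans (le_normalizer_pCoreOf _))
    (pCoreOf_isPGroup _)
  have hTβ : pCoreOf p (stabilizer G β) ≤ T := le_pCoreOf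
    (fun x hx m hm => by
      have := hc β α hne.symm hs2 h2 (m * s) (mul_mem hm (hPN hs)) hx
      rwa [mul_smul, hs2] at this) (hKβ.trans (le_normalizer_pCoreOf _)) (pCoreOf_isPGroup _)
  have hTn : N ≤ normalizer (T : Set G) := hKn.trans (normalizer_le_normalizer_pCoreOf _)
  have hZn : N ≤ normalizer ((T ⊓ centralizer (T : Set G) : Subgroup G) : Set G) :=
    le_normalizer_inf hTn (le_normalizer_centralizer hTn)
  have hTp : IsPGroup p T := pCoreOf_isPGroup _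
  have hTβ' : T ≤ stabilizer G β := (pCoreOf_le _).trans hKβ
  set Z := T ⊓ centralizer (T : Set G) with hZ
  set U := piCoreOf {p}ᶜ (stabilizer G β) with hU
  obtain ⟨hU1, hU2⟩ := C.U_prop β
  have hU3 : (Nat.card U).Coprime p := piCoreOf_compl_coprime p _
  have hUn : stabilizer G β ≤ normalizer (U : Set G) := le_normalizer_piCoreOf _
  by_cases hcase : ∃ u ∈ N, IsInv u ∧ Z ≤ centralizer {u}
  · obtain ⟨u, hu, hui, hu'⟩ := hcase
    have hall : ∀ v ∈ N, IsInv v → Z ≤ centralizer {v} := fun v hv hvi => by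
      obtain ⟨a, ha, -, -, hai, -⟩ := C.four h1
      have hsα : s • α ≠ α := hs1 ▸ hne.symm
      obtain ⟨d, hd, rfl⟩ := C.S.exists_conj_in (hPN hs) hsα hai ha.1 ha.2 hui hu
      obtain ⟨e, he, rfl⟩ := C.S.exists_conj_in (hPN hs) hsα hai ha.1 ha.2 hvi hv
      have := le_cent_conj (hZn (mul_mem he (inv_mem hd))) hu'
      rwa [show e * d⁻¹ * (d * a * d⁻¹) * (e * d⁻¹)⁻¹ = e * a * e⁻¹ by group] at this
    obtain ⟨⟨y, hy⟩, hy1⟩ := ne_bot_iff_exists_ne_one.1 (inf_centralizer_ne_bot_of_isNilpotent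
      hTp.isNilpotent hTβ (hTβ'.trans (le_normalizer_pCoreOf _)) (C.R_ne_bot β))
    have hyZ : y ∈ Z := ⟨hTβ hy.1, hy.2⟩
    have h3 : ∀ v ∈ N, IsInv v → v ∈ centralizer {y} := fun v hv hvi =>
      mem_centralizer_singleton_iff.2 (mem_centralizer_singleton_iff.1 (hall v hv hvi hyZ)).symm
    have h4 : centralizer {y} ≠ (⊤ : Subgroup G) := fun e =>
      normalizer_ne_top (X := zpowers y) (fun e' => hy1 (Subtype.ext (zpowers_eq_bot.1 e')))
        (fun e' => C.S.stab_ne_top β (top_le_iff.1 (e'.ge.trans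
          (zpowers_le_of_mem (pCoreOf_le _ hy.1)))))
        (top_le_iff.1 (e.ge.trans (by
          rw [← centralizer_zpowers]; exact centralizer_le_normalizer _)))
    obtain ⟨a, ha, b, hb, hai, hbi, h5⟩ := C.four h2
    have := (C.ih' (centralizer {y}) β h4 ⟨a, ⟨h3 a ha.1 hai, ha.2⟩, b, ⟨h3 b hb.1 hbi, hb.2⟩,
      hai, hbi, h5⟩ fun h6 => hne (hs2.symm.trans (h6 (h3 s (hPN hs) hsi)))).c2 U
      (le_inf (hU2.trans (centralizer_le (Set.singleton_subset_iff.2 hy.1))) (piCoreOf_le _)) hU1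
      (inf_le_right.trans hUn) s (h3 s (hPN hs) hsi)
    rwa [hs2] at this
  · push Not at hcase
    obtain ⟨z, hzN, hz, B, hB, hB1, hB2⟩ := exists_inverted_noncyclic C.hp2 (C.four h1)
      (inf_le_left.trans hZn) (hTp.to_le inf_le_left)
      (inf_le_right.trans (centralizer_le (SetLike.coe_subset_coe.2 inf_le_left)))
      fun u hu => hcase u hu.1
    have hBp : IsPGroup p B := hTp.to_le (hB.trans inf_le_left)
    obtain ⟨y, hy⟩ := C.exists_good hz hzN.2
    refine le_of_centralizer_le_of_not_isCyclic (A := B)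
      (H5.isMulCommutative_iff'.2 fun x hx y hy => ((hB hx).2 y (hB hy).1).symm) hB1
      (hB.trans (inf_le_left.trans (hTβ'.trans hUn))) (coprime_card_of_isPGroup hU3 hBp).symm
      fun b hb hb1 => ?_
    rcases C.S.odd_or_cent_le (odd_orderOf_of_mem (odd_card_of_isPGroup C.hp2 hBp) hb) hb1 hz
      hzN.2 (hB2 b hb) with h3 | h3
    swap
    · exact inf_le_right.trans h3
    have hTb : T ≤ centralizer {b} := le_cent_of_mem (hB hb).2
    refine (le_piCoreOf_of_cent (FT.feit_thompson h3) (pCoreOf_isPGroup (stabilizer G β))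
      (hTβ.trans hTb) inf_le_right (hU3.coprime_dvd_left (card_dvd_of_le inf_le_left))
      (inf_le_left.trans hU2) (le_normalizer_inf (inf_le_right.trans ((C.cent_R_le β).trans hUn))
        (inf_le_left.trans le_normalizer))).trans ?_
    exact C.sig hz hzN.2 hy (h3.of_dvd_nat (card_dvd_of_le (piCoreOf_le _)))
      (piCoreOf_compl_coprime p _) (le_normalizer_piCoreOf _ (hTb (hTα hy.mem)))
      (normalizer_le_normalizer_piCoreOf _ (mem_normalizer_cent_of_inverts (hB2 b hb)))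

omit [IsSimpleGroup G] in
theorem cent_R_le_O (α : Ω) : stabilizer G α ⊓ centralizer (pCoreOf p (stabilizer G α) : Set G) ≤
    piCoreOf {2}ᶜ (stabilizer G α) :=
  le_oddCore inf_le_left (le_normalizer_inf le_normalizer
    (le_normalizer_centralizer (le_normalizer_pCoreOf _)))
    (odd_of_forall fun u hu hi => C.hR α u hi hu.1 (le_cent_of_mem hu.2))

theorem U_le_U {α β : Ω} (hne : α ≠ β) {P : Subgroup G}
    (h1 : IsSylowIn p P (stabilizer G α)) (h2 : IsSylowIn p P (stabilizer G β)) :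
    piCoreOf {p}ᶜ (stabilizer G β) ≤ piCoreOf {p}ᶜ (stabilizer G α) := by
  set O := piCoreOf {2}ᶜ (stabilizer G α) with hO
  set U := piCoreOf {p}ᶜ (stabilizer G β) with hU
  have hOn : stabilizer G α ≤ normalizer (O : Set G) := le_normalizer_piCoreOf _
  have h3 : P ⊔ U ≤ stabilizer G α := sup_le h1.le (C.U_le_stab hne h1 h2)
  have h4 : P ⊔ U ⊔ O ≤ stabilizer G α := sup_le h3 (piCoreOf_le _)
  have h5 : Odd (Nat.card ↥(P ⊔ U ⊔ O)) := odd_sup (h3.trans hOn) (odd_sup (h2.le.trans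
    (le_normalizer_piCoreOf _)) (odd_card_of_isPGroup C.hp2 h1.isPGroup) (C.U_prop β).1)
    (odd_piCoreOf _)
  have h6 : P ≤ P ⊔ U ⊔ O := le_sup_left.trans le_sup_left
  have h7 := piCoreOf_compl_coprime p (P ⊔ U ⊔ O)
  have h8 : piCoreOf {p}ᶜ (P ⊔ U ⊔ O) ≤ O := (le_inf ((piCoreOf_le _).trans h4)
    (C.odd_of_norm ((piCoreOf_le _).trans h4) (((pCoreOf_le_sylow h1).trans h6).trans
      (le_normalizer_piCoreOf _)) h7).2).trans (C.cent_R_le_O α)
  exact (le_piCoreOf_of_cent (FT.feit_thompson h5) (pCoreOf_isPGroup (stabilizer G β))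
    ((pCoreOf_le_sylow h2).trans h6) (le_sup_right.trans le_sup_left) (piCoreOf_compl_coprime p _)
    (C.U_prop β).2 (inf_le_right.trans ((C.cent_R_le β).trans (le_normalizer_piCoreOf _)))).trans
    ((le_piCoreOf_compl h8 (le_sup_right.trans (le_normalizer_piCoreOf _)) h7).trans
      (FT.piCoreOf_le_of_norm (piCoreOf_le _) hOn))

theorem exists_char : ∃ (α β : Ω) (P : Subgroup G), α ≠ β ∧
    IsSylowIn p P (stabilizer G α) ∧ IsSylowIn p P (stabilizer G β) ∧
    ∀ γ : Ω, CharIn p (stabilizer G γ) := by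
  obtain ⟨α, β, P, hne, h1, h2⟩ := C.exists_common_sylow
  refine ⟨α, β, P, hne, h1, h2, fun γ => ?_⟩
  have h3 := le_antisymm (C.U_le_U hne h1 h2) (C.U_le_U hne.symm h2 h1)
  have h4 : piCoreOf {p}ᶜ (stabilizer G α) = ⊥ := by
    by_contra h4
    exact hne (C.S.eq_of_le C.hr C.ih' (normalizer_ne_top h4 fun e => C.S.stab_ne_top α
      (top_le_iff.1 (e.ge.trans (piCoreOf_le _)))) (le_normalizer_piCoreOf _)
      (h3 ▸ le_normalizer_piCoreOf _))
  obtain ⟨g, rfl⟩ := C.S.trans α γ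
  rw [stab_smul]
  refine CharIn.map_conj ?_ g
  set B := stabilizer G α ⊓ centralizer (pCoreOf p (stabilizer G α) : Set G) with hB
  have hBn : stabilizer G α ≤ normalizer (B : Set G) := le_normalizer_inf le_normalizer
    (le_normalizer_centralizer (le_normalizer_pCoreOf _))
  have h5 : pCoreOf p B ≤ pCoreOf p (stabilizer G α) := pCoreOf_le_of_le_normalizer inf_le_left hBn
  have h6 : CharIn p B := by
    refine charIn_iff.2 (centralizer_pCore_le (isPSolvable_of_isSolvable (FT.feit_thompson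
      ((odd_piCoreOf _).of_dvd_nat (card_dvd_of_le (C.cent_R_le_O α))))) ?_)
    have h7 : piCoreOf {p}ᶜ B = ⊥ :=
      eq_bot_iff.2 ((FT.piCoreOf_le_of_norm inf_le_left hBn).trans h4.le)
    rw [← map_pPrimeCore_eq_piCoreOf] at h7
    exact (map_eq_bot_iff_of_injective _ (subtype_injective _)).1 h7
  exact ((le_inf le_rfl (inf_le_right.trans (centralizer_le h5))).trans h6).trans h5

omit [IsSimpleGroup G] in
theorem le_norm_dSub {α : Ω} {P : Subgroup G} (hP : IsSylowIn p P (stabilizer G α))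
    (hc : CharIn p (stabilizer G α)) : piCoreOf {2}ᶜ (stabilizer G α) ≤ normalizer (dSub P : Set G) ∧
      ∀ u, IsInv u → u • α = α → u ∈ normalizer (dSub P : Set G) := by
  obtain ⟨E, h1, h2, h3, h4, h5⟩ := C.hE α
  have hX : P ⊔ E ≤ stabilizer G α := sup_le hP.le h2
  have h6 := fact C.hp2 (isSolvable_sup (hP.le.trans h3)
    (isSolvable_of_isPGroup hP.isPGroup) (solv_of_comm_le (odd_piCoreOf _) h5))
    (abTwo_sup (odd_piCoreOf _) (odd_card_of_isPGroup C.hp2 hP.isPGroup) (hP.le.trans h3) h5)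
    (hP.mono le_sup_left hX)
  rw [piCoreOf_eq_bot hc hX ((pCoreOf_le_sylow hP).trans le_sup_left), bot_sup_eq] at h6
  have h7 := le_sup_right.trans (h6.trans inf_le_right)
  exact ⟨h1.trans h7, fun u a b => h7 (h4 u b a)⟩

omit [IsSimpleGroup G] hp in
theorem mul_mem_O {α β : Ω} (hne : α ≠ β) {u v : G} (hu : IsInv u) (hv : IsInv v) (h1 : u • α = α)
    (h2 : v • α = α) (h3 : (u * v) • β = β) : u * v ∈ piCoreOf {2}ᶜ (stabilizer G α) :=
  C.mem_oddCore hu h1 (by rw [mul_smul, h2, h1])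
    (C.S.odd_orderOf hne (by rw [mul_smul, h2, h1]) h3) (Invol.inverts_mul hu.1 hv.1)

omit [IsSimpleGroup G] in
theorem stab_le_norm {α : Ω} {P : Subgroup G} (hP : IsSylowIn p P (CO G α))
    (hc : CharIn p (stabilizer G α)) {k : G} (hk : k • α = α)
    (h : ∀ u v, IsInv u → IsInv v → u • α = α → v • α = α →
      ∃ n : ℕ, k ^ n * u * (k ^ n)⁻¹ * v ∈ piCoreOf {2}ᶜ (stabilizer G α)) :
    stabilizer G α ≤ normalizer (dSub P : Set G) := by
  set H := stabilizer G α with hH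
  have hi : ∀ {u : H}, IsInv u → IsInv (u : G) := fun h =>
    ⟨congrArg Subtype.val h.1, fun e => h.2 (Subtype.ext e)⟩
  have hi' : ∀ {u : H}, IsInv (u : G) → IsInv u := fun h =>
    ⟨Subtype.ext h.1, fun e => h.2 (congrArg Subtype.val e)⟩
  obtain ⟨E, h1, -, -, h4, h5⟩ := C.hE α
  have hO : piCoreOf {2}ᶜ H ≤ CO G α := fun x hx => ⟨piCoreOf_le _ hx, fun u a b =>
    h5 x (h1 hx) u (h4 u b a)⟩
  have hS : St ((piCoreOf {2}ᶜ H).subgroupOf H) ((CO G α).subgroupOf H) ⟨k, hk⟩ := by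
    refine ⟨normal_subgroupOf_of_le_normalizer (le_normalizer_piCoreOf _), ?_,
      normal_subgroupOf_of_le_normalizer (le_normalizer_CO α), fun c hc u hu => hc.2 u (hi hu) u.2,
      fun u hu => ⟨u.2, fun v a b => h5 u (h4 u u.2 (hi hu)) v (h4 v b a)⟩, ?_,
      fun u v a b => h u v (hi a) (hi b) u.2 v.2⟩
    · rw [card_subgroupOf_of_le (piCoreOf_le _)]; exact odd_piCoreOf _
    · obtain ⟨a, ha, b, hb, h6, h7, h8, h9⟩ := C.S.rk2_stab C.hr α
      exact ⟨⟨a, ha⟩, mem_top _, ⟨b, hb⟩, mem_top _, hi' h6, hi' h7,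
        fun e => h8 (congrArg Subtype.val e), Subtype.ext h9⟩
  have h6 : CharIn p ((CO G α).subgroupOf H) := by
    refine CharIn.of_le (M := ⊤) ?_ le_top ?_
    · unfold CharIn
      rw [pCoreOf_top, top_inf_eq]
      exact charIn_iff.1 hc
    · rw [pCoreOf_top]
      exact fun x hx => hO (le_oddCore (pCoreOf_le _) (le_normalizer_pCoreOf _) (C.odd_R α)
        (mem_map_of_mem H.subtype hx))
  have h7 := map_normalizer_le' (hS.normal_dSub C.hp2 (fun u v a b => by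
    obtain ⟨d, hd, e⟩ := C.S.exists_conj_stab (hi a) (hi b) u.2 v.2
    exact ⟨⟨d, hd⟩, Subtype.ext e⟩) h6 (hP.subgroupOf (CO_le α))) H.subtype
  rwa [← dSub_map _ fun x _ e => Subtype.ext e, map_subtype_subgroupOf (hP.le.trans (CO_le α)),
    ← MonoidHom.range_eq_map, range_subtype] at h7

theorem false : False := by
  obtain ⟨α, β, P, hne, h1, h2, h3⟩ := C.exists_char
  set N := normalizer (dSub P : Set G) with hN
  have hPN : P ≤ N := le_normalizer.trans (normalizer_le_normalizer_dSub P)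
  have hNt : N ≠ ⊤ := C.dSub_ne_top h1.isPGroup (fun e => C.R_ne_bot α
    (eq_bot_iff.2 ((pCoreOf_le_sylow h1).trans e.le))) h1.le
  obtain ⟨h4, h5⟩ := C.le_norm_dSub h1 (h3 α)
  obtain ⟨-, h6⟩ := C.le_norm_dSub h2 (h3 β)
  obtain ⟨a, ha, haα⟩ := C.S.exists_inv α
  obtain ⟨b, hb, hbβ⟩ := C.S.exists_inv β
  obtain ⟨t, ht, -, -, e1, e2⟩ := C.S.exists_swap_mem ha hb haα hbβ hne (h5 a ha haα) (h6 b hb hbβ)
  have Bα := C.ih N α hNt (C.four h1) fun h => hne ((h ht).symm.trans e1)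
  have Bβ := C.ih N β hNt (C.four h2) fun h => hne (e2.symm.trans (h ht))
  set W := Ker N α with hW
  have hWβ : Ker N β = W := by rw [← e1]; exact Ker_smul α ht
  have hW1 : W ≤ stabilizer G α := Ker_le_stab' N α
  have hW2 : W ≤ stabilizer G β := hWβ ▸ Ker_le_stab' N β
  have hWn : N ≤ normalizer (W : Set G) := le_normalizer_Ker N α
  have hOW : piCoreOf {2}ᶜ (stabilizer G α) ≤ W := fun x hx => mem_Ker.2 ⟨h4 hx, fun m hm =>
    Bα.conc.c2 _ (le_inf h4 (piCoreOf_le _)) (odd_piCoreOf _)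
      (inf_le_right.trans (le_normalizer_piCoreOf _)) m hm hx⟩
  have hWC : W ≤ CO G α := fun w hw => ⟨hW1 hw, fun u c d => by
    rw [c.inv_eq]
    refine C.mul_mem_O hne (c.conj w) c (mul_mem (mul_mem (hW1 hw) d) (inv_mem (hW1 hw))) d
      (hW2 ?_)
    have := mul_mem hw (conj_mem_of_mem_normalizer (hWn (h5 u c d)) (inv_mem hw))
    rwa [c.inv_eq, ← mul_assoc, ← mul_assoc] at this⟩
  have hP := h1.inf_of_le_normalizer (CO_le α) (h1.le.trans (le_normalizer_CO α))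
  set T := P ⊓ CO G α with hT
  have hRO := le_oddCore (pCoreOf_le _) (le_normalizer_pCoreOf _) (C.odd_R α)
  obtain ⟨k, hk, h7⟩ := Bα.cyc
  have h8 := C.S.max_stab C.hr C.ih' (C.stab_le_norm hP (h3 α) hk.2 fun u v c d e f => by
    obtain ⟨n, hn⟩ := h7 u ⟨h5 u c e, e⟩ v ⟨h5 v d f, f⟩ c d
    have h0 : k ^ n ∈ stabilizer G α := pow_mem hk.2 n
    exact ⟨n, C.mul_mem_O hne (c.conj _) d (mul_mem (mul_mem h0 e) (inv_mem h0)) f (hW2 hn)⟩) (C.dSub_ne_top hP.isPGroup (fun e => C.R_ne_bot α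
    (eq_bot_iff.2 ((le_inf (pCoreOf_le_sylow h1) (hRO.trans (hOW.trans hWC))).trans e.le)))
    (inf_le_left.trans h1.le))
  have h9 : a • β ≠ β := C.S.smul_ne ha haα hne.symm
  obtain ⟨v, hvN, hv, hvβ, h10⟩ := Bβ.ct p hp.out C.hp2 T hP.isPGroup
    (inf_le_left.trans (le_inf hPN h2.le)) t ht a (h5 a ha haα) (by rw [e2]; exact hne) h9
    (by rw [e2]; exact (C.S.smul_ne' haα hne.symm).symm)
    (by rw [e2]; exact inf_le_left.trans h1.le) fun x hx => by
      have h11 := (mem_Ker.1 (hWβ.ge (hOW (hx.2.2 a ha haα)))).2 a (h5 a ha haα)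
      have h12 : x⁻¹ • β = β := inv_mem (h2.le hx.1)
      rwa [mul_smul, inv_smul_smul, mul_smul, h12, mul_smul] at h11
  rw [hWβ] at h10
  have hX : Odd (Nat.card ↥(T ⊔ W)) := odd_sup ((inf_le_left.trans hPN).trans hWn)
    (odd_card_of_isPGroup C.hp2 hP.isPGroup) (C.S.odd_of_le hne hW1 hW2)
  have hXC : T ⊔ W ≤ CO G α := sup_le inf_le_right hWC
  have h11 := piCoreOf_eq_bot (h3 α) (hXC.trans (CO_le α)) ((hRO.trans hOW).trans le_sup_right)
  have h12 := mem_norm_dSub C.hp2 (FT.feit_thompson hX) (abTwo_of_odd hX)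
    (hP.mono le_sup_left hXC) hv (le_normalizer_sup_of_commutator_le (L := zpowers v) ?_
      (zpowers_le_of_mem (hWn hvN)) (mem_zpowers v)) (by rw [h11]; simp) (by rw [h11]; exact bot_le)
  · exact hne (C.S.uniq v hv _ _ (h8 h12) hvβ)
  · refine commutator_le.2 fun x hx y hy => ?_
    rcases inv_cases hv hy with rfl | rfl
    · simp
    · exact h10 x hx

end Cb

theorem Cw.tc_of_simple [IsSimpleGroup G] (C : Cw G Ω)
    (hs : ∀ ω : Ω, Group.IsSolvable (Jg G ω)) : Tc G Ω := by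
  by_contra hT
  obtain ⟨p, hp, hp2, hR⟩ := exists_prime_J C.S hT hs
  have : Fact p.Prime := ⟨hp⟩
  exact Cb.false (p := p) ⟨C, fun α => exists_E_of_J C.S (hs α), hp2, hR⟩

end CfsgLib.SEB
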