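import Cfsg.Agent.Lib.SEB.L1

/-! Project SEB: groups that are doubly transitive on their commuting involutions, second part. -/

set_option autoImplicit false

namespace CfsgLib.SEB

open Subgroup Cfsg CfsgLib.Cop CfsgLib.H1 CfsgLib.SE CfsgLib.SEG Finset
open scoped commutatorElement

universe u

variable {G : Type*} [Group G]

theorem sum_sign {ι : Type*} (s : Finset ι) (p : ι → Prop) [DecidablePred p] :
    ∑ x ∈ s, (if p x then 1 else -1 : ℤ) = 2 * (s.filter p).card - s.card := by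
  rw [sum_ite, ← card_filter_add_card_filter_not p (s := s)]
  simp; ring

/-- the number of zeros of a quadratic form in terms of a maximal singular subspace -/
theorem count_sq [Finite G] {Z U L₀ : Subgroup G} (hZ : Z ≤ center G) (hU : U ≤ Z)
    (hsq : ∀ x, x * x ∈ Z) (hcm : ∀ x y : G, ⁅x, y⁆ ∈ Z)
    (h2 : ∀ a ∈ Z, ∀ b ∈ Z, a ∉ U → b ∉ U → a * b ∈ U) (h0 : Z ≤ L₀) (h1 : ∀ l ∈ L₀, l * l ∈ U) :
    ∃ L M : Subgroup G, L₀ ≤ L ∧ L ≤ M ∧ (∀ l ∈ L, ∀ m ∈ M, ⁅m, l⁆ ∈ U) ∧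
      2 * Nat.card {x : G // x * x ∈ U} + Nat.card M = 2 * Nat.card L + Nat.card G := by
  classical
  have := Fintype.ofFinite G
  obtain ⟨L, ⟨h3, h4⟩, hmax⟩ := exists_maximal_of_wellFoundedGT
    (fun L : Subgroup G => L₀ ≤ L ∧ ∀ l ∈ L, l * l ∈ U) ⟨L₀, le_rfl, h1⟩
  have hc : ∀ z ∈ Z, ∀ g, g * z = z * g := fun z hz g => mem_center_iff.1 (hZ hz) g
  have hc' : ∀ z ∈ Z, ∀ g, g * z * g⁻¹ = z := fun z hz g => conj_eq_iff.2 (hc z hz g)
  have e1 : ∀ x l : G, x * l * (x * l) = x * x * ⁅x, l⁆⁻¹ * (l * l) := fun x l => by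
    rw [← hc' _ (inv_mem (hcm x l)) x⁻¹, commutatorElement_def]; group
  have e2 : ∀ x l k : G, ⁅x, l * k⁆ = ⁅x, l⁆ * ⁅x, k⁆ := fun x l k => by
    rw [← hc' _ (hcm x k) l]; simp only [commutatorElement_def]; group
  have e3 : ∀ x k l : G, ⁅x * k, l⁆ = ⁅k, l⁆ * ⁅x, l⁆ := fun x k l => by
    rw [← hc' _ (hcm k l) x]; simp only [commutatorElement_def]; group
  let M : Subgroup G :=
    { carrier := {x | ∀ l ∈ L, ⁅x, l⁆ ∈ U}
      one_mem' := fun l _ => by simp
      mul_mem' := fun {x k} hx hk l hl => e3 x k l ▸ mul_mem (hk l hl) (hx l hl)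
      inv_mem' := fun {x} hx l hl => by
        have := e3 x x⁻¹ l
        rw [mul_inv_cancel, commutatorElement_one_left] at this
        exact (mul_mem_cancel_right (hx l hl)).1 (this ▸ one_mem U) }
  have hLM : L ≤ M := fun x hx l hl => by
    have := h4 _ (mul_mem hx hl)
    rwa [e1, mul_mem_cancel_right (h4 l hl), mul_mem_cancel_left (h4 x hx), inv_mem_iff] at this
  refine ⟨L, M, h3, hLM, fun l hl m hm => hm l hl, ?_⟩
  let χ : G → ℤ := fun z => if z ∈ U then 1 else -1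
  have hχ : ∀ a ∈ Z, ∀ b ∈ Z, χ (a * b) = χ a * χ b := fun a ha b hb => by
    by_cases c1 : a ∈ U <;> by_cases c2 : b ∈ U
    · simp [χ, c1, c2, mul_mem c1 c2]
    · simp [χ, c1, c2, mul_mem_cancel_left c1]
    · simp [χ, c1, c2, mul_mem_cancel_right c2]
    · simp [χ, c1, c2, h2 a ha b hb c1 c2]
  have e4 : ∀ x, ∀ l ∈ L, χ (x * l * (x * l)) = χ (x * x) * χ ⁅x, l⁆ := fun x l hl => by
    rw [e1, hχ _ (mul_mem (hsq x) (inv_mem (hcm x l))) _ (hsq l), hχ _ (hsq x) _ (inv_mem (hcm x l))]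
    simp only [χ, h4 l hl, inv_mem_iff, if_true, mul_one]
  have e5 : ∀ x, ∑ l : L, χ ⁅x, (l : G)⁆ = if x ∈ M then (Nat.card L : ℤ) else 0 := fun x => by
    split_ifs with hx
    · rw [sum_congr rfl fun (l : L) _ => show χ ⁅x, (l : G)⁆ = 1 from if_pos (hx l l.2)]
      simp
    · let ψ : L →* ℤ :=
        { toFun := fun l => χ ⁅x, (l : G)⁆
          map_one' := by simp [χ]
          map_mul' := fun l k => by rw [Subgroup.coe_mul, e2, hχ _ (hcm _ _) _ (hcm _ _)] }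
      refine sum_hom_units_eq_zero ψ fun e => hx fun l hl => ?_
      have : χ ⁅x, l⁆ = 1 := DFunLike.congr_fun e ⟨l, hl⟩
      by_contra h5
      simp [χ, h5] at this
  have e6 : (Nat.card L : ℤ) * ∑ x, χ (x * x) =
      Nat.card L * ∑ x ∈ univ.filter (· ∈ M), χ (x * x) := by
    calc _ = ∑ l : L, ∑ x, χ (x * l * (x * l)) := by
          rw [sum_congr rfl fun (l : L) _ => show ∑ x, χ (x * l * (x * l)) = _ from
            Equiv.sum_comp (Equiv.mulRight (l : G)) fun x => χ (x * x)]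
          simp
      _ = ∑ x, χ (x * x) * ∑ l : L, χ ⁅x, (l : G)⁆ := by
          rw [sum_comm]
          exact sum_congr rfl fun x _ => by
            rw [mul_sum]; exact sum_congr rfl fun l _ => e4 x l l.2
      _ = _ := by simp only [e5, mul_ite, mul_zero, zero_mul, sum_filter, mul_sum, mul_comm]
  have e7 : (univ.filter (· ∈ M)).filter (fun x => x * x ∈ U) = univ.filter (· ∈ L) := by
    ext x
    simp only [mem_filter, mem_univ, true_and]
    refine ⟨fun hx => hmax (y := L ⊔ zpowers x) ⟨h3.trans le_sup_left, fun g hg => ?_⟩ le_sup_left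
      (mem_sup_right (mem_zpowers x)), fun hx => ⟨hLM hx, h4 x hx⟩⟩
    have hn : L.Normal := ⟨fun l hl g => by
      have := mul_mem (h3 (h0 (hcm g l))) hl
      rwa [commutatorElement_def, inv_mul_cancel_right] at this⟩
    obtain ⟨j, hj, l, hl, rfl⟩ := (mem_sup_iff_of_le_normalizer
      (le_top.trans le_normalizer_of_normal)).1 (sup_comm L _ ▸ hg)
    rw [e1]
    refine mul_mem (mul_mem ?_ (inv_mem (zpowers_le_of_mem (H := M) hx.1 hj l hl))) (h4 l hl)
    obtain ⟨n, rfl⟩ := hj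
    exact (Commute.refl x).mul_zpow n ▸ zpow_mem hx.2 n
  have e8 := mul_left_cancel₀ (by exact_mod_cast Nat.card_pos.ne') e6
  rw [sum_sign, sum_sign, e7] at e8
  simp only [Nat.card_eq_fintype_card, Fintype.card_subtype]
  rw [card_univ] at e8
  omega

namespace LY

variable [Finite G] {y b c w : G} (h : LY y b c w)
include h

theorem false_of_comm (hc : ∀ p ∈ h.Q, ∀ q ∈ h.Q, p * q = q * p) : False := by
  have hn := h.Q_normal
  have hy := conj_eq_iff.2 h.yw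
  have hty : ∀ a, Tv w a → Tv w (y * a * y⁻¹) := fun a ha => hy ▸ ha.conj y
  have hsq : ∀ a, Tv w a → a * a ∈ h.Q := fun a ha => h.mem_Q.2 fun z hz => ha.sq h.iw hz
  have hp : ∀ n, ∀ p ∈ h.Q, ∀ q ∈ h.Q, (p * q) ^ n = p ^ n * q ^ n := fun n p hp q hq =>
    Commute.mul_pow (hc p hp q hq) n
  have key : ∀ (s : ℕ) (a : G), Tv w a → a ∉ h.Q →
      a * (y * a * y⁻¹) * (y * (y * a * y⁻¹) * y⁻¹) = 1 → (a * a) ^ 2 ^ s ≠ 1 := by
    intro s
    induction s with
    | zero => exact fun a _ h1 _ e => h1 (h.Z_le_Q (h.mem_Z.2 (by simpa using e)))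
    | succ s ih =>
      intro a ht h1 h2 e
      rw [pow_succ, pow_mul, pow_two] at e
      have hi : IsInv ((a * a) ^ 2 ^ s) := ⟨e, ih a ht h1 h2⟩
      have a1 : ∀ g x : G, (g * x * g⁻¹ * (g * x * g⁻¹)) ^ 2 ^ s = g * (x * x) ^ 2 ^ s * g⁻¹ :=
        fun g x => by rw [← conj_mul', conj_pow]
      set i := (a * a) ^ 2 ^ s with hidef
      set a' := y * a * y⁻¹ with ha'
      set a'' := y * a' * y⁻¹ with ha''
      have q1 := hsq a ht
      have q2 := hsq a' (hty a ht)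
      have q3 := hsq a'' (hty a' (hty a ht))
      have a2 : a⁻¹ * a' * a * a'⁻¹ = (a' * a' * (a'' * a'' * (a * a)))⁻¹ := by
        rw [← inv_eq_of_mul_eq_one_right h2]; group
      have q4 : a⁻¹ * a' * a * a'⁻¹ ∈ h.Q := a2 ▸ inv_mem (mul_mem q2 (mul_mem q3 q1))
      have a3 : (a⁻¹ * a' * a * a'⁻¹) ^ 2 ^ s = 1 ∨ (a⁻¹ * a' * a * a'⁻¹) ^ 2 ^ s = w := by
        rw [a2, inv_pow, hp _ _ q2 _ (mul_mem q3 q1), hp _ _ q3 _ q1, a1, a1 y a', a1, ← hidef,
          ← mul_assoc, h.comm' (h.Z.mul_mem (sq_conj e y) (sq_conj (sq_conj e y) y)) e,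
          ← mul_assoc i]
        rcases h.tr_mem e with e1 | e1 <;> rw [e1]
        · exact Or.inl inv_one
        · exact Or.inr h.iw.inv_eq
      have a4 : a' * i * a'⁻¹ = i := by
        have e1 : a' * a * a'⁻¹ * (a' * a * a'⁻¹) = a * a * (a⁻¹ * (a⁻¹ * a' * a * a'⁻¹) * a⁻¹⁻¹ *
            (a⁻¹ * a' * a * a'⁻¹)) := by group
        rw [← a1, e1, hp _ _ q1 _ (mul_mem (hn.conj_mem _ q4 _) q4), hp _ _ (hn.conj_mem _ q4 _) _ q4,
          conj_pow]
        rcases a3 with e2 | e2 <;> rw [e2]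
        · simp [hidef]
        · rw [(ht.inv h.iw).fix h.iw, h.iw.1, mul_one]
      have a5 : a * i * a⁻¹ = i := by rw [← a1]; simp [hidef]
      have a6 : i = w := by
        by_contra e1
        have h3 : ∀ z, a * z * a⁻¹ = z → z ∈ centralizer {a} := fun z e =>
          mem_centralizer_singleton_iff.2 (conj_eq_iff.1 e).symm
        have h4 := h.eight_le (inf_le_left : h.Z ⊓ centralizer {a} ≤ _)
          ⟨h.iw.1, h3 _ (ht.fix h.iw)⟩ hi e1 ⟨e, h3 _ a5⟩ ⟨sq_conj e y, h3 _ (by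
            have e2 : a'' * i * a''⁻¹ = i := by
              rw [← inv_eq_of_mul_eq_one_right h2]
              exact mem_cent1.1 (inv_mem (mul_mem (mem_cent1.2 a5) (mem_cent1.2 a4)))
            nth_rw 2 [← e2]
            nth_rw 1 2 [← h.conj3 a]
            rw [← ha', ← ha'']; group)⟩
        refine h1 fun z hz => mem_centralizer_singleton_iff.1 ?_
        exact ((eq_of_le_of_card_le inf_le_left (h.card_Z.trans_le h4)).ge hz).2
      obtain ⟨x, hx, e1⟩ := h.exists_move ht h1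
      obtain ⟨v, v', k, e2⟩ : ∃ v v', Cyc y v v' ∧ a * v * a⁻¹ = w * v := by
        rcases h.cyc_or hx (fun e2 => h.iw.2 (by
          rw [e2, ht.fix h.iw] at e1; simpa using e1)) with k | k
        · exact ⟨_, _, k, e1⟩
        · exact ⟨_, _, k, by rw [conj_mul', ht.fix h.iw, e1]⟩
      obtain ⟨g, e3⟩ := h.tr1 h.iw k.ic
      set q := g * (a * a) * g⁻¹ with hq
      have q5 : q ∈ h.Q := hn.conj_mem _ q1 g
      have q6 : y * q * y⁻¹ ∈ h.Q := hn.conj_mem _ q5 y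
      have q7 := mul_mem q6 (inv_mem q5)
      have a7 : (y * q * y⁻¹ * q⁻¹) ^ 2 ^ s = v := by
        rw [hp _ _ q6 _ (inv_mem q5), inv_pow, conj_pow, hq, conj_pow, ← hidef, a6, e3, k.e2,
          mul_inv_cancel_right]
      refine ih (q⁻¹ * a * (y * q * y⁻¹)) (((h.tv_of_Q (inv_mem q5)).mul h.iw ht).mul h.iw
        (h.tv_of_Q q6)) (by rwa [mul_mem_cancel_right q6, mul_mem_cancel_left (inv_mem q5)]) ?_ ?_
      · calc _ = q⁻¹ * (a * a' * a'') * (y * (y * (y * q * y⁻¹) * y⁻¹) * y⁻¹) := by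
              rw [ha'', ha']; group
          _ = 1 := by rw [h2, h.conj3]; simp
      · have e4 : q⁻¹ * a * (y * q * y⁻¹) * (q⁻¹ * a * (y * q * y⁻¹)) = q⁻¹ * (a * a *
            (a⁻¹ * (y * q * y⁻¹ * q⁻¹) * a⁻¹⁻¹ * (y * q * y⁻¹ * q⁻¹))) * q⁻¹⁻¹ := by group
        have e5 : a⁻¹ * v * a⁻¹⁻¹ = w * v := by
          nth_rw 1 [show v = a * (w * v) * a⁻¹ by rw [conj_mul', ht.fix h.iw, e2, h.iw.mul_mul]]
          group
        rw [e4, conj_pow, hp _ _ q1 _ (mul_mem (hn.conj_mem _ q7 _) q7),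
          hp _ _ (hn.conj_mem _ q7 _) _ q7, conj_pow, a7, ← hidef, a6, e5, mul_assoc w v, k.ib.1,
          mul_one, h.iw.1]
        simp
  obtain ⟨a, ht, h1⟩ := h.exists_tv
  have h2 := (ht.inv h.iw).mul h.iw (hty a ht)
  obtain ⟨s, hs⟩ := h.Q_two ⟨_, hsq _ h2⟩
  refine key s _ h2 (fun e => ?_) ?_ (congrArg Subtype.val hs)
  · obtain ⟨x, hx, e1⟩ := h.exists_move ht h1
    have h3 : ∀ z, z * z = 1 → a * z * a⁻¹ = w * z →
        a * (y * z * y⁻¹) * a⁻¹ = w * (y * z * y⁻¹) := fun z hz e2 => by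
      nth_rw 1 [← h.mem_Q.1 e _ (sq_conj hz y)]
      calc _ = y * (a * z * a⁻¹) * y⁻¹ := by group
        _ = _ := by rw [e2, conj_mul', hy]
    have h4 := h3 x hx.1 e1
    have h5 := h3 _ (sq_conj hx.1 y) h4
    have h6 : a * (x * (y * x * y⁻¹) * (y * (y * x * y⁻¹) * y⁻¹)) * a⁻¹ =
        w * (x * (y * x * y⁻¹) * (y * (y * x * y⁻¹) * y⁻¹)) := by
      rw [conj_mul' a, conj_mul' a x, e1, h4, h5, mul_assoc w x, ← mul_assoc x w,
        h.comm' hx.1 h.iw.1, mul_assoc w x, h.iw.mul_mul, ← mul_assoc _ w,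
        h.comm' (h.Z.mul_mem hx.1 (sq_conj hx.1 y)) h.iw.1, mul_assoc w]
    rcases h.tr_mem hx.1 with e2 | e2 <;> rw [e2] at h6
    · exact h.iw.2 (by simpa using h6.symm)
    · rw [ht.fix h.iw] at h6
      exact h.iw.2 (by simpa using h6)
  · calc _ = a⁻¹ * (y * (y * (y * a * y⁻¹) * y⁻¹) * y⁻¹) := by group
      _ = 1 := by rw [h.conj3, inv_mul_cancel]

theorem sz2 : ∃ K, Suz.Sz2 h.Q K := by
  have : Fact (Nat.Prime 7) := ⟨by norm_num⟩
  have hn := h.Q_normal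
  have h1 : {v : G | IsInv v}.ncard = 7 := by
    have e : {v : G | IsInv v} = (h.Z : Set G) \ {1} := Set.ext fun v => Iff.rfl
    rw [e, Set.ncard_sdiff_singleton_of_mem (one_mem _)]
    exact congrArg (· - 1) h.card_Z
  have h2 : (centralizer {w}).relIndex (⊤ : Subgroup G) = 7 := by
    rw [← Frob.ncard_conj_subgroup, ← h1]
    congr 1
    ext v
    refine ⟨?_, fun hv => (h.tr1 h.iw hv).imp fun g e => ⟨mem_top g, e⟩⟩
    rintro ⟨x, -, rfl⟩
    exact h.iw.conj x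
  obtain ⟨k, hk⟩ := exists_prime_orderOf_dvd_card' (G := G) 7 (by
    rw [← h2, relIndex_top_right]; exact index_dvd_card _)
  have hc : Nat.card (zpowers k) = 7 := by rw [Nat.card_zpowers, hk]
  have ho : ∀ x ∈ zpowers k, Odd (orderOf x) := fun x hx =>
    odd_orderOf_of_mem (by rw [hc]; decide) hx
  obtain ⟨u, hu, h3⟩ : ∃ u, IsInv u ∧ k * u ≠ u * k := by
    by_contra h3
    push Not at h3
    rw [h.eq_one h.k.ib h.k.ic h.k.ne (ho k (mem_zpowers k)) (h3 b h.k.ib) (h3 c h.k.ic)] at hk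
    simp at hk
  have h4 : ∀ v, IsInv v → ∃ x ∈ zpowers k, x * u * x⁻¹ = v := fun v hv => by
    have h5 : (centralizer {u}).relIndex (zpowers k) = 7 :=
      ((Nat.dvd_prime Fact.out).1 (hc ▸ relIndex_dvd_card _ _)).resolve_left fun e =>
        h3 (mem_centralizer_singleton_iff.1 (relIndex_eq_one.1 e (mem_zpowers k)))
    rw [← Frob.ncard_conj_subgroup, ← h1] at h5
    exact (Set.eq_of_subset_of_ncard_le (by rintro _ ⟨x, -, rfl⟩; exact hu.conj x) h5.ge).ge hv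
  have h5 : ∀ x ∈ zpowers k, ∀ z ∈ zpowers k, x * z = z * x :=
    H5.isMulCommutative_iff'.1 inferInstance
  refine ⟨zpowers k, h.Q_two, fun g _ x hx => by simpa using hn.conj_mem x hx g⁻¹, inferInstance,
    ⟨b, h.Z_le_Q h.k.ib.1, c, h.Z_le_Q h.k.ic.1, h.k.ib.2, h.k.ic.2, h.k.ne, h.k.ib.1, h.k.ic.1⟩,
    fun v _ v' _ a1 a2 a3 a4 => ?_, fun g hg hg1 x hx e => ?_⟩
  · obtain ⟨x, hx, rfl⟩ := h4 v ⟨a2, a1⟩
    obtain ⟨z, hz, rfl⟩ := h4 v' ⟨a4, a3⟩
    exact ⟨x * z⁻¹, mul_mem hx (inv_mem hz), by group⟩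
  · by_contra hx1
    obtain ⟨v, hv, hi⟩ := exists_inv_center (h.Q_two.to_le (zpowers_le_of_mem hx)) (by simpa)
    have h6 := conj_eq_iff.2 (mem_cent_of_le (zpowers_le_of_mem
      (mem_centralizer_singleton_iff.2 e.symm)) v hv.1).symm
    have h7 : ∀ v', IsInv v' → g * v' = v' * g := fun v' hv' => by
      obtain ⟨r, hr, rfl⟩ := h4 v hi
      obtain ⟨z, hz, rfl⟩ := h4 v' hv'
      rw [← conj_comp, h5 g hg r hr, conj_comp] at h6
      rw [← conj_eq_iff, ← conj_comp, h5 g hg z hz, conj_comp]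
      simpa using h6
    exact hg1 (h.eq_one h.k.ib h.k.ic h.k.ne (ho g hg) (h7 b h.k.ib) (h7 c h.k.ic))

theorem card_sq {V : Subgroup G} (hV : V ≤ h.Z) : Nat.card {x : h.Q // (x : G) * x ∈ V} =
    8 + (Nat.card V - 1) * Nat.card {x : h.Q // (x : G) * x = w} := by
  classical
  have := Fintype.ofFinite G
  have := h.Q_normal
  have h1 : ∀ z, IsInv z → #{x : h.Q | (x : G) * x = z} = #{x : h.Q | (x : G) * x = w} := by
    intro z hz
    obtain ⟨g, rfl⟩ := h.tr1 h.iw hz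
    refine (card_equiv (MulAut.conjNormal g : MulAut h.Q).toEquiv fun x => ?_).symm
    simp [← conj_mul']
  have h2 : #{x : h.Q | (x : G) * x = 1} = 8 := by
    rw [← h.card_Z, ← card_subgroupOf_of_le h.Z_le_Q, Nat.card_eq_fintype_card,
      Fintype.card_subtype]
    rfl
  simp only [Nat.card_eq_fintype_card, Fintype.card_subtype]
  rw [card_eq_sum_card_fiberwise (f := fun x : h.Q => (x : G) * x) (t := univ.filter (· ∈ V))
    fun x hx => by simpa using hx, ← add_sum_erase (a := 1) _ _ (by simp),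
    sum_congr rfl (g := fun _ => #{x : h.Q | (x : G) * x = w}) fun z hz => ?_, sum_const,
    card_erase_of_mem (by simp), ← h2, filter_filter]
  · congr 2
    exact filter_congr fun x _ => ⟨fun e => e.2, fun e => ⟨e ▸ one_mem V, e⟩⟩
  · simp only [mem_erase, mem_filter, mem_univ, true_and] at hz
    rw [← h1 z ⟨hV hz.2, hz.1⟩, filter_filter]
    exact congrArg _ (filter_congr fun x _ => ⟨fun e => e.2, fun e => ⟨e ▸ hz.2, e⟩⟩)

theorem false : False := by
  by_cases hc : IsMulCommutative h.Q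
  · exact h.false_of_comm (H5.isMulCommutative_iff'.1 hc)
  have hn := h.Q_normal
  have hZn := h.Z_normal
  obtain ⟨K, hK⟩ := h.sz2
  have hQ0 : Suz.Q0g h.Q = h.Z := Subgroup.ext fun x =>
    hK.mem_Q0g.trans ⟨fun e => e.2, fun e => ⟨h.Z_le_Q e, e⟩⟩
  obtain ⟨h1, h2, -, h4⟩ := hK.higman hc
  rw [hQ0] at h1 h2 h4
  rw [h.card_Z] at h4
  obtain ⟨a, ht, ha⟩ := h.exists_tv
  obtain ⟨x₀, hx₀, e₀⟩ := h.exists_move ht ha
  have hm : ∀ {z : G}, z ∈ centralizer {a} ↔ a * z * a⁻¹ = z :=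
    mem_centralizer_singleton_iff.trans (eq_comm.trans conj_eq_iff.symm)
  have hx₁ : x₀ ∉ centralizer {a} := fun e => h.iw.2 (by rw [hm.1 e] at e₀; simpa using e₀)
  set U := h.Z ⊓ centralizer {a} with hU
  have hU4 : Nat.card U = 4 := by
    have a1 := h.relIndex_le h.iw ht le_rfl
    have a2 := card_dvd_of_le (inf_le_left : U ≤ h.Z)
    have a3 : Nat.card U ≠ 8 := fun e =>
      hx₁ ((eq_of_le_of_card_le inf_le_left (h.card_Z.trans e.symm).le).ge hx₀.1).2
    rw [h.card_Z, ← hU] at *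
    have a4 := Nat.le_of_dvd (by norm_num) a2
    generalize Nat.card U = n at a1 a2 a3 a4
    interval_cases n <;> omega
  set f := QuotientGroup.mk' h.Z with hf
  have hf1 : ∀ {x : G}, f x = 1 ↔ x ∈ h.Z := QuotientGroup.eq_one_iff _
  set D := h.Q.map f ⊓ centralizer {f a} with hD
  have hD1 : Nat.card h.Q ≤ 8 * (Nat.card D * Nat.card D) := by
    rw [← card_map_mk'_mul_card_inf h.Q h.Z, inf_eq_left.2 h.Z_le_Q, h.card_Z, mul_comm,
      ← SE.card_inf_mul_relIndex (centralizer {f a})]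
    refine Nat.mul_le_mul_left _ (Nat.mul_le_mul_left _ (relIndex_cent_le ?_))
    rintro _ ⟨x, hx, rfl⟩
    have a1 : a * x⁻¹ * a⁻¹ ∈ h.Q := hn.conj_mem _ (inv_mem hx) a
    have a2 : ⁅x, a⁆ = x * (a * x⁻¹ * a⁻¹) := by rw [commutatorElement_def]; group
    rw [← map_commutatorElement]
    refine ⟨mem_map_of_mem f (a2 ▸ mul_mem hx a1), mem_centralizer_singleton_iff.2 ?_⟩
    have a3 : ∀ p ∈ h.Q, ∀ q ∈ h.Q, f p * f q = f q * f p := fun p hp q hq => by
      rw [← commutatorElement_eq_one_iff_mul_comm, ← map_commutatorElement, hf1]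
      exact h2 p hp q hq
    have a4 : ∀ p ∈ h.Q, (f p)⁻¹ = f p := fun p hp =>
      inv_eq_of_mul_eq_one_right (by rw [← map_mul, hf1]; exact h1 p hp)
    have a5 := conj_eq_iff.2 (a3 _ (h.mem_Q.2 fun z hz => ht.sq h.iw hz) x hx)
    have a6 := a3 _ a1 x hx
    simp only [map_mul, map_inv, a4 x hx] at a5 a6
    rw [eq_comm, ← conj_eq_iff, a2, ← hf]
    simp only [map_mul, map_inv, a4 x hx]
    rw [conj_mul', ← conj_comp, a5, a6]
  set L₀ := D.comap f with hL₀
  have hL1 : Nat.card L₀ = Nat.card D * 8 := by rw [hL₀, hf, card_comap_mk', h.card_Z]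
  have hL2 : ∀ x ∈ L₀, x ∈ h.Q ∧ a * x * a⁻¹ * x⁻¹ ∈ h.Z := fun x hx => by
    obtain ⟨⟨q, hq, e⟩, e'⟩ := hx
    refine ⟨?_, hf1.1 ?_⟩
    · have : q⁻¹ * x ∈ h.Z := hf1.1 (by rw [map_mul, map_inv, e, inv_mul_cancel])
      simpa using mul_mem hq (h.Z_le_Q this)
    · simp only [map_mul, map_inv, ← mem_centralizer_singleton_iff.1 e']
      simp
  obtain ⟨L, M, a1, a2, a3, a4⟩ := count_sq (G := h.Q) (Z := h.Z.subgroupOf h.Q)
    (U := U.subgroupOf h.Q) (L₀ := L₀.subgroupOf h.Q)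
    (fun z hz => mem_center_iff.2 fun g => Subtype.ext (g.2 z hz).symm)
    (fun z hz => hz.1) (fun x => h1 x x.2) (fun x y => h2 x x.2 y y.2)
    (fun p hp q hq e1 e2 => ⟨mul_mem hp hq, hm.2 (by
      change a * (p * q) * a⁻¹ = p * q
      rw [conj_mul', (ht p hp).resolve_left fun e => e1 ⟨hp, hm.2 e⟩,
        (ht q hq).resolve_left fun e => e2 ⟨hq, hm.2 e⟩, h.comm' (b := p) h.iw.1 hp, mul_assoc,
        h.iw.mul_mul])⟩)
    (fun z hz => ⟨mem_map_of_mem f z.2, by rw [hf1.2 hz]; exact one_mem _⟩)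
    fun l hl => ⟨h1 l l.2, hm.2 (by
      have b1 := (hL2 l hl).2
      have b2 : a * l * a⁻¹ = a * l * a⁻¹ * (l : G)⁻¹ * l := by group
      change a * (l * l) * a⁻¹ = l * l
      rw [conj_mul', b2]
      generalize a * l * a⁻¹ * (l : G)⁻¹ = z at b1
      rw [mul_assoc z, ← mul_assoc (l : G), ← l.2 z b1, mul_assoc z, ← mul_assoc, b1, one_mul])⟩
  have a5 := h.card_sq (V := U) inf_le_left
  have a6 := h.card_sq le_rfl
  rw [Nat.card_congr (Equiv.subtypeUnivEquiv fun x : h.Q => h1 x x.2), h.card_Z] at a6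
  have a7 := card_le_of_le a1
  rw [card_subgroupOf_of_le fun x hx => (hL2 x hx).1, hL1] at a7
  have a8 := card_dvd_of_le a2
  have a9 := card_subgroup_dvd_card M
  rw [hU4] at a5
  change 2 * Nat.card {x : h.Q // (x : G) * x ∈ U} + _ = _ at a4
  rcases h4 with e | e <;> rw [e] at hD1 a4 a6 a9
  · have b1 : 3 ≤ Nat.card D := by nlinarith
    have b2 : Nat.card M = 8 ^ 2 :=
      (Nat.eq_of_dvd_of_lt_two_mul (by norm_num) a9 (by omega)).symm
    have b3 : M = ⊤ := eq_top_of_card_eq M (b2.trans e.symm)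
    have b4 : L.index = 2 := by
      have := L.card_mul_index
      rw [e, show Nat.card L = 32 by omega] at this
      omega
    have b5 : ∀ p q : h.Q, ⁅(p : G), (q : G)⁆ ∈ U := fun p q => by
      by_cases c1 : q ∈ L
      · exact a3 q c1 p (b3 ▸ mem_top p)
      by_cases c2 : p ∈ L
      · rw [← commutatorElement_inv]
        exact inv_mem (a3 p c2 q (b3 ▸ mem_top q))
      have c3 := a3 _ ((mul_mem_iff_of_index_two b4).2 (iff_of_false c1 c2)) p (b3 ▸ mem_top p)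
      have c4 : ⁅p, q * p⁆ = ⁅p, q⁆ := by simp only [commutatorElement_def]; group
      rw [c4] at c3
      exact c3
    obtain ⟨p, hp, q, hq, b6⟩ : ∃ p ∈ h.Q, ∃ q ∈ h.Q, ⁅p, q⁆ ≠ 1 := by
      by_contra b6
      push Not at b6
      exact hc (H5.isMulCommutative_iff'.2 fun p hp q hq =>
        commutatorElement_eq_one_iff_mul_comm.1 (b6 p hp q hq))
    obtain ⟨g, b7⟩ := h.tr1 ⟨h2 p hp q hq, b6⟩ hx₀
    have := (b5 ⟨_, hn.conj_mem p hp g⟩ ⟨_, hn.conj_mem q hq g⟩).2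
    rw [← conjugate_commutatorElement, b7] at this
    exact hx₁ this
  · have b1 : 8 ≤ Nat.card D := by nlinarith
    have b2 : Nat.card M = 64 + Nat.card L * 2 := by omega
    rw [b2] at a8 a9
    have b3 := Nat.le_of_dvd (by norm_num) ((Nat.dvd_add_left (Dvd.intro _ rfl)).1 a8)
    rw [show Nat.card L = 64 by omega] at a9
    norm_num at a9

end LY

theorem LT.false (G : Type u) [Group G] [Finite G] : ¬ LT G := by
  revert G
  refine card_induction fun G _ _ ih h => ?_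
  have h1 : LM G := ⟨h, fun u v hu hv hne => by
    by_contra h1
    obtain ⟨p, hp, hp2, hd⟩ : ∃ p : ℕ, p.Prime ∧ p ≠ 2 ∧
        p ∣ Nat.card ↥(centralizer {u} ⊓ centralizer {v}) := by
      by_contra h2
      push Not at h2
      exact h1 (IsPGroup.of_card (Nat.eq_prime_pow_of_unique_prime_dvd Nat.card_pos.ne'
        fun hp hd => by_contra fun e => h2 _ hp e hd))
    have : Fact p.Prime := ⟨hp⟩
    obtain ⟨P, hP⟩ := IsSylowIn.exists_in (p := p) (centralizer {u} ⊓ centralizer {v})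
    have h2 : Nat.card (P.subgroupOf (normalizer (P : Set G))) = Nat.card P :=
      card_subgroupOf_of_le le_normalizer
    refine ih _ ?_ ((h.norm hp2 hu hv hne hP).map
      (QuotientGroup.mk'_surjective (P.subgroupOf (normalizer (P : Set G)))) (by
        rw [QuotientGroup.ker_mk', h2]; exact odd_card_of_isPGroup hp2 hP.isPGroup))
    refine lt_of_lt_of_le ?_ (card_le_card_group (normalizer (P : Set G)))
    rw [card_eq_card_quotient_mul_card_subgroup (P.subgroupOf (normalizer (P : Set G))), h2]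
    exact lt_mul_of_one_lt_right Nat.card_pos ((one_lt_card_iff_ne_bot P).2 (hP.ne_bot hd))⟩
  obtain ⟨y, b, c, w, k, e1, e2, e3⟩ := h1.exists_cyc
  exact LY.false ⟨h1, k, e1, e2, e3⟩

end CfsgLib.SEB
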