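import Cfsg.Agent.Lib.SEB.Frob
import Cfsg.Agent.Lib.SEB.CaseB
import Cfsg.Agent.Lib.SEB.L2

/-! Project SEB: the involutions fixing a point commute. -/

set_option autoImplicit false

namespace CfsgLib.SEB

open Subgroup MulAction Cfsg CfsgLib.Cop CfsgLib.H1 CfsgLib.SE CfsgLib.SEG
open scoped commutatorElement

variable {G Ω : Type*} [Group G] [MulAction G Ω] [Finite G]

omit [Finite G] in
theorem solv_of_der {E : Subgroup G} (h : Group.IsSolvable ↥⁅E, E⁆) : Group.IsSolvable E := by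
  refine isSolvable_of_normal_of_quotient (_root_.commutator E) (isSolvable_of_equiv
    ((_root_.commutator E).equivMapOfInjective _ E.subtype_injective).symm ?_)
      (inferInstanceAs (Group.IsSolvable (Abelianization E)))
  rwa [map_subtype_commutator]

theorem Cy.solv_of_Tw (C : Cy G Ω) {α β : Ω} (h : α ≠ β) {N : Subgroup G}
    (h1 : N ≤ stabilizer G α) (h2 : stabilizer G α ≤ normalizer (N : Set G))
    (h3 : Tw N ⊓ st2 G α β = ⊥) : Group.IsSolvable N := by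
  have : Fact (Nat.Prime 2) := ⟨Nat.prime_two⟩
  obtain ⟨t, ht, e1, e2⟩ := C.S.exists_swap h
  have hD := C.S.odd_st2 h
  obtain ⟨y, hy, hy1, e⟩ := exists_inverted ht (mem_normalizer_st2 e1 e2) fun e =>
    C.S.nJ_ne_one C.hr α (by rw [← C.S.relIndex_cent_swap h ht e1]; exact relIndex_eq_one.2 e)
  obtain ⟨ℓ, hl, k, hk, e3⟩ := exists_prime_pow hy1
  have : Fact ℓ.Prime := ⟨hl⟩
  have hkD := zpowers_le_of_mem (zpowers_le_of_mem hy hk)
  have e4 := Invol.inverts_of_mem_zpowers e hk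
  have h4 : ¬ Fix3 Ω (zpowers k) := fun h4 => by
    have h5 := mem_centralizer_singleton_iff.1 (C.le_cent_of_fix3
      (ne_two_of_odd (odd_orderOf_of_mem hD (hkD (mem_zpowers k))) e3.symm.dvd)
      (isPGroup_zpowers_of e3) h4 ht (mem_normalizer_of_conj_mem fun x hx => by
        rw [Invol.inverts_of_mem_zpowers e4 hx]; exact inv_mem hx) (mem_zpowers k))
    rw [← h5, mul_inv_cancel_right] at e4
    rw [Invol.eq_one_of_odd (odd_orderOf_of_mem hD (hkD (mem_zpowers k)))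
      (by nth_rw 2 [e4]; exact mul_inv_cancel k), orderOf_one] at e3
    exact hl.ne_one e3.symm
  have h5 := H5.isNilpotent_of_fpf hl (K := Tw N) (normalizer_le_normalizer_Tw N
    (h2 (hkD (mem_zpowers k)).1)) (e3 ▸ pow_orderOf_eq_one k) fun x hx e5 => by
      have h6 : x • α = α := h1 (Tw_le N hx)
      exact mem_bot.1 (h3 ▸ ⟨hx, h6, eq_of_not_fix3 h4 (smul_ne_of_fix h6 h.symm) h.symm
        (hkD.trans inf_le_left) (zpowers_le_of_mem (smul_smul_of_comm e5.symm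
          (hkD (mem_zpowers k)).2)) (hkD.trans inf_le_right)⟩)
  obtain ⟨T, hT⟩ := IsSylowIn.exists_in (p := 2) N
  refine solv_of_odd_relIndex (Tw_le N) (le_normalizer.trans (normalizer_le_normalizer_Tw N))
    inferInstance (Nat.not_even_iff_odd.1 fun e => hT.not_dvd (e.two_dvd.trans ?_))
  exact relIndex_dvd_of_le_left _ (le_Tw hT.le hT.isPGroup)

omit [Finite G] in
theorem solv_stab_smul {α : Ω} (h : Group.IsSolvable (stabilizer G α)) (g : G) :
    Group.IsSolvable (stabilizer G (g • α)) := stab_smul g α ▸ isSolvable_map h _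

namespace Cw

variable (C : Cw G Ω) (hT : Tc G Ω)
include C hT

theorem cy : Cy G Ω := ⟨C, fun _ _ _ _ hu h1 h h2 h3 e =>
  hT.eq_one hu h1 h2 (C.S.odd_orderOf h.symm h2 h3) e⟩

omit [Finite G] C in
theorem mem_CJ_of {α : Ω} {u : G} (hu : IsInv u) (h : u • α = α) : u ∈ CJ G α :=
  mem_CJ.2 ⟨h, fun v hv e => hT v u α hv hu e h⟩

theorem gd {α : Ω} {A : Subgroup G} (h1 : A ≤ CJ G α) (h2 : A ≠ ⊥) : SEG.Gd A := by
  obtain ⟨⟨e, he⟩, he1⟩ := ne_bot_iff_exists_ne_one.1 h2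
  obtain ⟨a, ha, b, hb, h3, h4, h5⟩ := C.S.rk2_stab C.hr α
  have h6 : ∀ u, IsInv u → u • α = α → u ∈ centralizer (zpowers e : Set G) := fun u c d =>
    mem_cent_of_le ((zpowers_le_of_mem (h1 he)).trans (CJ_le_cent c d))
  exact ⟨e, he, fun e => he1 (Subtype.ext e), a, h6 a h3 ha, b, h6 b h4 hb, h3, h4, h5⟩

theorem TA_le_CJ {α β : Ω} (h : α ≠ β) {p : ℕ} [Fact p.Prime] (hp2 : p ≠ 2) {A : Subgroup G}
    (hA : IsPGroup p A) (h1 : A ≤ CJ G α ⊓ st2 G α β) : TA A α ≤ CJ G α := by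
  by_cases h0 : TA A α = ⊥
  · rw [h0]; exact bot_le
  obtain ⟨z, hz, hzi⟩ := exists_inv_center (pCoreOf_isPGroup _) h0
  obtain ⟨v, hv, a, b⟩ := (C.cy hT).exists_inv_cent hp2 hA (C.S.fix3_of_le h h1)
    (h1.trans (inf_le_right.trans inf_le_right))
  refine fun x hx => mem_CJ.2 ⟨(TA_le A α hx).2, fun u c d => ?_⟩
  obtain ⟨g, hg, hg', rfl⟩ := C.S.exists_conj_mem h hzi c (TA_le A α hz.1).2 d (TA_le A α hz.1).1
    (mem_cent_of_le ((h1.trans inf_le_left).trans (CJ_le_cent c d))) hv a (mem_cent_of_le b)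
  exact (le_normalizer_centralizer (le_normalizer_TA A α) ⟨centralizer_le_normalizer _ hg, hg'.1⟩
    |> conj_mem_of_mem_normalizer <| hz.2) x hx |>.symm

theorem solv_CJ (α : Ω) : Group.IsSolvable (CJ G α) := by
  obtain ⟨β, h⟩ := C.S.exists_ne α
  refine (C.cy hT).solv_of_Tw h.symm (CJ_le α) (le_normalizer_CJ α) ?_
  by_contra h0
  have hD := odd_of_le (C.S.odd_st2 h.symm) (inf_le_right : Tw (CJ G α) ⊓ _ ≤ _)
  refine (FT.der_lt_of_solvable (FT.feit_thompson hD) h0).not_ge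
    (le_of_forall_sylow_le fun q hq hd => ⟨default, ?_⟩)
  have hP := IsSylowIn.of_sylow_subgroup (default : Sylow q ↥(Tw (CJ G α) ⊓ st2 G α β))
  have h1 := hP.le.trans (inf_le_inf_right _ (Tw_le _))
  refine (C.cy hT).le_comm_of_gd h.symm (CJ_le α) hP (fun A hA hc _ => C.gd hT
    ((hA.trans h1).trans inf_le_left) ?_) fun A hA => C.TA_le_CJ hT h.symm (ne_two_of_odd hD hd)
      (hP.isPGroup.to_le hA) (hA.trans h1)
  rintro rfl
  exact hc.elim (fun e => hP.ne_bot hd e.symm) fun e => e inferInstance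

theorem solv_of_W {α β : Ω} (h : α ≠ β) (h0 : CJ G α ⊓ st2 G α β ≠ ⊥) :
    Group.IsSolvable (stabilizer G α) := by
  have hD := C.S.odd_st2 h
  obtain ⟨p, hp, hd⟩ := Nat.exists_prime_and_dvd fun e => h0 (card_eq_one.1 e)
  have : Fact p.Prime := ⟨hp⟩
  have hp2 := ne_two_of_odd (odd_of_le hD inf_le_right) hd
  obtain ⟨X, hX⟩ := IsSylowIn.exists_in (p := p) (CJ G α ⊓ st2 G α β)
  have h1 := C.gd hT (hX.le.trans inf_le_left) (hX.ne_bot hd)
  have h2 := C.TA_le_CJ hT h hp2 hX.isPGroup hX.le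
  refine isSolvable_of_le (isSolvable_sup (inf_le_left.trans (le_normalizer_CJ α))
    (FT.feit_thompson hD) (C.solv_CJ hT α)) ((((C.cy hT).sylow_of_gd h hp2 (CJ_le α) hX
      (fun _ => h1) h2).frattini_le (CJ_le α) (le_normalizer_CJ α)).trans
      (sup_le le_sup_right fun g hg => ?_))
  obtain ⟨z, hz, e⟩ := (C.cy hT).norm_dec h hp2 hX.isPGroup (hX.le.trans inf_le_right)
    (fun _ => h1) hg.1 hg.2
  simpa using mul_mem (mem_sup_right (S := st2 G α β) (inv_mem (h2 hz)))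
    (mem_sup_left (show z * g ∈ st2 G α β from ⟨mul_mem (CJ_le α (h2 hz)) hg.1, e⟩))

omit [Finite G] C in
theorem J_le_CJ (α : Ω) : Jg G α ≤ CJ G α := Jg_le_iff.2 fun _ a b => mem_CJ_of hT a b

omit [Finite G] C in
theorem CJ_le_cent_J (α : Ω) : CJ G α ≤ centralizer (Jg G α : Set G) :=
  le_centralizer_iff.1 (Jg_le_iff.2 fun _ a b => mem_cent_of_le (CJ_le_cent a b))

omit [Finite G] C in
theorem J_sq {α : Ω} {x : G} (hx : x ∈ Jg G α) : x * x = 1 := by
  let Z : Subgroup G :=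
    { carrier := {x | x ∈ Jg G α ∧ x * x = 1}
      one_mem' := ⟨one_mem _, mul_one 1⟩
      mul_mem' := fun {a b} ha hb => ⟨mul_mem ha.1 hb.1, by
        rw [mul_assoc, ← mul_assoc b, CJ_le_cent_J hT α (J_le_CJ hT α ha.1) b hb.1, mul_assoc, hb.2,
          mul_one, ha.2]⟩
      inv_mem' := fun {a} ha => ⟨inv_mem ha.1, by rw [← mul_inv_rev, ha.2, inv_one]⟩ }
  exact ((Jg_le_iff (K := Z)).2 (fun u a b => ⟨mem_Jg a b, a.1⟩) hx).2

theorem inf_cent_eq_bot {α β : Ω} (h : α ≠ β) (h0 : CJ G α ⊓ st2 G α β = ⊥) {Y : Subgroup G}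
    (hY : IsMulCommutative Y) (h1 : Y ≤ st2 G α β) (h2 : st2 G α β ≤ normalizer (Y : Set G))
    {u : G} (hu : IsInv u) (e : u • α = α) : Y ⊓ centralizer {u} = ⊥ := by
  have : Fact (Nat.Prime 2) := ⟨Nat.prime_two⟩
  set X := Y ⊓ centralizer {u} with hX
  have hJ := le_normalizer_Jg (G := G) α
  have hYα := h1.trans inf_le_left
  have hXα : X ≤ stabilizer G α := inf_le_left.trans hYα
  obtain ⟨n, hn⟩ := (show IsPGroup 2 (Jg G α) from fun x =>
    ⟨1, Subtype.ext ((pow_two _).trans (J_sq hT x.2))⟩).exists_card_eq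
  have h3 := commutator_inf_centralizer_eq_bot (hXα.trans hJ) (hn ▸ (Nat.coprime_two_right.2
    (odd_of_le (C.S.odd_st2 h) (inf_le_left.trans h1))).pow_right n)
    (H5.isMulCommutative_iff'.2 fun x hx y hy => CJ_le_cent_J hT α (J_le_CJ hT α hy) x hx)
  have hYX : Y ≤ centralizer (X : Set G) := fun y hy x hx => H5.isMulCommutative_iff'.1 hY x hx.1 y hy
  have h4 : ⁅Jg G α, X⁆ ≤ Jg G α := commutator_le_left_of_le_normalizer (hXα.trans hJ)
  have h5 : ⁅Jg G α, X⁆ = ⊥ := eq_bot_iff.2 fun a ha => by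
    by_contra ha1
    have hai : IsInv a := ⟨J_sq hT (h4 ha), ha1⟩
    have haα : a • α = α := Jg_le α (h4 ha)
    have h6 : a ∉ centralizer (X : Set G) := fun e => ha1 (h3 ▸ ⟨ha, e⟩)
    have h7 : u ∈ centralizer (X : Set G) := mem_cent_of_le inf_le_right
    have h8 := isInv_mul hu hai (fun e => h6 (e ▸ h7)) (hT u a α hu hai e haα)
    obtain ⟨d, hd, e1⟩ := C.S.exists_conj h hu h8 e (by rw [mul_smul, haα, e])
    have h9 : Y ⊓ centralizer {u * a} ≤ X := fun y hy => ⟨hy.1, mem_cent1.2 (by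
      have a1 := mem_cent1.1 hy.2
      have a2 : u⁻¹ * (y * u * y⁻¹) = a * (y * a * y⁻¹)⁻¹ := by
        rw [inv_mul_eq_iff_eq_mul, ← mul_assoc, ← a1]; group
      have a3 : a * (y * a * y⁻¹)⁻¹ ∈ ⁅Jg G α, X⁆ ⊓ centralizer (X : Set G) :=
        mem_inf.2 ⟨mul_mem ha (inv_mem (conj_mem_of_mem_normalizer (le_normalizer_commutator
          (hYα.trans hJ) (hYX.trans (centralizer_le_normalizer _)) hy.1) ha)),
          a2 ▸ mul_mem (inv_mem h7) (mul_mem (mul_mem (hYX hy.1) h7) (inv_mem (hYX hy.1)))⟩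
      rw [h3, mem_bot, ← a2, inv_mul_eq_one] at a3
      exact a3.symm)⟩
    have h10 := eq_of_le_of_card_le h9 (by
      rw [← card_map_conj d X, hX, map_conj_inf, map_conj_eq_of_mem_normalizer (h2 hd),
        map_conj_cent1, e1])
    refine h6 ?_
    simpa using mul_mem (inv_mem h7) (mem_cent_of_le (h10.ge.trans inf_le_right))
  rw [eq_bot_iff, ← h0]
  refine le_inf (fun x hx => mem_CJ.2 ⟨hXα hx, fun v a b => ?_⟩) (inf_le_left.trans h1)
  exact (commutator_eq_bot_iff_le_centralizer.1 h5 (mem_Jg a b) x hx).symm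

theorem cm (hs : ∀ α : Ω, ¬ Group.IsSolvable (stabilizer G α)) : Cm G Ω := by
  refine ⟨C.cy hT, fun ℓ α β t Y hl h ht h1 hY h2 h3 _ => ?_, fun α β h e =>
    hs α ((C.cy hT).solv_of_Tw h le_rfl le_normalizer e)⟩
  have : Fact ℓ.Prime := ⟨hl⟩
  have hYp : IsPGroup ℓ Y := fun y => ⟨1, Subtype.ext (by simpa using hY.2 y y.2)⟩
  by_contra h0
  obtain ⟨u, hu, e1, e2⟩ := (C.cy hT).exists_inv_cent (by
    rintro rfl
    exact h0 (eq_bot_iff.2 (inf_le_left.trans (H5.eq_bot_of_isPGroup_of_coprime hYp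
      (Nat.coprime_two_right.2 (odd_of_le (C.S.odd_st2 h) h2))).le))) (hYp.to_le inf_le_left)
    (fix3_of_swap C.S h ht h1 (inf_le_left.trans h2) inf_le_right)
    (inf_le_left.trans (h2.trans inf_le_left))
  exact h0 (eq_bot_iff.2 ((le_inf inf_le_left e2).trans (C.inf_cent_eq_bot hT h
    (by_contra fun e => hs α (C.solv_of_W hT h e)) hY.1 h2 h3 hu e1).le))

theorem not_two_trans {α : Ω} (h : ∀ u v w : G, IsInv u → IsInv v → IsInv w → u • α = α →
    v • α = α → w • α = α → u ≠ v → u ≠ w →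
    ∃ g ∈ stabilizer G α, g * u * g⁻¹ = u ∧ g * v * g⁻¹ = w) : False := by
  refine LT.false (stabilizer G α) ⟨fun u v hu hv => Subtype.ext
    (hT _ _ α (isInv_coe.2 hu) (isInv_coe.2 hv) u.2 v.2), ?_, fun u v a b hu hv ha hb e1 e2 => ?_⟩
  · obtain ⟨a, ha, b, hb, h6, h7, h8, h9⟩ := C.S.rk2_stab C.hr α
    exact ⟨⟨a, ha⟩, mem_top _, ⟨b, hb⟩, mem_top _, isInv_coe.1 h6, isInv_coe.1 h7,
      fun e => h8 (congrArg Subtype.val e), Subtype.ext h9⟩
  obtain ⟨d, hd, e3⟩ := C.S.exists_conj_stab (isInv_coe.2 hu) (isInv_coe.2 ha) u.2 a.2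
  obtain ⟨g, hg, e4, e5⟩ := h a (d * v * d⁻¹) b (isInv_coe.2 ha) ((isInv_coe.2 hv).conj d)
    (isInv_coe.2 hb) a.2 (conj_fix hd v.2) b.2
    (fun e => e1 (Subtype.ext (by rw [← e3] at e; simpa using e))) fun e => e2 (Subtype.ext e)
  exact ⟨⟨g * d, mul_mem hg hd⟩, Subtype.ext (by
    change g * d * u * (g * d)⁻¹ = a; rw [conj_comp, e3, e4]), Subtype.ext (by
    change g * d * v * (g * d)⁻¹ = b; rw [conj_comp, e5])⟩

theorem solv_stab (α : Ω) : Group.IsSolvable (stabilizer G α) := by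
  by_contra h0
  have hs : ∀ γ : Ω, ¬ Group.IsSolvable (stabilizer G γ) := fun γ e => by
    obtain ⟨g, rfl⟩ := C.S.trans γ α
    exact h0 (solv_stab_smul e g)
  obtain ⟨β, h⟩ := C.S.exists_ne α
  obtain ⟨p, z, t, K, c⟩ := (C.cm hT hs).exists_cv h.symm
  obtain ⟨ℓ, hl, hd⟩ := Nat.exists_prime_and_dvd fun e => c.K_ne_bot (card_eq_one.1 e)
  have : Fact ℓ.Prime := ⟨hl⟩
  by_cases e : Nat.card K = ℓ
  · let _ := invAct G α
    have : IsPretransitive (stabilizer G α) {v : G // IsInv v ∧ v • α = α} := ⟨fun u v => by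
      obtain ⟨d, hd, e⟩ := C.S.exists_conj_stab u.2.1 v.2.1 u.2.2 v.2.2
      exact ⟨⟨d, hd⟩, Subtype.ext e⟩⟩
    rcases BGrp.burnside_prime_degree (G := stabilizer G α) (Ω := {v : G // IsInv v ∧ v • α = α})
      (by rwa [← e, c.card_K] at hl) with h1 | h1
    · refine C.not_two_trans hT (α := α) fun u v w hu hv hw a b c d e => ?_
      rw [is_two_pretransitive_iff] at h1
      obtain ⟨g, e1, e2⟩ := @h1 ⟨u, hu, a⟩ ⟨v, hv, b⟩ ⟨u, hu, a⟩
        ⟨w, hw, c⟩ (fun e => d (congrArg Subtype.val e)) fun e' => e (congrArg Subtype.val e')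
      exact ⟨g, g.2, congrArg Subtype.val e1, congrArg Subtype.val e2⟩
    · refine h0 (isSolvable_of_equiv topEquiv (solv_of_der (solv_of_der (isSolvable_of_le
        (isSolvable_comap_of_injective (C.solv_CJ hT α) _ (stabilizer G α).subtype_injective)
        (h1.trans fun g hg => mem_CJ.2 ⟨g.2, fun u a b => ?_⟩)))))
      exact (conj_eq_iff.1 (congrArg Subtype.val (Equiv.congr_fun hg ⟨u, a, b⟩))).symm
  obtain ⟨L, hL⟩ := IsSylowIn.exists_in (p := ℓ) K
  obtain ⟨u, hu, e1⟩ := C.S.exists_inv α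
  have h1 : IsCyclic K := FT.regular_abelian_cyclic c.inv.isMulCommutative (H := Jg G α)
    (fun e => hu.2 (mem_bot.1 (e ▸ mem_Jg hu e1)))
    (c.leD.trans (inf_le_left.trans (le_normalizer_Jg α))) fun k hk hk1 => eq_bot_iff.2 fun x hx => by
      by_contra hx1
      exact hk1 (c.fp hk x ⟨J_sq hT hx.1, hx1⟩ (Jg_le α hx.1)
        (mem_centralizer_singleton_iff.1 hx.2))
  exact C.not_two_trans hT fun u v w hu hv hw a b d e1 e2 =>
    c.trans_of_cyclic hd hL (isCyclic_of_le hL.le) e hu hv hw a b d e1 e2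

end Cw

end CfsgLib.SEB
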