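import Cfsg.Agent.Lib.SEG.Main

/-! Project SEB (Bender's theorem): the inductive setting. -/

set_option autoImplicit false

namespace CfsgLib.SEB

open Subgroup MulAction Cfsg CfsgLib.Cop CfsgLib.H1 CfsgLib.SE CfsgLib.SEG
open scoped commutatorElement

universe u

variable {G Ω : Type*} [Group G] [MulAction G Ω]

/-- what is used of the structure of a proper subgroup `M` acting on the orbit of `α` -/
structure BU (M : Subgroup G) (α : Ω) : Prop where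
  conc : Conc M α
  solv : Group.IsSolvable ↥(M ⊓ stabilizer G α)
  exE : ∃ E : Subgroup G, Ker M α ≤ E ∧ E ≤ M ⊓ stabilizer G α ∧
    M ⊓ stabilizer G α ≤ normalizer (E : Set G) ∧ (∀ u ∈ M ⊓ stabilizer G α, IsInv u → u ∈ E) ∧
    ∀ x ∈ E, x * x ∈ Ker M α
  exQ : ∃ Q : Subgroup G, Ker M α ≤ Q ∧ Q ≤ M ⊓ stabilizer G α ∧
    M ⊓ stabilizer G α ≤ normalizer (Q : Set G) ∧ (∀ x ∈ Q, ∃ k, x ^ 2 ^ k ∈ Ker M α) ∧
    (∀ m ∈ M, ∀ m' ∈ M, m • α ≠ α → m' • α ≠ α → ∃ s ∈ Q, s • m • α = m' • α) ∧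
    ∀ N : Subgroup G, Ker M α ≤ N → N ≤ M → M ≤ normalizer (N : Set G) →
      (∃ u ∈ N, IsInv u) → Q ≤ N
  ct : ∀ p : ℕ, p.Prime → p ≠ 2 → ∀ X : Subgroup G, IsPGroup p X → X ≤ M ⊓ stabilizer G α →
    ∀ m ∈ M, ∀ m' ∈ M, m • α ≠ α → m' • α ≠ α → m • α ≠ m' • α → X ≤ stabilizer G (m • α) →
    X ≤ stabilizer G (m' • α) →
    ∃ u ∈ M, IsInv u ∧ u • α = α ∧ ∀ x ∈ X, x * u * x⁻¹ * u⁻¹ ∈ Ker M α
  cyc : ∃ k ∈ M ⊓ stabilizer G α, ∀ u ∈ M ⊓ stabilizer G α, ∀ v ∈ M ⊓ stabilizer G α,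
    IsInv u → IsInv v → ∃ n : ℕ, k ^ n * u * (k ^ n)⁻¹ * v ∈ Ker M α

theorem BU.sq [Finite G] {M : Subgroup G} {α : Ω} (B : BU M α) {a b : G} (ha : a ∈ M) (hb : b ∈ M)
    (h1 : IsInv a) (h2 : IsInv b) (h3 : a • α = α) (h4 : b • α = α) {m : G} (hm : m ∈ M) :
    (a * b * (a * b)) • m • α = m • α := by
  obtain ⟨E, -, -, -, h5, h6⟩ := B.exE
  exact (mem_Ker.1 (h6 _ (E.mul_mem (h5 a ⟨ha, h3⟩ h1) (h5 b ⟨hb, h4⟩ h2)))).2 m hm

theorem BU.tr {M : Subgroup G} {α : Ω} (B : BU M α) {m m' : G} (hm : m ∈ M) (hm' : m' ∈ M)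
    (h1 : m • α ≠ α) (h2 : m' • α ≠ α) : ∃ s ∈ M, s • α = α ∧ s • m • α = m' • α := by
  obtain ⟨Q, -, h3, -, -, h4, -⟩ := B.exQ
  obtain ⟨s, hs, e⟩ := h4 m hm m' hm' h1 h2
  exact ⟨s, (h3 hs).1, (h3 hs).2, e⟩

theorem tc_of_RO [Finite G] (S : SEA G Ω) {α : Ω} {Q : Subgroup G} {t : G}
    (R : Suz.RO (stabilizer G α) Q t) (h2 : Suz.Rank2 Q) : Tc G Ω :=
  tc_of_base S fun _ _ hu hv a b =>
    R.invol_central h2 (R.mem_Q_of_invol a hu.1) hu.1 (R.mem_Q_of_invol b hv.1)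

theorem solv_of_RO [Finite G] {H Q : Subgroup G} {t : G} (R : Suz.RO H Q t) (h2 : Suz.Rank2 Q) :
    Group.IsSolvable H := by
  have : Fact (Nat.Prime 2) := ⟨Nat.prime_two⟩
  refine isSolvable_of_le (isSolvable_sup (Suz.Dg_le.trans R.le_normalizer)
    (FT.feit_thompson R.odd) (isSolvable_of_isPGroup (R.isPGroup_two h2))) fun h hh => ?_
  obtain ⟨x, hx, d, hd, rfl⟩ := R.dec h hh
  exact mul_mem (mem_sup_right hx) (mem_sup_left hd)

theorem trans_of_RO {α : Ω} {Q : Subgroup G} {t : G} (R : Suz.RO (stabilizer G α) Q t) {g g' : G}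
    (h1 : g • α ≠ α) (h2 : g' • α ≠ α) : ∃ s ∈ Q, s • g • α = g' • α := by
  have key : ∀ g : G, g • α ≠ α → ∃ x ∈ Q, g • α = x • t • α := fun g hg => by
    obtain ⟨h, hh, y, hy, rfl⟩ := R.canon g hg
    obtain ⟨x, hx, d, hd, rfl⟩ := R.dec h hh
    rw [Dg_eq ⟨R.tt, R.t_ne⟩ rfl] at hd
    refine ⟨x, hx, ?_⟩
    rw [mul_smul, mul_smul, mul_smul, show y • α = α from R.le hy,
      show d • t • α = t • α from hd.2]
  obtain ⟨x, hx, e1⟩ := key g h1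
  obtain ⟨y, hy, e2⟩ := key g' h2
  exact ⟨y * x⁻¹, Q.mul_mem hy (Q.inv_mem hx), by rw [e1, e2, mul_smul, inv_smul_smul]⟩

section red

variable {M : Subgroup G} {α : Ω} {G' Δ : Type*} [Group G'] [MulAction G' Δ]
  {f : M →* G'} {j : Δ → Ω}

theorem red_ker (R : Red M α f j) {x : M} : f x = 1 ↔ (x : G) ∈ Ker M α := by
  refine ⟨fun h => mem_Ker.2 ⟨x.2, fun m hm => ?_⟩, fun h => R.faith _ fun δ => ?_⟩
  · obtain ⟨δ, e⟩ := R.exists_pt hm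
    rw [← e, ← R.smul_iff, h, one_smul]
  · obtain ⟨m, hm, e⟩ := R.orb δ
    rw [R.smul_iff, e]
    exact (mem_Ker.1 h).2 m hm

theorem mem_pull {A : Subgroup G'} {x : G} :
    x ∈ (A.comap f).map M.subtype ↔ ∃ h : x ∈ M, f ⟨x, h⟩ ∈ A :=
  ⟨fun ⟨y, hy, e⟩ => e ▸ ⟨y.2, hy⟩, fun ⟨h, hx⟩ => ⟨⟨x, h⟩, hx, rfl⟩⟩

theorem pull_norm [Finite G] (R : Red M α f j) {δ : Δ} (e : j δ = α) {A : Subgroup G'}
    (h : stabilizer G' δ ≤ normalizer (A : Set G')) :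
    M ⊓ stabilizer G α ≤ normalizer (((A.comap f).map M.subtype : Subgroup G) : Set G) := by
  refine fun g hg => mem_normalizer_of_conj_mem fun x hx => ?_
  obtain ⟨h1, h2⟩ := mem_pull.1 hx
  refine mem_pull.2 ⟨M.mul_mem (M.mul_mem hg.1 h1) (M.inv_mem hg.1), ?_⟩
  have := conj_mem_of_mem_normalizer (h (R.smul_iff (m := ⟨g, hg.1⟩) |>.2 (by
    rw [e]; exact hg.2))) h2
  rwa [← map_inv, ← map_mul, ← map_mul] at this

theorem pull_le (R : Red M α f j) {δ : Δ} (e : j δ = α) {A : Subgroup G'}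
    (h : A ≤ stabilizer G' δ) : (A.comap f).map M.subtype ≤ M ⊓ stabilizer G α := fun x hx => by
  obtain ⟨h1, h2⟩ := mem_pull.1 hx
  exact ⟨h1, by simpa [e] using R.smul_iff.1 (h h2)⟩

theorem bu_of_red [Finite G] (R : Red M α f j) (S : SEA G Ω) (hM : ¬ M ≤ stabilizer G α)
    (hr : Rk2 (M ⊓ stabilizer G α))
    (h : ∀ δ : Δ, ∃ Q t, Suz.RO (stabilizer G' δ) Q t ∧ Suz.Rank2 Q) : BU M α := by
  have := R.finite
  obtain ⟨a, ha, -, -, hai, -⟩ := id hr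
  have S' := R.sea S hM hai ha.1 ha.2
  have hr' := R.rk2 S hM (hr.mono inf_le_left)
  obtain ⟨δ, e1⟩ := R.base
  obtain ⟨Q, t, T, h2⟩ := h δ
  have hT := tc_of_RO S' T h2
  have hfix : ∀ {u : G} (hu : u ∈ M ⊓ stabilizer G α), f ⟨u, hu.1⟩ ∈ stabilizer G' δ :=
    fun hu => R.smul_iff.2 (by rw [e1]; exact hu.2)
  have hne : ∀ {m : G} (hm : m ∈ M), m • α ≠ α → f ⟨m, hm⟩ • δ ≠ δ :=
    fun hm h1 e => h1 (by simpa [e1] using R.smul_iff.1 e)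
  refine ⟨R.conc S hM fun ε => ?_, ?_, ⟨((Suz.Q0g Q).comap f).map M.subtype, fun x hx => ?_,
    pull_le R e1 (Suz.Q0g_le.trans T.le), pull_norm R e1 fun g hg => ?_, fun u hu hi => ?_,
    fun x hx => ?_⟩, ⟨(Q.comap f).map M.subtype, fun x hx => mem_pull.2 ⟨Ker_le M α hx,
      (red_ker R (x := ⟨x, _⟩)).2 hx ▸ one_mem _⟩, pull_le R e1 T.le,
    pull_norm R e1 T.le_normalizer, fun x hx => ?_, fun m hm m' hm' h3 h4 => ?_,
    fun N h3 h4 h5 ⟨u, hu, hi⟩ x hx => ?_⟩, fun p hp hp2 X hX h3 m hm m' hm' h4 h5 h6 h7 h8 => ?_,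
    ?_⟩
  · obtain ⟨Q', t', T', h3⟩ := h ε
    exact S'.conc_of_RO hT hr' T' h3
  · have h1 := solv_of_RO T h2
    rw [R.stab_eq, e1] at h1
    have h2 : Group.IsSolvable f.ker := FT.feit_thompson (R.odd_ker S hM)
    have h3 : Group.IsSolvable ((stabilizer G α).subgroupOf M) := by
      refine isSolvable_of_map_mk' h2 (isSolvable_of_le
        (isSolvable_comap_of_injective h1 _ (QuotientGroup.kerLift_injective f)) ?_)
      rintro _ ⟨x, hx, rfl⟩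
      exact ⟨x, hx, rfl⟩
    rw [inf_comm, ← subgroupOf_map_subtype]
    exact isSolvable_map h3 _
  · exact mem_pull.2 ⟨Ker_le M α hx, (red_ker R (x := ⟨x, _⟩)).2 hx ▸ one_mem _⟩
  · exact mem_normalizer_of_conj_mem fun x hx => by simpa using T.Q0_norm h2 (inv_mem hg) hx
  · have h3 := R.isInv_map S hM (u := ⟨u, hu.1⟩) hi
    exact mem_pull.2 ⟨hu.1, Suz.mem_Q0g_of (T.mem_Q_of_invol (hfix hu) h3.1) h3.1⟩
  · obtain ⟨h3, h4⟩ := mem_pull.1 hx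
    exact (red_ker R (x := ⟨x, h3⟩ * ⟨x, h3⟩)).1 (by rw [map_mul]; exact ((T.mem_Q0 h2).1 h4).2)
  · obtain ⟨h3, h4⟩ := mem_pull.1 hx
    obtain ⟨k, hk⟩ := T.isPGroup_two h2 ⟨_, h4⟩
    exact ⟨k, (red_ker R (x := ⟨x, h3⟩ ^ 2 ^ k)).1 (by
      rw [map_pow]; exact congrArg Subtype.val hk)⟩
  · obtain ⟨s, hs, e⟩ := trans_of_RO T (hne hm h3) (hne hm' h4)
    obtain ⟨s, rfl⟩ := R.surj s
    exact ⟨s, mem_pull.2 ⟨s.2, hs⟩, by simpa [R.equiv, e1] using congrArg j e⟩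
  · have := normal_subgroupOf_of_le_normalizer h5
    have h6 : ((N.subgroupOf M).map f).Normal := Normal.map inferInstance f R.surj
    have h7 := R.isInv_map S hM (u := ⟨u, h4 hu⟩) hi
    obtain ⟨h8, h9⟩ := mem_pull.1 hx
    obtain ⟨y, hy, e⟩ := (T.le_normal_of_even h2 (N := (N.subgroupOf M).map f)
      (Suz.even_card_of_invol (mem_map_of_mem f (show ⟨u, h4 hu⟩ ∈ N.subgroupOf M from hu))
        h7.2 h7.1)).2.2 h9
    have h10 := h3 ((red_ker R (x := y⁻¹ * ⟨x, h8⟩)).1 (by rw [map_mul, map_inv, e, inv_mul_cancel]))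
    simpa using N.mul_mem hy h10
  · have : Fact p.Prime := ⟨hp⟩
    have hXM := h3.trans inf_le_left
    have h9 : ∀ {n : G} (hn : n ∈ M), X ≤ stabilizer G (n • α) →
        (X.subgroupOf M).map f ≤ stabilizer G' (f ⟨n, hn⟩ • δ) := fun hn a =>
      (R.map_le_iff hXM).2 (by rwa [R.equiv, e1])
    have h10 : (X.subgroupOf M).map f ≤ stabilizer G' δ :=
      (R.map_le_iff hXM).2 (e1 ▸ h3.trans inf_le_right)
    obtain ⟨u, hu, a, b⟩ := S'.exists_inv_cent hT hr' hp2 (hX.comap_subtype.map f)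
      ⟨δ, _, _, (hne hm h4).symm, (hne hm' h5).symm, fun e => h6 (by
        simpa [R.equiv, e1] using congrArg j e), h10, h9 hm h7, h9 hm' h8⟩ h10
    obtain ⟨u, hui, rfl⟩ := R.lift S hM hu
    refine ⟨u, u.2, hui, by simpa [e1] using R.smul_iff.1 a, fun x hx => ?_⟩
    refine (red_ker R (x := ⟨x, hXM hx⟩ * u * ⟨x, hXM hx⟩⁻¹ * u⁻¹)).1 ?_
    rw [map_mul, map_mul, map_mul, mem_centralizer_singleton_iff.1 (b (mem_map_of_mem f
      (show ⟨x, hXM hx⟩ ∈ X.subgroupOf M from hx)))]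
    simp
  · obtain ⟨k, hk⟩ := T.exists_K_eq_zpowers h2
    obtain ⟨s, r, hs⟩ := T.exists_dist
    obtain ⟨k, rfl⟩ := R.surj k
    refine ⟨k, ⟨k.2, by
      simpa [e1] using R.smul_iff.1 (Suz.Dg_le ((hk _).2 (mem_zpowers _)).1)⟩,
      fun u hu v hv hi hj => ?_⟩
    have h3 := R.isInv_map S hM (u := ⟨u, hu.1⟩) hi
    have h4 := R.isInv_map S hM (u := ⟨v, hv.1⟩) hj
    obtain ⟨b, hb, e2⟩ := T.exists_K_conj hs (T.mem_Q_of_invol (hfix hu) h3.1) h3.2 h3.1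
    obtain ⟨c, hc, e3⟩ := T.exists_K_conj hs (T.mem_Q_of_invol (hfix hv) h4.1) h4.2 h4.1
    obtain ⟨n, hn⟩ := mem_powers_iff_mem_zpowers.2
      (mul_mem (inv_mem ((hk c).1 hc)) ((hk b).1 hb))
    refine ⟨n, (red_ker R (x := k ^ n * ⟨u, hu.1⟩ * (k ^ n)⁻¹ * ⟨v, hv.1⟩)).1 ?_⟩
    simp only at hn
    rw [map_mul, map_mul, map_mul, map_inv, map_pow, hn, e2, ← h4.1]
    congr 1
    rw [e3]; group

end red

/-- the induction hypothesis -/
structure Cw (G Ω : Type*) [Group G] [MulAction G Ω] : Prop where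
  S : SEA G Ω
  hr : Rk2 (⊤ : Subgroup G)
  hf : ∀ g : G, (∀ ω : Ω, g • ω = ω) → g = 1
  ih : ∀ (M : Subgroup G) (α : Ω), M ≠ ⊤ → Rk2 (M ⊓ stabilizer G α) → ¬ M ≤ stabilizer G α →
    BU M α

/-- the involutions fixing a point generate a nonsolvable group -/
structure Ca (G Ω : Type*) [Group G] [MulAction G Ω] : Prop extends Cw G Ω where
  ns : ∀ α : Ω, ¬ Group.IsSolvable (Jg G α)

namespace Cw

variable [Finite G] (C : Cw G Ω)
include C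

theorem norm_ne_top {X : Subgroup G} (hX : Odd (Nat.card X)) (h : X ≠ ⊥) :
    normalizer (X : Set G) ≠ ⊤ := fun e => h (eq_bot_iff.2 fun x hx => C.hf x fun ω => by
  obtain ⟨a, ha, b, -, h5, h6, h7, h8⟩ := C.S.rk2_stab C.hr ω
  exact C.S.le_stab_of_four h5 h6 h7 h8 ha hX (e ▸ mem_top a) (e ▸ mem_top b) hx)

theorem cent_ne_top {X : Subgroup G} (hX : Odd (Nat.card X)) (h : X ≠ ⊥) :
    centralizer (X : Set G) ≠ ⊤ := fun e =>
  C.norm_ne_top hX h (top_le_iff.1 (e ▸ centralizer_le_normalizer _))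

omit [Finite G] in
theorem ih' : IH G Ω := fun M α a b c => (C.ih M α a b c).conc

end Cw

namespace Ca

variable [Finite G] (C : Ca G Ω)
include C

theorem le_stab_of_inv {N : Subgroup G} (hN : N ≠ ⊤) {γ : Ω}
    (h : ∀ u, IsInv u → u • γ = γ → u ∈ N) : N ≤ stabilizer G γ := by
  by_contra h1
  refine C.ns γ (isSolvable_of_le (C.ih N γ hN ?_ h1).solv (le_inf (Jg_le_iff.2 h) (Jg_le γ)))
  obtain ⟨a, ha, b, hb, h3, h4, h5⟩ := C.S.rk2_stab C.hr γ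
  exact ⟨a, ⟨h a h3 ha, ha⟩, b, ⟨h b h4 hb, hb⟩, h3, h4, h5⟩

theorem exists_not_comm (α : Ω) :
    ∃ a b : G, IsInv a ∧ IsInv b ∧ a • α = α ∧ b • α = α ∧ a * b ≠ b * a := by
  by_contra h
  push Not at h
  refine C.ns α ?_
  have : IsMulCommutative (Jg G α) := by
    refine H5.isMulCommutative_iff'.2 fun x hx y hy => ?_
    have h1 : Jg G α ≤ centralizer (Jg G α : Set G) := Jg_le_iff.2 fun u a b =>
      mem_cent_of_le (Jg_le_iff.2 fun v c d => mem_centralizer_singleton_iff.2 (h v u c a d b))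
    exact h1 hy x hx
  exact isSolvable_of_isMulCommutative

end Ca

end CfsgLib.SEB
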