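import Cfsg.Agent.Lib.SEB.Prim

/-! Project SEB: the involutions fixing a point generate a solvable group. -/

set_option autoImplicit false

namespace CfsgLib.SEB

open Subgroup MulAction Cfsg CfsgLib.Cop CfsgLib.H1 CfsgLib.SE CfsgLib.SEG
open scoped commutatorElement

variable {G Ω : Type*} [Group G] [MulAction G Ω]

namespace Cv

variable [Finite G] {α β : Ω} {p : ℕ} {z t : G} {K : Subgroup G} (c : Cv α β p z t K)
include c

theorem comm_of_conj_cent {k y u : G} (hk : k ∈ K) (hy : y ∈ st2 G α β) (hu : IsInv u)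
    (h1 : u • α = α) (h2 : y * u = u * y) (h3 : y * (k * u * k⁻¹) = k * u * k⁻¹ * y) :
    k * y = y * k := by
  have h4 := c.fp (K.mul_mem (K.inv_mem hk) (conj_mem_of_mem_normalizer (c.nrm hy) hk)) u hu h1 (by
    calc u * (k⁻¹ * (y * k * y⁻¹)) = k⁻¹ * (k * u * k⁻¹ * y) * k * y⁻¹ := by group
      _ = k⁻¹ * y * k * y⁻¹ * (y * u) * y⁻¹ := by rw [← h3]; group
      _ = _ := by rw [h2]; group)
  rw [inv_mul_eq_one] at h4
  exact eq_mul_inv_iff_mul_eq.1 h4

section Bad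

variable {q : ℕ} [Fact q.Prime] {X : Subgroup G} (hX : IsPGroup q X)
  (h1 : X ≤ D2 G α β ⊓ centralizer {t}) (h0 : X ≠ ⊥) (hK : K ⊓ centralizer (X : Set G) ≠ ⊥)
include hX h1 h0

theorem ne_two : q ≠ 2 := by
  rintro rfl
  exact h0 (H5.eq_bot_of_isPGroup_of_coprime hX
    (Nat.coprime_two_right.2 (odd_of_le c.oddD (h1.trans (inf_le_left.trans inf_le_right)))))

omit hX h0 in
theorem fix3 : Fix3 Ω X :=
  fix3_of_swap c.C.S c.ne c.ti c.sw (h1.trans (inf_le_left.trans inf_le_right))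
    (h1.trans inf_le_right)

omit hX h0 in
theorem le_stab : X ≤ stabilizer G α := h1.trans (inf_le_left.trans (inf_le_left.trans (J2_le α)))

include hK

theorem rk2 : Rk2 (centralizer (X : Set G)) := by
  obtain ⟨⟨k, hk⟩, hk1⟩ := ne_bot_iff_exists_ne_one.1 hK
  exact c.C.rk2_of_fp (c.ne_two hX h1 h0) hX (c.fix3 h1) (c.le_stab h1) hk.2 (c.leD hk.1).1
    (fun e => hk1 (Subtype.ext e)) (c.fp hk.1)

theorem bad_cyclic : IsCyclic ↥(K ⊓ centralizer (X : Set G)) :=
  c.C.cyclic_of_rk2 (c.ne_two hX h1 h0) hX (c.fix3 h1) (c.le_stab h1) h0 (c.rk2 hX h1 h0 hK)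
    (c.inv.mono inf_le_left).isMulCommutative
    (inf_le_inf (c.leD.trans inf_le_left) (centralizer_le_normalizer _)) fun _ hk => c.fp hk.1

theorem inv_of_mem {u : G} (hu : u ∈ Zg X α) (h : u ≠ 1) : IsInv u :=
  ⟨c.C.sq_of_mem_Zg (c.ne_two hX h1 h0) hX (c.fix3 h1) (c.le_stab h1) h0 (c.rk2 hX h1 h0 hK) hu, h⟩

theorem card_Zg {R : Subgroup G} (h2 : R ≤ st2 G α β) (h3 : R ≤ normalizer (X : Set G))
    (h4 : R ≠ ⊥) (h5 : ∀ r ∈ R, r ≠ 1 → K ⊓ centralizer (X : Set G) ⊓ centralizer {r} = ⊥) :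
    Nat.card (Zg X α) = 2 ^ Nat.card R := by
  have : Fact (Nat.Prime 2) := ⟨Nat.prime_two⟩
  have a1 := c.ne_two hX h1 h0
  have a2 := c.rk2 hX h1 h0 hK
  have a3 := c.C.isPGroup_Zg a1 hX (c.fix3 h1) (c.le_stab h1) h0 a2
  have a4 : ∀ A ≤ st2 G α β, (Nat.card A).Coprime (Nat.card (Zg X α)) := fun A hA =>
    coprime_card_of_isPGroup (Nat.coprime_two_right.2 (odd_of_le c.oddD hA)) a3
  have a5 := FT.Frobenius_Wielandt_fixpoint
    (le_normalizer_inf (h2.trans c.nrm) (h3.trans (normalizer_le_normalizer_centralizer X))) h5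
    ((inf_le_inf (c.leD.trans inf_le_left) (centralizer_le_normalizer _)).trans
      (le_normalizer_Zg X α))
    ((le_inf (h2.trans inf_le_left) h3).trans (le_normalizer_Zg X α)) (isSolvable_of_isPGroup a3)
    (a4 _ (inf_le_left.trans c.leD)) (a4 _ h2)
  have a6 : Zg X α ⊓ centralizer ((K ⊓ centralizer (X : Set G) : Subgroup G) : Set G) = ⊥ := by
    obtain ⟨⟨k, hk⟩, hk1⟩ := ne_bot_iff_exists_ne_one.1 hK
    rw [eq_bot_iff, ← c.C.Zg_inf_cent a1 hX (c.fix3 h1) (c.le_stab h1) h0 a2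
      (fun e => hk1 (Subtype.ext e)) (c.fp hk.1)]
    exact inf_le_inf_left _ (centralizer_le (Set.singleton_subset_iff.2 hk))
  rw [centralizer_sup', ← inf_assoc, a6, bot_inf_eq, card_bot, one_pow, one_mul, mul_one] at a5
  have a7 : Zg X α ⊓ centralizer (R : Set G) ≠ ⊥ := fun e => by
    rw [e, card_bot, one_pow, card_eq_one] at a5
    exact c.C.Zg_ne_bot a1 hX (c.fix3 h1) (c.le_stab h1) a5
  obtain ⟨⟨u, hu⟩, hu1⟩ := ne_bot_iff_exists_ne_one.1 a7
  have hui := c.inv_of_mem hX h1 h0 hK hu.1 fun e => hu1 (Subtype.ext e)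
  obtain ⟨⟨r, hr⟩, hr1⟩ := ne_bot_iff_exists_ne_one.1 h4
  rw [a5, ← hui.card_zpowers]
  congr 2
  refine congrArg _ (le_antisymm (fun v hv => ?_) (zpowers_le_of_mem hu))
  by_cases e : v = 1
  · rw [e]; exact one_mem _
  have a8 := Zg_le X α hu.1
  have a9 := Zg_le X α hv.1
  obtain ⟨k, hk, rfl⟩ := c.reg hui a8.1 (c.inv_of_mem hX h1 h0 hK hv.1 e) a9.1
  have a10 : k = 1 := mem_bot.1 (h5 r hr (fun e => hr1 (Subtype.ext e)) ▸ ⟨⟨hk, fun x hx =>
    (c.comm_of_conj_cent hk (h1 hx).1.2 hui a8.1 (a8.2 x hx) (a9.2 x hx)).symm⟩,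
    mem_centralizer_singleton_iff.2 (c.comm_of_conj_cent hk (h2 hr) hui a8.1 (hu.2 r hr)
      (hv.2 r hr))⟩)
  simp [a10]

end Bad

theorem z_ne_one : z ≠ 1 := fun e => c.pp.ne_one (by rw [← c.ord, e, orderOf_one])

theorem zV : z ∈ D2 G α β ⊓ centralizer {t} := ⟨c.zD, mem_centralizer_singleton_iff.2 c.zt⟩

theorem card_z : Nat.card (zpowers z) = p := by rw [Nat.card_zpowers, c.ord]

variable (ns : ∀ α : Ω, ¬ Group.IsSolvable (Jg G α))
include ns

theorem exists_L (q : ℕ) [hq : Fact q.Prime] : ∃ L ≤ K, ¬ IsCyclic L ∧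
    st2 G α β ≤ normalizer (L : Set G) ∧ (Nat.card L).Coprime q := by
  obtain ⟨ℓ, hl, h1, h2⟩ : ∃ ℓ : ℕ, ℓ.Prime ∧ ℓ ∣ Nat.card K ∧ ℓ ≠ q := by
    by_contra e
    push Not at e
    exact c.not_isPGroup ns (IsPGroup.of_card
      (Nat.eq_prime_pow_of_unique_prime_dvd Nat.card_pos.ne' fun a b => e _ a b))
  have : Fact ℓ.Prime := ⟨hl⟩
  obtain ⟨L, hL⟩ := IsSylowIn.exists_in (p := ℓ) K
  refine ⟨L, hL.le, c.not_cyclic ns h1 hL, fun g hg => ?_, ?_⟩
  · obtain ⟨k, hk, e⟩ := hL.frattini_elem (c.nrm hg)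
    exact (mul_mem_cancel_left (centralizer_le_normalizer _
      (centralizer_le hL.le (c.inv.le_cent hk)))).1 e
  · obtain ⟨k, hk⟩ := hL.isPGroup.exists_card_eq
    exact hk ▸ ((Nat.coprime_primes hl hq.out).2 h2).pow_left k

theorem z_cent : D2 G α β ⊓ centralizer {t} ≤ centralizer {z} := by
  set V := D2 G α β ⊓ centralizer {t}
  have hVD : V ≤ st2 G α β := inf_le_left.trans inf_le_right
  have hW : ⁅V, V⁆ ≤ V := commutator_le_left_of_le_normalizer le_normalizer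
  have h1 : (Nat.card (zpowers z)).Coprime (Nat.card ↥⁅V, V⁆) := by
    rw [c.card_z, c.pp.coprime_iff_not_dvd]
    exact fun e => c.nd (e.trans (card_dvd_of_le (commutator_mono inf_le_left inf_le_left)))
  have hz := zpowers_le_of_mem c.zV
  have h2 : ⁅V, V⁆ ≤ centralizer {z} := le_of_forall_sylow_le fun q hq _ => by
    obtain ⟨Q, hQ, h3⟩ := exists_invariant_sylowOf q (hz.trans (normalizer_commutator_ge_left _ _))
      h1 IsInv.solv
    rw [sylow_iff] at hQ
    have h4 : Q ≤ centralizer {z} := by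
      rw [← centralizer_zpowers, ← commutator_eq_bot_iff_le_centralizer', eq_comm]
      by_contra h5
      obtain ⟨L, a1, a2, a3, a4⟩ := c.exists_L ns q
      have a5 := (hQ.le.trans hW).trans hVD
      have a6 := FT.odd_prime_sdprod_cent1 h3 (odd_of_le c.oddD a5) (c.card_z ▸ c.pp)
        (ne_two_of_odd (odd_of_le c.oddD (hz.trans hVD)) dvd_rfl)
        (h1.coprime_dvd_right (card_dvd_of_le hQ.le)) (a5.trans a3) ((hz.trans hVD).trans a3)
        (coprime_card_of_isPGroup a4 hQ.isPGroup).symm (by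
          rw [centralizer_zpowers, eq_bot_iff, ← c.fz]; exact inf_le_inf_right _ a1)
      have a7 := le_normalizer_iff_commutator_le_right.1 h3
      have a8 := le_inf a1 (le_centralizer_iff.1 a6)
      have := c.bad_cyclic (hQ.isPGroup.to_le a7) (a7.trans (hQ.le.trans hW)) (Ne.symm h5)
        fun e => a2 (by rw [eq_bot_iff.2 (a8.trans e.le)]; infer_instance)
      exact a2 (isCyclic_of_le a8)
    obtain ⟨Q, rfl⟩ := hQ.exists_sylow_map
    exact ⟨Q, h4⟩
  intro v hv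
  have h3 := commutator_mem_commutator c.zV hv
  have h4 := PGrp.commutatorElement_pow_left (mem_centralizer_singleton_iff.1 (h2 h3)) p
  rw [← c.ord, pow_orderOf_eq_one, commutatorElement_one_left, eq_comm,
    ← orderOf_dvd_iff_pow_eq_one, ← Nat.card_zpowers z] at h4
  exact mem_centralizer_singleton_iff.2 (commutatorElement_eq_one_iff_mul_comm.1
    (orderOf_eq_one_iff.1 (Nat.eq_one_of_dvd_coprimes h1 h4 (orderOf_dvd_natCard _ h3)))).symm

theorem card_Zg_eq {q : ℕ} [Fact q.Prime] {X : Subgroup G} (hX : IsPGroup q X)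
    (h1 : X ≤ D2 G α β ⊓ centralizer {t}) (h0 : X ≠ ⊥) (hK : K ⊓ centralizer (X : Set G) ≠ ⊥) :
    Nat.card (Zg X α) = 2 ^ p := by
  rw [← c.card_z]
  refine c.card_Zg hX h1 h0 hK (zpowers_le_of_mem c.zD.2) (zpowers_le_of_mem
    (centralizer_le_normalizer _ (mem_cent_of_le (h1.trans (c.z_cent ns)))))
    (by simpa using c.z_ne_one) fun r hr hr1 => ?_
  rw [FT.semiprime_of_prime (c.card_z ▸ c.pp) r hr hr1, centralizer_zpowers, eq_bot_iff, ← c.fz]
  exact inf_le_inf_right _ inf_le_left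

/-- a subgroup acting semiregularly on the centralizer in `K` of a bad subgroup has order `p` -/
theorem card_eq {q : ℕ} [Fact q.Prime] {X : Subgroup G} (hX : IsPGroup q X)
    (h1 : X ≤ D2 G α β ⊓ centralizer {t}) (h0 : X ≠ ⊥) (hK : K ⊓ centralizer (X : Set G) ≠ ⊥)
    {R : Subgroup G} (h2 : R ≤ st2 G α β) (h3 : R ≤ normalizer (X : Set G))
    (h4 : R ≠ ⊥) (h5 : ∀ r ∈ R, r ≠ 1 → K ⊓ centralizer (X : Set G) ⊓ centralizer {r} = ⊥) :
    Nat.card R = p :=
  Nat.pow_right_injective le_rfl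
    ((c.card_Zg hX h1 h0 hK h2 h3 h4 h5).symm.trans (c.card_Zg_eq ns hX h1 h0 hK))

theorem cyclic_V {q : ℕ} [hq : Fact q.Prime] {A : Subgroup G} (hA : IsPGroup q A)
    (h1 : A ≤ D2 G α β ⊓ centralizer {t}) : IsCyclic A := by
  by_contra hc
  have hA0 : A ≠ ⊥ := fun e => hc (by rw [e]; infer_instance)
  obtain ⟨E, hE, -, h2, h3⟩ := FT.ex_odd_normal_p2Elem (c.ne_two hA h1 hA0) hA hc
  have hEc : ¬ IsCyclic E := PGrp.not_isCyclic_of_isElementaryAbelian h2 (by
    rw [h3, pow_two]; exact lt_mul_self hq.out.one_lt)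
  have hE0 : E ≠ ⊥ := fun e => hEc (by rw [e]; infer_instance)
  have hEp := hA.to_le hE
  have hEV := hE.trans h1
  have hED : E ≤ st2 G α β := hEV.trans (inf_le_left.trans inf_le_right)
  have hqp : q ≠ p := by
    rintro rfl
    exact hEc (c.cyc E (hEV.trans inf_le_left) hEp)
  have key : ∀ e ∈ E, e ≠ 1 → K ⊓ centralizer {e} ≤ centralizer (E : Set G) := by
    intro e he he1 k hk f hf
    rw [← centralizer_zpowers] at hk
    by_contra a0
    have a1 : K ⊓ centralizer (zpowers e : Set G) ≠ ⊥ := fun a =>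
      a0 (by rw [show k = 1 from mem_bot.1 (a ▸ hk), mul_one, one_mul])
    have a2 := zpowers_le_of_mem he
    have a3 : zpowers e ≠ ⊥ := by simpa using he1
    have hf2 : f ≠ 1 := fun a => a0 (by rw [a, mul_one, one_mul])
    have hfo : Nat.card (zpowers f) = q :=
      (Nat.card_zpowers f).trans (orderOf_eq_prime (h2.2 f hf) hf2)
    have hF := sup_le a2 (zpowers_le_of_mem hf)
    by_cases a4 : K ⊓ centralizer ((zpowers e ⊔ zpowers f : Subgroup G) : Set G) = ⊥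
    · refine hqp (hfo.symm.trans (c.card_eq ns (hEp.to_le a2) (a2.trans hEV) a3 a1
        ((zpowers_le_of_mem hf).trans hED) (zpowers_le_of_mem (centralizer_le_normalizer _
          fun x hx => H5.isMulCommutative_iff'.1 h2.1 x (a2 hx) f hf)) (by simpa using hf2)
        fun r hr hr1 => ?_))
      rw [FT.semiprime_of_prime (hfo ▸ hq.out) r hr hr1, inf_assoc, ← centralizer_sup', a4]
    have hF0 : zpowers e ⊔ zpowers f ≠ ⊥ := fun a => a3 (eq_bot_iff.2 (le_sup_left.trans a.le))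
    have a5 := eq_of_le_of_card_le (Zg_anti le_sup_left α) ((c.card_Zg_eq ns (hEp.to_le a2)
      (a2.trans hEV) a3 a1).trans (c.card_Zg_eq ns (hEp.to_le hF) (hF.trans hEV) hF0 a4).symm).le
    obtain ⟨u, hu, a6, a7⟩ := c.C.exists_inv_cent (c.ne_two hEp hEV hE0) hEp (c.fix3 hEV)
      (c.le_stab hEV)
    have a8 := a5.ge (conj_mem_of_mem_normalizer (le_normalizer_Zg _ α
      ⟨(c.leD hk.1).1, centralizer_le_normalizer _ hk.2⟩)
      (mem_Zg_of hu a6 (mem_cent_of_le (a2.trans a7))))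
    exact a0 (c.comm_of_conj_cent hk.1 (hED hf) hu a6 (mem_centralizer_singleton_iff.1 (a7 hf))
      ((Zg_le _ α a8).2 f (mem_sup_right (mem_zpowers f)))).symm
  obtain ⟨L, a1, a2, a3, a4⟩ := c.exists_L ns q
  have a5 : L ≤ K ⊓ centralizer (E : Set G) := le_inf a1 (by
    rw [← iSup_centralizer_eq_of_not_isCyclic h2.1 hEc (hED.trans a3)
      (coprime_card_of_isPGroup a4 hEp).symm]
    exact iSup₂_le fun e he => (inf_le_inf_right _ a1).trans (key e he.1 he.2))
  have := c.bad_cyclic hEp hEV hE0 fun e => a2 (by rw [eq_bot_iff.2 (a5.trans e.le)]; infer_instance)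
  exact a2 (isCyclic_of_le a5)

omit ns in
theorem sup_eq : K ⊔ D2 G α β ⊓ centralizer {t} = D2 G α β :=
  le_antisymm (sup_le c.le inf_le_left) fun d hd => by
    obtain ⟨v, hv, k, hk, rfl⟩ := c.dec1 hd
    exact mul_mem (mem_sup_right hv) (mem_sup_left hk)

theorem not_hnpc {q : ℕ} [hq : Fact q.Prime] {x : G} (hx : x ∈ D2 G α β ⊓ centralizer {t})
    (e : orderOf x = q) (hK : K ⊓ centralizer (zpowers x : Set G) ≠ ⊥) :
    ¬ HasNormalPComplement q ↥(D2 G α β ⊓ centralizer {t}) := fun h => by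
  have hx1 : x ≠ 1 := fun a => hq.out.ne_one (by rw [← e, a, orderOf_one])
  have h1 := isPGroup_zpowers_of e
  have h2 := zpowers_le_of_mem hx
  obtain ⟨Q, h3, hQ⟩ := IsSylowIn.exists_ge h1 (h2.trans inf_le_left)
  obtain ⟨P, h4, hP⟩ := IsSylowIn.exists_ge h1 h2
  have h5 := c.C.le_comm_of_gd c.ne hQ (fun _ => ⟨x, h3 (mem_zpowers x), hx1,
    c.rk2 h1 h2 (by simpa using hx1) hK⟩) (h3 (mem_zpowers x))
  have h6 : D2 G α β ⊓ centralizer {t} ≤ normalizer (K : Set G) :=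
    (inf_le_left.trans inf_le_right).trans c.nrm
  have h7 := commutator_le_left_of_le_normalizer
    (le_normalizer (H := D2 G α β ⊓ centralizer {t}))
  obtain ⟨k, hk, w, hw, rfl⟩ := (mem_sup_iff_of_le_normalizer' (h7.trans h6)).1
    (FT.commutator_sup_self_le h6 (by rwa [c.sup_eq]))
  obtain rfl : k = 1 := mem_bot.1 (c.inv.inf_cent c.oddK ▸
    ⟨hk, ((mul_mem_cancel_right (h7 hw)).1 hx).2⟩)
  have := c.cyclic_V ns hP.isPGroup hP.le
  have h8 := FT.sylow_inf_der_le (FT.hall_of_hnpc h) hP ⟨h4 (mem_zpowers _), by rwa [one_mul]⟩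
  rw [commutator_eq_bot_iff_le_centralizer.2 (le_centralizer P)] at h8
  exact hx1 h8

theorem frob_prime (q : ℕ) : q.Prime → ∀ x ∈ D2 G α β ⊓ centralizer {t}, orderOf x = q →
    K ⊓ centralizer {x} = ⊥ := by
  induction q using Nat.strong_induction_on with | _ q ih
  intro hq x hx e
  have : Fact q.Prime := ⟨hq⟩
  have : Fact p.Prime := ⟨c.pp⟩
  by_contra h
  set V := D2 G α β ⊓ centralizer {t}
  obtain ⟨H, g, s, k, h1, h2, h3, hs, h4, h5, h6⟩ := FrobNPC.exists_not_centralizes_of_not_hnpc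
    (G := V) (c.not_hnpc ns hx e (by rwa [centralizer_zpowers]))
  have hc : ∀ a b : G, orderOf (a * b * a⁻¹) = orderOf b := fun a b =>
    (MulAut.conj a).orderOf_eq b
  have hVD : V ≤ st2 G α β := inf_le_left.trans inf_le_right
  have a1 := h1.map V.subtype
  have a2 := c.cyclic_V ns a1 (map_subtype_le H)
  have a3 := le_normalizer_map V.subtype (mem_map_of_mem _ h3)
  have a4 : (g : G) ∉ centralizer ((H.map V.subtype : Subgroup G) : Set G) := fun a =>
    h6 fun y hy => Subtype.ext (a y (mem_map_of_mem _ hy))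
  rw [← orderOf_coe] at h5
  have a5 : s < q := by
    by_contra a
    exact a4 (H4.mem_centralizer_of_isCyclic_of_lt hs hq (lt_of_le_of_ne (not_lt.1 a) h4.symm) a1
      h5 a3)
  obtain ⟨y, hy, hy1⟩ : ∃ y ∈ H.map V.subtype, orderOf y = q := by
    obtain ⟨y, hy⟩ := exists_prime_orderOf_dvd_card' (G := H.map V.subtype) q
      (FT.dvd_card_of_isPGroup a1 (by rwa [Ne, map_eq_bot_iff_of_injective _ V.subtype_injective]))
    exact ⟨y, y.2, by rwa [orderOf_coe]⟩
  have a6 := (zpowers_le_of_mem hy).trans (map_subtype_le H)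
  have a7 : K ⊓ centralizer (zpowers y : Set G) ≠ ⊥ := by
    obtain ⟨P, h7, hP⟩ := IsSylowIn.exists_ge a1 (map_subtype_le H)
    have := c.cyclic_V ns hP.isPGroup hP.le
    obtain ⟨v, hv, h8⟩ := hP.exists_conj_le (isPGroup_zpowers_of e) (zpowers_le_of_mem hx)
    have h9 := PGrp.mem_zpowers_of_orderOf_dvd (h7 hy) (h8 (conj_mem_map_conj (mem_zpowers x)))
      (by rw [hy1, ← e, hc])
    obtain ⟨⟨k, hk⟩, hk1⟩ := ne_bot_iff_exists_ne_one.1 h
    refine fun a => hk1 (Subtype.ext (conj_eq_one_iff.1 (mem_bot.1 (a.le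
      ⟨conj_mem_of_mem_normalizer (c.nrm (hVD hv)) hk.1, centralizer_le (zpowers_le_of_mem h9) ?_⟩))))
    rw [centralizer_zpowers, ← map_conj_cent1]
    exact conj_mem_map_conj hk.2
  have a8 := zpowers_le_of_mem g.2
  have a9 := c.card_eq ns (isPGroup_zpowers_of hy1) a6
    (fun a => hq.ne_one (by rw [← hy1, zpowers_eq_bot.1 a, orderOf_one])) a7 (a8.trans hVD)
    (zpowers_le_of_mem (mem_normalizer_of_conj_mem fun w hw => (zpowers_le_of_mem
      (show y ∈ (zpowers y).comap (MulAut.conj (g : G)).toMonoidHom from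
        PGrp.mem_zpowers_of_orderOf_dvd (conj_mem_of_mem_normalizer a3 hy) hy
          (hc _ _).dvd) hw :)))
    (fun a => a4 (zpowers_eq_bot.1 a ▸ one_mem _)) fun r hr hr1 => by
      obtain ⟨ℓ, hl, w, hw, e1⟩ := exists_prime_pow hr1
      have b1 := zpowers_le_of_mem hr hw
      obtain rfl : ℓ = s := (Nat.prime_dvd_prime_iff_eq hl hs).1
        (hl.dvd_of_dvd_pow (h5 ▸ e1 ▸ orderOf_dvd_of_mem_zpowers b1))
      rw [eq_bot_iff, ← ih ℓ a5 hl w (a8 b1) e1, ← centralizer_zpowers r]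
      exact inf_le_inf inf_le_left (centralizer_le (Set.singleton_subset_iff.2 hw))
  rw [Nat.card_zpowers] at a9
  have a10 := zpowers_le_of_mem c.zV
  have := c.cyc _ (sup_le (a8.trans inf_le_left) (a10.trans inf_le_left))
    (isPGroup_sup_of_le_normalizer (isPGroup_zpowers_of a9) (isPGroup_zpowers_of c.ord)
      (a8.trans ((c.z_cent ns).trans (centralizer_zpowers z ▸ centralizer_le_normalizer _))))
  refine a4 (zpowers_le_of_mem (mem_cent_of_le ((map_subtype_le H).trans (c.z_cent ns)))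
    (PGrp.mem_zpowers_of_orderOf_dvd (mem_sup_left (mem_zpowers _)) (mem_sup_right (mem_zpowers z))
      (by rw [a9, c.ord])))

theorem frob {x : G} (hx : x ∈ D2 G α β) (h : x ∉ K) : K ⊓ centralizer {x} = ⊥ := by
  obtain ⟨v, hv, k, hk, rfl⟩ := c.dec1 hx
  obtain ⟨q, hq, w, hw, e⟩ := exists_prime_pow (x := v) fun a => h (by rwa [a, one_mul])
  rw [eq_bot_iff, ← c.frob_prime ns q hq w (zpowers_le_of_mem hv hw) e]
  refine fun y hy => ⟨hy.1, centralizer_le (Set.singleton_subset_iff.2 hw) ?_⟩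
  have h1 := mem_centralizer_singleton_iff.1 hy.2
  rw [mul_assoc, c.inv.comm hk hy.1, ← mul_assoc, ← mul_assoc] at h1
  rw [centralizer_zpowers]
  exact mem_centralizer_singleton_iff.2 (mul_right_cancel h1)

omit ns in
theorem relIndex_cent {u : G} (hu : IsInv u) (h : u • α = α) {A : Subgroup G} (h1 : K ≤ A)
    (h2 : A ≤ stabilizer G α) : (centralizer {u}).relIndex A = Nat.card K := by
  refine le_antisymm ?_ (card_le_relIndex h1 (c.inf_cent hu h))
  rw [c.card_K, ← c.C.S.relIndex_cent_stab hu h]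
  exact relIndex_le_of_le_right h2 FiniteIndex.index_ne_zero

theorem false : False := by
  have := Fintype.ofFinite G
  obtain ⟨u, w, hu, hw, h1, h2, h3⟩ := Ca.exists_not_comm ⟨c.C.toCw, ns⟩ α
  obtain ⟨w', hw', h4, h5⟩ := c.C.S.exists_comm c.C.hr hu
  have h6 := c.C.S.fix_of_comm hu h1 h5.symm
  have hKJ := c.le.trans inf_le_left
  have huJ := mem_J2 hu h1
  have hzK : z ∉ K := fun e => c.z_ne_one
    (mem_bot.1 (c.fz ▸ ⟨e, mem_centralizer_singleton_iff.2 rfl⟩))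
  obtain ⟨r, hr, h7⟩ := rank_cases (J := J2 G α) (C := J2 G α ⊓ centralizer {u}) inf_le_left
    ⟨_, FT.frobIn_of_cent (lt_of_le_of_ne c.le fun e => hzK (e ▸ c.zD)) (inf_le_right.trans c.nrm)
      c.K_ne_bot (fun k hk e x hx => by
        by_contra a
        exact e (mem_bot.1 (c.frob ns hx.1 a ▸ ⟨hk, mem_centralizer_singleton_iff.2
          (mem_centralizer_singleton_iff.1 hx.2).symm⟩)))
      (E := D2 G α β ⊓ centralizer {t}) ⟨c.le, inf_le_left, eq_bot_iff.2
        ((inf_le_inf_left _ inf_le_right).trans (c.inv.inf_cent c.oddK).le), fun d hd => by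
          obtain ⟨v, hv, k, hk, e⟩ := c.dec1 (inv_mem hd)
          exact ⟨k⁻¹, inv_mem hk, v⁻¹, inv_mem hv, by rw [← mul_inv_rev, ← e, inv_inv]⟩⟩⟩
    c.le c.inv.isMulCommutative (odd_of_le c.oddD inf_le_right)
    ⟨by
      obtain ⟨⟨k, hk⟩, e⟩ := ne_bot_iff_exists_ne_one.1 c.K_ne_bot
      exact ⟨k, hk, fun a => e (Subtype.ext a)⟩, inf_le_left,
      FT.sharp_conj (inf_le_right.trans c.nrm), fun g hg a ha e => ⟨hg, J2_le α hg,
        c.eq_of_fix e.1 e.2 (smul_ne_of_fix (J2_le α hg) c.ne.symm)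
          (conj_smul_eq (c.leD ha.1).2)⟩⟩
    (fun x hx => by
      obtain ⟨k, hk, e⟩ := c.reg hu h1 (hu.conj x⁻¹) (conj_fix (J2_le α (inv_mem hx)) h1)
      refine ⟨x * k, ⟨mul_mem hx (hKJ hk), mem_centralizer_singleton_iff.2 ?_⟩, k⁻¹, inv_mem hk,
        by group⟩
      rw [mul_assoc, mul_inv_eq_iff_eq_mul.1 e]; group)
    (eq_bot_iff.2 fun x hx => (c.inf_cent hu h1).le ⟨hx.2, hx.1.2⟩)
  have h8 : Nat.card ↥(D2 G α β ⊓ centralizer {u}) = K.relIndex (D2 G α β) := by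
    have := SE.card_inf_mul_relIndex (centralizer {u}) (D2 G α β)
    rw [c.relIndex_cent hu h1 c.le (inf_le_left.trans (J2_le α)), ← card_mul_relIndex c.le,
      mul_comm] at this
    exact Nat.eq_of_mul_eq_mul_left Nat.card_pos this
  have h9 : ∀ s, IsInv s → s • α = α → s ≠ u →
      D2 G α β ⊓ centralizer {u} ⊓ centralizer {s} = ⊥ := fun s hs a b => eq_bot_iff.2 fun y hy => by
    obtain ⟨k, hk, rfl⟩ := c.reg hu h1 hs a
    by_cases e : y ∈ K
    · exact (c.inf_cent hu h1).le ⟨e, hy.1.2⟩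
    have : k = 1 := mem_bot.1 ((c.frob ns hy.1.1 e).le ⟨hk, mem_centralizer_singleton_iff.2
      (c.comm_of_conj_cent hk hy.1.1.2 hu h1 (mem_centralizer_singleton_iff.1 hy.1.2)
        (mem_centralizer_singleton_iff.1 hy.2))⟩)
    simp [this] at b
  have h10 : D2 G α β ⊓ centralizer {u} ≤ J2 G α ⊓ centralizer {u} :=
    inf_le_inf_right _ inf_le_left
  have h11 := rank_bounds (rank_formula hr) (c.relIndex_cent hu h1 hKJ (J2_le α))
    (v := K.relIndex (D2 G α β)) (fun x hx e => ?_) ?_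
  · omega
  · have a1 : IsInv (x⁻¹ * u * x) := by simpa using hu.conj x⁻¹
    have a2 : (x⁻¹ * u * x) • α = α := by simpa using conj_fix (J2_le α (inv_mem hx)) h1
    have a3 : x⁻¹ * u * x ≠ u := fun a => e (mem_centralizer_singleton_iff.2 (by
      rw [mul_assoc, inv_mul_eq_iff_eq_mul] at a; exact a.symm))
    refine ⟨h8 ▸ card_le_relIndex h10 (h9 _ a1 a2 a3), ?_⟩
    generalize x⁻¹ * u * x = s at a1 a2 a3
    obtain ⟨s', b1, b2, b3, b4⟩ : ∃ s', IsInv s' ∧ s' • α = α ∧ s' ≠ u ∧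
        (u * s = s * u ↔ u * s' ≠ s' * u) := by
      by_cases b : u * s = s * u
      · exact ⟨w, hw, h2, fun a => h3 (by rw [a]), by simp [b, h3]⟩
      · exact ⟨w', hw', h6, h4.symm, by simp [b, h5]⟩
    have b5 : ∀ g ∈ J2 G α ⊓ centralizer {u}, g * s * g⁻¹ ≠ u ∧ g * s * g⁻¹ ≠ s' := fun g hg => by
      have b6 := mul_inv_eq_iff_eq_mul.2 (mem_centralizer_singleton_iff.1 hg.2)
      refine ⟨fun a => a3 (by simpa using a.trans b6.symm), ?_⟩
      rintro rfl
      have b7 : u * s = s * u ↔ u * (g * s * g⁻¹) = g * s * g⁻¹ * u := by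
        conv_rhs => rw [← b6, conj_mul, conj_mul, mul_left_inj, mul_right_inj]
      tauto
    rw [← Frob.ncard_conj_subgroup, c.card_K, nJ, ← Set.ncard_insert_of_notMem (a := u) (by
      rintro ⟨g, hg, a⟩; exact (b5 g hg).1 a)]
    refine Set.ncard_lt_ncard ⟨?_, fun a => ?_⟩
    · rintro _ (rfl | ⟨g, hg, rfl⟩)
      exacts [⟨hu, h1⟩, ⟨a1.conj g, conj_fix (J2_le α hg.1) a2⟩]
    · rcases a ⟨b1, b2⟩ with a | ⟨g, hg, a⟩
      exacts [b3 a, (b5 g hg).2 a]
  · obtain ⟨k, hk, rfl⟩ := c.reg hu h1 hw h2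
    have a1 := mem_centralizer_singleton_iff.2 (rfl : u * u = u * u)
    have a2 := odd_of_le c.oddD (inf_le_left.trans inf_le_right : D2 G α β ⊓ centralizer {u} ≤ _)
    refine ⟨k⁻¹, inv_mem (hKJ hk), fun a => h3 ?_, h8 ▸ (card_lt_card_of_lt (left_lt_sup.2 fun a =>
      hu.not_odd (a (mem_zpowers u)) a2)).trans_le (card_le_relIndex
        (sup_le h10 (zpowers_le_of_mem ⟨huJ, a1⟩)) (eq_bot_iff.2 fun y hy => ?_))⟩
    · rw [mul_inv_eq_iff_eq_mul.2 (mem_centralizer_singleton_iff.1 (inv_mem_iff.1 a))]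
    rw [inv_inv] at hy
    obtain ⟨x, hx, s, hs, rfl⟩ := (mem_sup_iff_of_le_normalizer (inf_le_right.trans
      (centralizer_zpowers u ▸ centralizer_le_normalizer _))).1 hy.1
    have a3 := h9 _ hw h2 fun a => h3 (by rw [a])
    rcases inv_cases hu hs with rfl | rfl
    · exact a3.le ⟨by simpa using hx, hy.2⟩
    have a5 : x * s * (x * s) = x * x := by
      rw [mul_assoc, ← mul_assoc s, ← mem_centralizer_singleton_iff.1 hx.2, mul_assoc, hu.1,
        mul_one]
    have a4 : x * x = 1 := mem_bot.1 (a3.le ⟨mul_mem hx hx, a5 ▸ (centralizer _).mul_mem hy.2 hy.2⟩)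
    obtain rfl := Invol.eq_one_of_odd (odd_orderOf_of_mem a2 hx) a4
    exact absurd (mem_centralizer_singleton_iff.1 hy.2) (by simpa using h3)

end Cv

theorem Ca.false [Finite G] (C : Ca G Ω) : False := by
  obtain ⟨α, β, h⟩ := C.S.nontriv
  obtain ⟨p, z, t, K, c⟩ := C.cm.exists_cv h
  exact c.false C.ns

end CfsgLib.SEB
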