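import Cfsg.Agent.Lib.SEB.Defs

/-! Project SEB: an involution centralizes the invariant three point stabilizers, part 1. -/

set_option autoImplicit false

namespace CfsgLib.SEB

open Subgroup MulAction Cfsg CfsgLib.Cop CfsgLib.H1 CfsgLib.SE CfsgLib.SEG
open scoped commutatorElement

variable {G Ω : Type*} [Group G] [MulAction G Ω]

theorem comm_mem_of_sq {E W : Subgroup G} (h1 : E ≤ normalizer (W : Set G))
    (h2 : ∀ x ∈ E, x * x ∈ W) : ∀ x ∈ E, ∀ y ∈ E, ⁅x, y⁆ ∈ W := fun x hx y hy => by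
  have := W.mul_mem (W.mul_mem (h2 _ (E.mul_mem hx hy)) (conj_mem_of_mem_normalizer'
    (h1 hy) (h2 _ (E.inv_mem hx)))) (h2 _ (E.inv_mem hy))
  convert this using 1
  simp only [commutatorElement_def]; group

theorem piCore_sup_le [Finite G] {p : ℕ} [Fact p.Prime] {X E : Subgroup G} (hX : IsPGroup p X)
    (h : X ≤ normalizer (E : Set G)) : piCoreOf {p}ᶜ (X ⊔ E) ≤ E := by
  refine le_of_coprime_relIndex (piCoreOf_le _) (sup_le h le_normalizer) ?_
  rw [relIndex_sup_of_le_normalizer h]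
  exact (coprime_card_of_isPGroup (piCoreOf_compl_coprime p _) hX).coprime_dvd_right
    (relIndex_dvd_card _ _)

namespace Ca

variable [Finite G] (C : Ca G Ω)
include C

theorem not_le {t : G} {δ γ : Ω} (ht : IsInv t) (h : t • δ = δ) (hne : γ ≠ δ) :
    ¬ st2 G γ (t • γ) ≤ stabilizer G δ := fun h1 => by
  have h2 : st2 G γ (t • γ) = st2 G δ γ := eq_of_le_of_card_le (le_inf h1 inf_le_left)
    (C.S.card_st2_sigma ht h hne).le
  have h3 : t ∈ normalizer (st2 G δ γ : Set G) := h2 ▸ norm_st2 ht γ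
  have h4 : ∀ u, IsInv u → u • δ = δ → u * t⁻¹ ∈ st2 G δ γ := fun u hu e => by
    obtain ⟨d, hd, rfl⟩ := C.S.exists_conj hne.symm ht hu h e
    exact cm_le h3 (mem_cm hd t)
  obtain ⟨a, ha, b, hb, h5, h6, h7, h8⟩ := C.S.rk2_stab C.hr δ
  refine (isInv_mul h5 h6 h7 h8).not_odd ?_ (C.S.odd_st2 hne.symm)
  simpa [h6.inv_eq, mul_assoc] using mul_mem (h4 a h5 ha) (inv_mem (h4 b h6 hb))

theorem false_of_eq {t : G} {δ γ γ' : Ω} (ht : IsInv t) (h : t • δ = δ) (hne : γ ≠ δ)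
    (hne' : γ' ≠ δ) {ℓ : ℕ} (e : pCoreOf ℓ (st2 G δ γ') = pCoreOf ℓ (st2 G γ (t • γ)))
    (h1 : pCoreOf ℓ (st2 G γ (t • γ)) ≠ ⊥) : False := by
  refine C.not_le ht h hne ((le_normalizer_pCoreOf (p := ℓ) _).trans (C.le_stab_of_inv
    (C.norm_ne_top (odd_of_le (C.S.odd_st2 (C.S.smul_ne ht h hne).symm) (pCoreOf_le _)) h1)
    fun u hu e1 => ?_))
  obtain ⟨d, hd, rfl⟩ := C.S.exists_conj hne'.symm ht hu h e1
  have h2 := le_normalizer_pCoreOf (p := ℓ) _ hd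
  rw [e] at h2
  exact mul_mem (mul_mem h2 (normalizer_le_normalizer_pCoreOf _ (norm_st2 ht γ))) (inv_mem h2)

section B

variable {M N : Subgroup G} {t : G} {δ : Ω} (h : Sit M t δ) (hN : N ≠ ⊤) (hM : M ≤ N)
  (ht : t ∈ N) (hδ : ¬ N ≤ stabilizer G δ) (h2 : Rk2 N)
include h hN hM ht hδ h2

omit hM in
theorem b_bt {m : G} (hm : m ∈ N) : BU N (m • δ) :=
  C.ih N _ hN (C.S.rk2_inf (h.inv.conj m) (mul_mem (mul_mem hm ht) (inv_mem hm))
    (conj_smul_eq h.fix) h2) fun e => hδ fun x hx => by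
      have h3 : m • δ = δ := smul_left_cancel m (e hm)
      rw [← h3]; exact e hx

theorem b_le_Ker : M ≤ Ker N δ := by
  have B := C.b_bt h hN ht hδ h2 N.one_mem
  rw [one_smul] at B
  refine h.le_iff.2 fun x hx => mem_of_sq_mem
    (odd_orderOf_of_mem h.odd (h.eq ▸ mem_cm hx t)) ?_
  have h3 := N.mul_mem (N.mul_mem (hM hx) ht) (N.inv_mem (hM hx))
  have h4 := N.mul_mem h3 (N.inv_mem ht)
  refine mem_Ker.2 ⟨N.mul_mem h4 h4, fun m hm => B.sq h3 (N.inv_mem ht) (h.inv.conj x)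
    (h.inv.inv_eq.symm ▸ h.inv) ?_ (h.inv.inv_eq.symm ▸ h.fix) hm⟩
  have := conj_smul_eq (g := x) h.fix
  rwa [show x • δ = δ from h.le hx] at this

omit h hN hM ht h2 in
theorem odd_Ker : Odd (Nat.card (Ker N δ)) := by
  obtain ⟨m, hm, h3⟩ := SetLike.not_le_iff_exists.1 hδ
  exact C.S.odd_of_le h3 (Ker_le_stab δ hm) (Ker_le_stab' N δ)

theorem b_cm : cm (Ker N δ) t = M := by
  obtain ⟨m, hm, h3⟩ := SetLike.not_le_iff_exists.1 hδ
  exact h.cm_eq h3 (C.b_le_Ker h hN hM ht hδ h2) (Ker_le_stab' N δ) (Ker_le_stab δ hm)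
    (le_normalizer_Ker N δ ht)

omit hN hM h2 in
theorem b_conj {u : G} (hu : IsInv u) (huN : u ∈ N) : ∃ d ∈ N, d * t * d⁻¹ = u := by
  obtain ⟨m, hm, h3⟩ := SetLike.not_le_iff_exists.1 hδ
  exact C.S.exists_conj_in hm h3 h.inv ht h.fix hu huN

theorem b_pCore_le (p : ℕ) : pCoreOf p M ≤ pCoreOf p (Ker N δ) :=
  pCoreOf_le_of_le_normalizer (C.b_le_Ker h hN hM ht hδ h2)
    (C.b_cm h hN hM ht hδ h2 ▸ le_normalizer_cm _ t)

theorem b_cent {p : ℕ} (hp : ¬ pCoreOf p M ≤ centralizer {t}) :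
    centralizer (pCoreOf p M : Set G) ≤ stabilizer G δ := by
  obtain ⟨b, hb, h3, h4, h5⟩ : ∃ b ∈ N, IsInv b ∧ t ≠ b ∧ t * b = b * t := by
    obtain ⟨a, ha, b, hb, h3, h4, h5, h6⟩ := h2
    obtain ⟨d, hd, rfl⟩ := C.b_conj h ht hδ h3 ha
    refine ⟨d⁻¹ * b * d⁻¹⁻¹, mul_mem (mul_mem (inv_mem hd) hb) (inv_mem (inv_mem hd)), h4.conj _,
      fun e => h5 (by rw [e]; group), comm_conj (by rwa [inv_inv])⟩
  have hn := (le_normalizer_Ker N δ).trans (normalizer_le_normalizer_pCoreOf (p := p) _)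
  have ho := odd_of_le (C.odd_Ker hδ) (pCoreOf_le (p := p) _)
  obtain ⟨v, hv, y, hy, hy1, e1, e2⟩ := exists_step h.inv h3 h4 h5 ho (hn ht) (hn hb)
    fun e => hp ((C.b_pCore_le h hN hM ht hδ h2 p).trans e)
  have hv' : IsInv v := by
    rcases hv with rfl | rfl
    exacts [h3, isInv_mul h.inv h3 h4 h5]
  have hyo := odd_orderOf_of_mem ho hy
  have h6 : y ∈ pCoreOf p M := pCoreOf_inf_le (C.b_le_Ker h hN hM ht hδ h2)
    ⟨hy, C.b_cm h hN hM ht hδ h2 ▸ mem_cm_of_inverts (pCoreOf_le _ hy) hyo e2⟩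
  exact fun x hx => C.S.cent_le_of_inverts hyo hy1 h.inv hv' h.fix e2 e1.symm
    (mem_centralizer_singleton_iff.2 (hx y h6).symm)

theorem b_eq {p q : ℕ} [Fact p.Prime] [Fact q.Prime] (hpq : p ≠ q)
    (hp : ¬ pCoreOf p M ≤ centralizer {t}) (hq : ¬ pCoreOf q M ≤ centralizer {t}) {γ : Ω}
    (hne : γ ≠ δ) (h1 : M ≤ stabilizer G γ) :
    pCoreOf p (st2 G γ (t • γ) ⊓ stabilizer G δ) = pCoreOf p (st2 G γ (t • γ)) := by
  have key : ∀ r : ℕ, ¬ pCoreOf r M ≤ centralizer {t} →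
      st2 G γ (t • γ) ⊓ centralizer (pCoreOf r (st2 G γ (t • γ)) : Set G) ≤
        st2 G γ (t • γ) ⊓ stabilizer G δ := fun r hr => inf_le_inf_left _
    ((centralizer_le (h.pCore_le C.S r hne h1)).trans (C.b_cent h hN hM ht hδ h2 hr))
  exact pCore_eq_of_cent hpq ((le_inf (pCoreOf_le _) (pCore_le_cent_pCore hpq.symm _)).trans
    (key p hp)) inf_le_left (key q hq)

theorem b_fix {p q : ℕ} [Fact p.Prime] [Fact q.Prime] (hpq : p ≠ q)
    (hp : ¬ pCoreOf p M ≤ centralizer {t}) (hq : ¬ pCoreOf q M ≤ centralizer {t}) {m n : G}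
    (hm : m ∈ N) (hn : n ∈ N) (hne : m • δ ≠ n • δ) :
    ∃ d ∈ N, IsInv (d * t * d⁻¹) ∧ (d * t * d⁻¹) • m • δ = n • δ ∧ m • δ ≠ d • δ ∧ n • δ ≠ d • δ ∧
      pCoreOf p (st2 G (m • δ) (n • δ) ⊓ stabilizer G (d • δ)) =
        pCoreOf p (st2 G (m • δ) (n • δ)) ∧ pCoreOf p (st2 G (m • δ) (n • δ)) ≠ ⊥ := by
  have hK := C.b_le_Ker h hN hM ht hδ h2
  obtain ⟨s, hs, h5, -, h6, h7⟩ := C.S.exists_swap_mem (h.inv.conj m) (h.inv.conj n)
    (conj_smul_eq h.fix) (conj_smul_eq h.fix) hne (N.mul_mem (N.mul_mem hm ht) (N.inv_mem hm))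
    (N.mul_mem (N.mul_mem hn ht) (N.inv_mem hn))
  obtain ⟨d, hd, rfl⟩ := C.b_conj h ht hδ h5 hs
  have h8 := conj_smul_eq (g := d) h.fix
  have h9 : M.map (MulAut.conj d).toMonoidHom ≤ Ker N δ := by
    rintro _ ⟨x, hx, rfl⟩
    exact conj_mem_of_mem_normalizer (le_normalizer_Ker N δ hd) (hK hx)
  have hc : ∀ r : ℕ, ¬ pCoreOf r M ≤ centralizer {t} →
      ¬ pCoreOf r (M.map (MulAut.conj d).toMonoidHom) ≤ centralizer {d * t * d⁻¹} :=
    fun r hr e => hr fun x hx => by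
      have := mem_centralizer_singleton_iff.1 (e (pCoreOf_map_conj M d ▸ conj_mem_map_conj hx))
      rw [conj_mul, conj_mul] at this
      exact mem_centralizer_singleton_iff.2 (by simpa using this)
  have h10 : m • δ ≠ d • δ := fun e => hne (by rw [← h6, e, h8])
  have h11 := h9.trans (Ker_le_stab δ hm)
  have e1 := C.b_eq (h.conj d) hN (h9.trans (Ker_le N δ)) hs (fun e => hδ fun x hx => by
    have := e (N.mul_mem (N.mul_mem hd hx) (N.inv_mem hd))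
    rwa [mem_stabilizer_iff, mul_smul, mul_smul, inv_smul_smul, smul_left_cancel_iff] at this)
    h2 hpq (hc p hp) (hc q hq) h10 h11
  have e2 := (h.conj d).pCore_le C.S p h10 h11
  rw [h6] at e1 e2
  exact ⟨d, hd, h5, h6, h10, fun e => hne (by rw [← h7, e, h8]), e1,
    fun e => hc p hp ((e2.trans e.le).trans bot_le)⟩

omit hN hM ht hδ h2 in
theorem b_max {p q : ℕ} [hp' : Fact p.Prime] [Fact q.Prime] (hpq : p ≠ q) (hp2 : p ≠ 2)
    (hp : ¬ pCoreOf p M ≤ centralizer {t}) (hq : ¬ pCoreOf q M ≤ centralizer {t})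
    {A : Subgroup G} (hA : IsPGroup p A) (h0 : A ≠ ⊥) (h1 : A ≤ stabilizer G δ)
    (hM : M ≤ normalizer (A : Set G)) (ht : t ∈ normalizer (A : Set G))
    (hδ : ¬ normalizer (A : Set G) ≤ stabilizer G δ) (h2 : Rk2 (normalizer (A : Set G)))
    (hmax : ∀ B : Subgroup G, IsPGroup p B → A ≤ B → B ≤ stabilizer G δ →
      M ≤ normalizer (B : Set G) → t ∈ normalizer (B : Set G) →
      ¬ normalizer (B : Set G) ≤ stabilizer G δ → Rk2 (normalizer (B : Set G)) → B ≤ A)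
    {n : G} (hn : n ∈ normalizer (A : Set G)) (hne : n • δ ≠ δ) :
    pCoreOf p (st2 G δ (n • δ)) ≤ Ker (normalizer (A : Set G)) δ := by
  have hN := C.norm_ne_top (odd_card_of_isPGroup hp2 hA) h0
  set N := normalizer (A : Set G) with hNd
  set W := Ker N δ
  have hbt := fun {m : G} (hm : m ∈ N) => C.b_bt h hN ht hδ h2 hm
  have hAW : A ≤ W := fun x hx => mem_Ker.2 ⟨le_normalizer hx, fun m hm => le_stab_smul hm h1 hx⟩
  have hWD : W ≤ N ⊓ st2 G δ (n • δ) :=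
    le_inf (Ker_le N δ) (le_inf (Ker_le_stab' N δ) (Ker_le_stab δ hn))
  set X := pCoreOf p (st2 G δ (n • δ)) ⊓ N with hX
  have hXp : IsPGroup p X := (pCoreOf_isPGroup _).to_le inf_le_left
  have hXD : X ≤ st2 G δ (n • δ) := inf_le_left.trans (pCoreOf_le _)
  have hXn : N ⊓ st2 G δ (n • δ) ≤ normalizer (X : Set G) := le_normalizer_inf
    (inf_le_right.trans (le_normalizer_pCoreOf _)) (inf_le_left.trans le_normalizer)
  obtain ⟨d, hd, -, -, h3, h4, h5, -⟩ := C.b_fix h hN hM ht hδ h2 hpq hp hq N.one_mem hn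
    (by rw [one_smul]; exact hne.symm)
  rw [one_smul] at h3 h5
  have h6 : X ≤ stabilizer G (d • δ) :=
    inf_le_left.trans (h5.ge.trans ((pCoreOf_le _).trans inf_le_right))
  have key : ∀ a ∈ N, ∀ b ∈ N, a • δ ≠ b • δ → a • δ ≠ d • δ → b • δ ≠ d • δ →
      st2 G (a • δ) (b • δ) = st2 G δ (n • δ) → ∀ v ∈ N, IsInv v → v • a • δ = a • δ →
      v ∈ normalizer ((X ⊔ W : Subgroup G) : Set G) := by
    intro a ha b hb e1 e2 e3 e4 v hv hvi e5
    have e6 : ∀ {c : G}, (c * a⁻¹) • a • δ = c • δ := fun {c} => by rw [mul_smul, inv_smul_smul]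
    obtain ⟨u, hu, hui, e7, e8⟩ := (hbt ha).ct p hp'.out hp2 X hXp
      (le_inf inf_le_right (hXD.trans (e4.ge.trans inf_le_left))) _
      (N.mul_mem hb (N.inv_mem ha)) _ (N.mul_mem hd (N.inv_mem ha)) (by rw [e6]; exact e1.symm)
      (by rw [e6]; exact e2.symm) (by rw [e6, e6]; exact e3)
      (by rw [e6]; exact hXD.trans (e4.ge.trans inf_le_right)) (by rw [e6]; exact h6)
    rw [Ker_smul δ ha] at e8
    obtain ⟨c, hc, hc', rfl⟩ := C.S.exists_conj_mem e1 hui hvi e7 e5 hu hv (h.inv.conj b)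
      (conj_smul_eq h.fix) (N.mul_mem (N.mul_mem hb ht) (N.inv_mem hb))
    have e9 : u ∈ normalizer ((X ⊔ W : Subgroup G) : Set G) := by
      refine le_normalizer_sup_of_commutator_le ?_ (zpowers_le_of_mem (le_normalizer_Ker N δ hu))
        (mem_zpowers u)
      exact (cm_le_iff hui).2 e8
    have e10 : c ∈ normalizer ((X ⊔ W : Subgroup G) : Set G) := le_normalizer_sup
      (zpowers_le_of_mem (hXn ⟨hc, e4 ▸ hc'⟩)) (zpowers_le_of_mem (le_normalizer_Ker N δ hc))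
      (mem_zpowers c)
    exact mul_mem (mul_mem e10 e9) (inv_mem e10)
  have hY := normalizer_le_normalizer_pCoreOf (p := p) (X ⊔ W)
  have k1 : ∀ v ∈ N, IsInv v → v • δ = δ → v ∈ normalizer (pCoreOf p (X ⊔ W) : Set G) :=
    fun v hv hi e => hY (key 1 N.one_mem n hn (by rw [one_smul]; exact hne.symm)
      (by rwa [one_smul]) h4 (by rw [one_smul]) v hv hi (by rwa [one_smul]))
  have h7 := hmax _ (pCoreOf_isPGroup (X ⊔ W)) (le_pCoreOf (hAW.trans le_sup_right)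
    (sup_le inf_le_right (Ker_le N δ)) hA) ((pCoreOf_le _).trans (sup_le (hXD.trans inf_le_left)
      (Ker_le_stab' N δ))) (((C.b_le_Ker h hN hM ht hδ h2).trans le_sup_right).trans
      (le_normalizer_pCoreOf _)) (k1 t ht h.inv h.fix) (fun e => hne (C.S.uniq _ (h.inv.conj n) _ _
        (conj_smul_eq h.fix) (e (hY (key n hn 1 N.one_mem (by rwa [one_smul]) h4
          (by rwa [one_smul]) (by rw [one_smul, st2, inf_comm]) _
          (N.mul_mem (N.mul_mem hn ht) (N.inv_mem hn)) (h.inv.conj n) (conj_smul_eq h.fix)))))) (by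
      obtain ⟨a, ha, b, hb, e1, e2, e3⟩ := C.S.rk2_inf h.inv ht h.fix h2
      exact ⟨a, k1 a ha.1 e1 ha.2, b, k1 b hb.1 e2 hb.2, e1, e2, e3⟩)
  have h8 : X ≤ A := (le_pCoreOf le_sup_left (sup_le le_normalizer (hWD.trans hXn)) hXp).trans h7
  have h9 : A ≤ normalizer (pCoreOf p (st2 G δ (n • δ)) : Set G) :=
    (hAW.trans (hWD.trans inf_le_right)).trans (le_normalizer_pCoreOf _)
  refine le_trans ?_ hAW
  by_contra h10
  obtain ⟨x, ⟨hx, hxn⟩, hxA⟩ := SetLike.exists_of_lt (lt_inf_normalizer_of_isPGroup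
    (isPGroup_sup_of_le_normalizer hA (pCoreOf_isPGroup _) h9)
    (lt_of_le_of_ne le_sup_left fun e => h10 (e ▸ le_sup_right)))
  obtain ⟨a, ha, b, hb, rfl⟩ := (mem_sup_iff_of_le_normalizer h9).1 hx
  exact hxA (A.mul_mem ha (h8 ⟨hb, by simpa using mul_mem (inv_mem (le_normalizer ha)) hxn⟩))

theorem b_one {p q : ℕ} [Fact p.Prime] [Fact q.Prime] (hpq : p ≠ q) (hp2 : p ≠ 2)
    (hp : ¬ pCoreOf p M ≤ centralizer {t}) (hq : ¬ pCoreOf q M ≤ centralizer {t}) : False := by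
  obtain ⟨A, ⟨hA, h0, h1, hM', ht', hδ', h2'⟩, hmax⟩ := exists_maximal_of_wellFoundedGT
    (fun A : Subgroup G => IsPGroup p A ∧ A ≠ ⊥ ∧ A ≤ stabilizer G δ ∧ M ≤ normalizer (A : Set G) ∧
      t ∈ normalizer (A : Set G) ∧ ¬ normalizer (A : Set G) ≤ stabilizer G δ ∧
      Rk2 (normalizer (A : Set G))) (by
      have hn := (le_normalizer_Ker N δ).trans (normalizer_le_normalizer_pCoreOf (p := p) _)
      exact ⟨_, pCoreOf_isPGroup (Ker N δ),
        fun e => hp (((C.b_pCore_le h hN hM ht hδ h2 p).trans e.le).trans bot_le),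
        (pCoreOf_le _).trans (Ker_le_stab' N δ), hM.trans hn, hn ht, fun e => hδ (hn.trans e),
        h2.mono hn⟩)
  have key := fun n hn hne => C.b_max h hpq hp2 hp hq hA h0 h1 hM' ht' hδ' h2'
    (fun B a b c d e f g => hmax ⟨a, fun e => h0 (eq_bot_iff.2 (b.trans e.le)), c, d, e, f, g⟩ b)
    (n := n) hn hne
  have hL := C.norm_ne_top (odd_card_of_isPGroup hp2 hA) h0
  generalize normalizer (A : Set G) = L at *
  obtain ⟨⟨m, n⟩, ⟨hm, hn, hne⟩, hmin⟩ := Set.exists_min_image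
    {x : G × G | x.1 ∈ L ∧ x.2 ∈ L ∧ x.1 • δ ≠ x.2 • δ}
    (fun x => Nat.card (pCoreOf p (st2 G (x.1 • δ) (x.2 • δ)))) (Set.toFinite _) (by
      obtain ⟨m, hm, h3⟩ := SetLike.not_le_iff_exists.1 hδ'
      exact ⟨(m, 1), hm, L.one_mem, by simpa using h3⟩)
  obtain ⟨d, hd, h3, h4, h5, h6, h7, h8⟩ := C.b_fix h hL hM' ht' hδ' h2' hpq hp hq hm hn hne
  simp only at hm hn hne h3 h4 h5 h6 h7 h8 hmin
  have h9 : pCoreOf p (st2 G (d • δ) (m • δ)) ≤ stabilizer G (n • δ) := by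
    have e : m • δ = d • (d⁻¹ * m) • δ := by rw [mul_smul, smul_inv_smul]
    rw [e, st2_smul, pCoreOf_map_conj]
    rintro _ ⟨x, hx, rfl⟩
    exact Ker_le_stab δ hn (conj_mem_of_mem_normalizer (le_normalizer_Ker L δ hd)
      (key _ (L.mul_mem (L.inv_mem hd) hm) (fun e1 => h5 (by rw [e, e1])) hx))
  refine C.false_of_eq h3 (conj_smul_eq h.fix) h5 h5 (ℓ := p) ?_ (h4 ▸ h8)
  rw [h4]
  refine eq_of_le_of_card_le ?_ (hmin (d, m) ⟨hd, hm, h5.symm⟩)
  rw [← h7]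
  exact pCoreOf_le_pCoreOf (le_inf inf_le_right (inf_le_left.trans inf_le_left))
    (le_inf (le_inf ((pCoreOf_le _).trans inf_le_right) h9) ((pCoreOf_le _).trans inf_le_left))

theorem b_step {p : ℕ} [Fact p.Prime] (hp2 : p ≠ 2) (hp : ¬ pCoreOf p M ≤ centralizer {t})
    (h1 : ∀ (ℓ : ℕ) [Fact ℓ.Prime], ℓ ≠ p → pCoreOf ℓ M ≤ centralizer {t}) {α : Ω} (hne : α ≠ δ)
    (h3 : Rk2 (N ⊓ stabilizer G α)) {X : Subgroup G} (hX : IsSylowIn p X (N ⊓ st2 G α (t • α)))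
    (htX : t ∈ normalizer (X : Set G)) :
    M ≤ normalizer (dSub X : Set G) ∧
      ∀ a ∈ N, IsInv a → a • α = α → a ∈ normalizer (dSub X : Set G) := by
  have hβ := C.S.smul_ne h.inv h.fix hne
  obtain ⟨a₀, ha₀, -, -, ha₀i, -⟩ := id h3
  obtain ⟨m, hm, -, -, rfl, -⟩ := C.S.exists_swap_mem h.inv ha₀i h.fix ha₀.2 hne.symm ht ha₀.1
  have B := C.b_bt h hN ht hδ h2 hm
  set α := m • δ with hα
  have hW : Ker N α = Ker N δ := Ker_smul δ hm
  have hS : IsSylowIn p X (N ⊓ stabilizer G α) := by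
    obtain ⟨P, hP⟩ := IsSylowIn.exists_in (p := p) (N ⊓ stabilizer G α)
    refine hP.of_card_le hX.isPGroup (hX.le.trans (inf_le_inf_left _ inf_le_left)) ?_
    obtain ⟨n, hn, h4, h5⟩ := B.conc.c1 p Fact.out hp2 P hP.le hP.isPGroup
    by_cases e : n • α = t • α
    · exact hX.card_le hP.isPGroup (le_inf (hP.le.trans inf_le_left)
        (le_inf (hP.le.trans inf_le_right) (e ▸ h5)))
    obtain ⟨s, hs, h6, h7⟩ := B.tr hn ht h4 hβ
    rw [← card_map_conj s P]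
    refine hX.card_le (hP.isPGroup.map _) (le_inf ?_ (le_inf ?_ (h7 ▸ map_conj_le_stab h5)))
    · rintro _ ⟨x, hx, rfl⟩
      exact N.mul_mem (N.mul_mem hs (hP.le hx).1) (N.inv_mem hs)
    · have := map_conj_le_stab (g := s) (hP.le.trans inf_le_right)
      rwa [h6] at this
  have hWα : Ker N δ ≤ N ⊓ stabilizer G α := le_inf (Ker_le N δ) (Ker_le_stab δ hm)
  obtain ⟨E, hE1, hE2, hE3, hE4, hE5⟩ := B.exE
  rw [hW] at hE1 hE5
  have hY : X ⊔ E ≤ N ⊓ stabilizer G α := sup_le hS.le hE2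
  have hWY : Ker N δ ≤ X ⊔ E := hE1.trans le_sup_right
  have hU : Odd (Nat.card (piCoreOf {p}ᶜ (X ⊔ E))) := by
    refine odd_of_forall fun u hu hi => hp ?_
    obtain ⟨d, hd, rfl⟩ := C.b_conj h ht hδ hi (hY (piCoreOf_le _ hu)).1
    have h4 : pCoreOf p (Ker N δ) ≤ centralizer {d * t * d⁻¹} :=
      (pCoreOf_le_of_le_normalizer hWY (hY.trans (inf_le_left.trans
        (le_normalizer_Ker N δ)))).trans (le_cent_of_mem (piCore_le_cent_pCore _ hu))
    have h5 := le_cent_conj (inv_mem (normalizer_le_normalizer_pCoreOf _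
      (le_normalizer_Ker N δ hd))) h4
    refine (C.b_pCore_le h hN hM ht hδ h2 p).trans ?_
    simpa [mul_assoc] using h5
  have hUW : piCoreOf {p}ᶜ (X ⊔ E) ≤ piCoreOf {p}ᶜ (Ker N δ) :=
    le_trans (le_inf le_rfl fun x hx => mem_of_sq_mem (odd_orderOf_of_mem hU hx)
      (hE5 x (piCore_sup_le hX.isPGroup (hS.le.trans hE3) hx))) (piCoreOf_inf_le hWY)
  have h4 : piCoreOf {p}ᶜ (Ker N δ) ≤ centralizer {t} :=
    h.piCore_cent h1 (C.b_le_Ker h hN hM ht hδ h2) (le_normalizer_Ker N δ ht) (C.odd_Ker hδ)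
      ((cm_mono (piCoreOf_le _) t).trans (C.b_cm h hN hM ht hδ h2).le)
  have h5 : ∀ a ∈ N, IsInv a → a • α = α → a ∈ normalizer (dSub X : Set G) := by
    intro a ha hai e
    refine mem_norm_dSub hp2 (isSolvable_of_le B.solv hY) (abTwo_sup (C.odd_Ker hδ)
      (odd_card_of_isPGroup hp2 hX.isPGroup) (hS.le.trans hE3) (comm_mem_of_sq
        (hE2.trans (inf_le_left.trans (le_normalizer_Ker N δ))) hE5)) (hS.mono le_sup_left hY) hai
      (le_normalizer (mem_sup_right (hE4 a ⟨ha, e⟩ hai))) hU (hUW.trans ?_)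
    obtain ⟨d, hd, rfl⟩ := C.b_conj h ht hδ hai ha
    exact le_cent_conj (normalizer_le_normalizer_piCoreOf _ (le_normalizer_Ker N δ hd)) h4
  have h6 := normalizer_le_normalizer_dSub X htX
  refine ⟨h.le_iff.2 fun w hw => mul_mem ?_ (inv_mem h6), h5⟩
  have hw' := Ker_le_stab δ hm (C.b_le_Ker h hN hM ht hδ h2 hw)
  have h7 : (w * t * w⁻¹) • α = t • α := by
    have h8 := (h.le_st2 (fun _ a => Ker_le_stab δ hm (C.b_le_Ker h hN hM ht hδ h2 a)) hw).2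
    rw [mul_smul, mul_smul, show w⁻¹ • α = α from inv_mem hw', show w • t • α = t • α from h8]
  have hi := h.inv.conj w
  have hiN := N.mul_mem (N.mul_mem (hM hw) ht) (N.inv_mem (hM hw))
  set s := w * t * w⁻¹
  have h8 : (s * a₀ * s⁻¹) • t • α = t • α := h7 ▸ conj_smul_eq ha₀.2
  have h9 : s * a₀ * s⁻¹ ∈ normalizer (dSub X : Set G) := by
    have := h5 _ (N.mul_mem (N.mul_mem (N.inv_mem ht) (N.mul_mem (N.mul_mem hiN ha₀.1)
      (N.inv_mem hiN))) (N.inv_mem (N.inv_mem ht))) ((ha₀i.conj s).conj _)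
      (by simpa using conj_smul_eq (g := t⁻¹) h8)
    simpa [mul_assoc] using mul_mem (mul_mem h6 this) (inv_mem h6)
  obtain ⟨r, hr, hri, e1, e2, -⟩ := C.S.exists_swap_mem ha₀i (ha₀i.conj s) ha₀.2 h8 hβ.symm
    (h5 a₀ ha₀.1 ha₀i ha₀.2) h9
  rwa [← C.S.swap_unique hβ.symm ha₀i ha₀.2 hri hi e2 h7 e1]

theorem b_two {p : ℕ} [Fact p.Prime] (hp2 : p ≠ 2) (hp : ¬ pCoreOf p M ≤ centralizer {t})
    (h1 : ∀ (ℓ : ℕ) [Fact ℓ.Prime], ℓ ≠ p → pCoreOf ℓ M ≤ centralizer {t}) : False := by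
  obtain ⟨m, hm, h3⟩ := SetLike.not_le_iff_exists.1 hδ
  have hne : m • δ ≠ δ := h3
  have hMα := (C.b_le_Ker h hN hM ht hδ h2).trans (Ker_le_stab δ hm)
  have h4 := C.S.rk2_inf (h.inv.conj m) (mul_mem (mul_mem hm ht) (inv_mem hm))
    (conj_smul_eq h.fix) h2
  clear h3
  generalize m • δ = α at *
  have hβ := C.S.smul_ne h.inv h.fix hne
  have hD := C.S.odd_st2 hβ.symm
  have hex : ∀ L : Subgroup G, t ∈ L → ∀ U : Subgroup G, IsPGroup p U →
      U ≤ L ⊓ st2 G α (t • α) → t ∈ normalizer (U : Set G) →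
      ∃ P, IsSylowIn p P (L ⊓ st2 G α (t • α)) ∧ t ∈ normalizer (P : Set G) ∧ U ≤ P :=
    fun L a U b c d => h.inv.exists_sylow_ge (odd_of_le hD inf_le_right)
      (norm_inf (le_normalizer a) (norm_st2 h.inv α)) b c d
  obtain ⟨X, ⟨L, hL, hML, htL, hL2, hX, htX⟩, hmax⟩ := Set.exists_max_image
    {X : Subgroup G | ∃ L : Subgroup G, L ≠ ⊤ ∧ M ≤ L ∧ t ∈ L ∧ Rk2 (L ⊓ stabilizer G α) ∧
      IsSylowIn p X (L ⊓ st2 G α (t • α)) ∧ t ∈ normalizer (X : Set G)}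
    (fun X => Nat.card X) (Set.toFinite _) (by
      obtain ⟨P, a, b, -⟩ := hex N ht ⊥ IsPGroup.of_bot bot_le
        (le_normalizer_of_normal (mem_top t))
      exact ⟨P, N, hN, hM, ht, h4, a, b⟩)
  obtain ⟨a, ha, b, hb, hai, hbi, hab⟩ := id hL2
  obtain ⟨h5, h6⟩ := C.b_step h hL hML htL (fun e => hne (C.S.uniq a hai _ _ ha.2 (e ha.1)))
    (hL2.mono inf_le_left) hp2 hp h1 hne hL2 hX htX
  have h7 := normalizer_le_normalizer_dSub X htX
  have hX0 : X ≠ ⊥ := fun e => hp (by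
    have := hX.card_le (pCoreOf_isPGroup (p := p) M)
      ((pCoreOf_le M).trans (le_inf hML (h.le_st2 hMα)))
    rw [e, card_bot, Subgroup.card_le_one_iff_eq_bot] at this
    rw [this]; exact bot_le)
  have hXD := hX.le.trans inf_le_right
  have h8 := C.norm_ne_top (odd_of_le hD ((dSub_le X).trans hXD)) (dSub_ne_bot hX.isPGroup hX0)
  have h9 : IsSylowIn p X (st2 G α (t • α)) := by
    have h10 := le_normalizer.trans (normalizer_le_normalizer_dSub X)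
    obtain ⟨P, c, d, e⟩ := hex _ h7 X hX.isPGroup (le_inf h10 hXD) htX
    obtain rfl := eq_of_le_of_card_le e (hmax P ⟨_, h8, h5, h7,
      ⟨a, ⟨h6 a ha.1 hai ha.2, ha.2⟩, b, ⟨h6 b hb.1 hbi hb.2, hb.2⟩, hai, hbi, hab⟩, c, d⟩)
    exact sylow_of_normalizer (c.mono (le_inf hXD le_normalizer)
      (le_inf (inf_le_right.trans (normalizer_le_normalizer_dSub X)) inf_le_left))
  have h10 : piCoreOf {p}ᶜ (st2 G α (t • α)) ≤ centralizer {t} := by
    refine h.piCore_cent h1 (h.le_st2 hMα) (norm_st2 h.inv α) hD ?_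
    rw [← h.cm_T hne hMα]
    exact cm_mono (le_inf (piCoreOf_le _) ((piCore_le_cent_pCore _).trans
      ((centralizer_le (h.pCore_le C.S p hne hMα)).trans (C.b_cent h hN hM ht hδ h2 hp)))) t
  refine hβ (smul_left_cancel t (C.le_stab_of_inv h8 (γ := t • α) (fun u hu e => ?_) h7))
  obtain ⟨s, -, hs, rfl, e1, e2⟩ := C.S.exists_swap_mem hai hu ha.2 e hβ.symm (mem_top _)
    (mem_top _)
  have h11 : s ∈ normalizer (dSub X : Set G) := by
    refine mem_norm_dSub hp2 (FT.feit_thompson hD) (abTwo_of_odd hD) h9 hs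
      (mem_normalizer_st2 e1 e2) (odd_of_le hD (piCoreOf_le _)) ?_
    obtain ⟨d, -, hd, rfl⟩ := C.S.exists_conj_swap hβ.symm h.inv hs rfl e1 (mem_top _)
    exact le_cent_conj (le_normalizer_piCoreOf _ hd) h10
  exact mul_mem (mul_mem h11 (h6 a ha.1 hai ha.2)) (inv_mem h11)

theorem b_false : False := by
  obtain ⟨p, hp, hp2, h1⟩ := h.exists_prime
  have : Fact p.Prime := ⟨hp⟩
  refine C.b_two h hN hM ht hδ h2 hp2 h1 fun ℓ _ e => ?_
  by_contra h3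
  exact C.b_one h hN hM ht hδ h2 (Ne.symm e) hp2 h1 h3

end B

end Ca

end CfsgLib.SEB
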