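import Cfsg.Agent.Lib.SEB.Tr

/-! Project SEB: the regular abelian subgroup `K`. -/

set_option autoImplicit false

namespace CfsgLib.SEB

open Subgroup MulAction Cfsg CfsgLib.Cop CfsgLib.H1 CfsgLib.SE CfsgLib.SEG
open scoped commutatorElement
open GW (Inverts)

variable {G Ω : Type*} [Group G] [MulAction G Ω]

namespace Cm

variable [Finite G] (C : Cm G Ω) {α β : Ω} (h : α ≠ β) {t : G} (ht : IsInv t) (h1 : t • α = β)
include C h ht h1

theorem inverts_of_le (hA : cm (st2 G α β) t ≤ ⁅st2 G α β, st2 G α β⁆) :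
    Inverts t (cm (st2 G α β) t) := by
  have hD := C.S.odd_st2 h
  have htD : t ∈ normalizer (st2 G α β : Set G) := h1 ▸ norm_st2 ht α
  refine GW.inverts_of_inf_cent ht.1 (odd_of_le hD (cm_le htD)) (mem_normalizer_cm _ t) ?_
  by_contra h0
  obtain ⟨R, ⟨hRA, hDR, htR, hR0⟩, hmin⟩ := exists_minimal_of_wellFoundedLT
    (fun R : Subgroup G => R ≤ cm (st2 G α β) t ∧ st2 G α β ≤ normalizer (R : Set G) ∧
      t ∈ normalizer (R : Set G) ∧ R ⊓ centralizer {t} ≠ ⊥)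
    ⟨_, le_rfl, le_normalizer_cm _ t, mem_normalizer_cm _ t, h0⟩
  have hRD := hRA.trans (cm_le htD)
  have hRo := odd_of_le hD hRD
  set Z := R ⊓ centralizer (R : Set G) with hZ
  have hprop : ∀ U < R, st2 G α β ≤ normalizer (U : Set G) → t ∈ normalizer (U : Set G) →
      U ≤ Z := fun U a b c => by
    refine le_inf a.le (le_centralizer_iff.1 (hRA.trans (GW.Inverts.commutator_le_cent ht.1
      (GW.inverts_of_inf_cent ht.1 (odd_of_le hRo a.le) c ?_) b)))
    by_contra e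
    exact a.not_ge (hmin ⟨a.le.trans hRA, b, c, e⟩ a.le)
  have hnab : ¬ IsMulCommutative R := fun e =>
    hR0 ((C.inverts_of_comm h ht h1 e hRD hDR htR).inf_cent hRo)
  have hR1 : R ≠ ⊥ := fun e => hR0 (by simp [e])
  have hRZ : ∀ x ∈ R, ∀ y ∈ R, ⁅x, y⁆ ∈ Z := fun x hx y hy =>
    hprop _ (FT.der_lt_of_solvable (FT.feit_thompson hRo) hR1) (le_normalizer_commutator hDR hDR)
      (le_normalizer_commutator (zpowers_le_of_mem htR) (zpowers_le_of_mem htR) (mem_zpowers t))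
      (commutator_mem_commutator hx hy)
  have hZn : ∀ g ∈ normalizer (R : Set G), g ∈ normalizer (Z : Set G) := fun g hg =>
    norm_inf hg (normalizer_le_normalizer_centralizer R hg)
  have hZi : Inverts t Z := C.inverts_of_comm h ht h1
    (H5.isMulCommutative_iff'.2 fun x hx y hy => hy.2 x hx.1) (inf_le_left.trans hRD)
    (fun g hg => hZn g (hDR hg)) (hZn t htR)
  have hZ0 : Z ≠ ⊥ := fun e => hnab (H5.isMulCommutative_iff'.2 fun x hx y hy =>
    commutatorElement_eq_one_iff_mul_comm.1 (mem_bot.1 (e ▸ hRZ x hx y hy)))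
  obtain ⟨⟨x₁, hx₁⟩, hx₂⟩ := ne_bot_iff_exists_ne_one.1 hR0
  obtain ⟨ℓ, hl, x₀, hx₀, hx₀o⟩ := exists_prime_pow (x := x₁) fun e => hx₂ (Subtype.ext e)
  replace hx₀ := zpowers_le_of_mem hx₁ hx₀
  have : Fact ℓ.Prime := ⟨hl⟩
  have hx₀1 : x₀ ≠ 1 := fun e => hl.ne_one (by rw [← hx₀o, e, orderOf_one])
  have hl2 : ℓ ≠ 2 := ne_two_of_odd (odd_orderOf_of_mem hRo hx₀.1) hx₀o.symm.dvd
  have hexp : ∀ x ∈ R, x ^ ℓ = 1 := by
    have h2 : R ≤ omegaOne ℓ R := hmin ⟨((closure_le _).2 fun _ a => a.1).trans hRA,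
      hDR.trans (FT.normalizer_le_normalizer_omegaOne R), FT.normalizer_le_normalizer_omegaOne R htR,
      fun e => hx₀1 (mem_bot.1 (e ▸ ⟨FT.mem_omegaOne hx₀.1 (hx₀o ▸ pow_orderOf_eq_one x₀), hx₀.2⟩))⟩
      ((closure_le _).2 fun _ a => a.1)
    refine fun x hx => FT.pow_eq_one_of_mem_omegaOne (fun x hx y hy a b => ?_) x (h2 hx)
    have c1 : Commute ⁅y, x⁆ x := ((hRZ y hy x hx).2 x hx).symm
    have c2 : Commute ⁅y, x⁆ y := ((hRZ y hy x hx).2 y hy).symm
    rw [PGrp.mul_pow_prime_eq_of_odd (hl.odd_of_ne_two hl2) c1 c2 (by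
      rw [← PGrp.commutatorElement_pow_left c2, b, commutatorElement_one_left]), a, b, mul_one]
  have hRp : IsPGroup ℓ R := fun y => ⟨1, Subtype.ext (by simpa using hexp y y.2)⟩
  have hkey : ∀ x ∈ R ⊓ centralizer {t}, x ≠ 1 → ∀ i ∈ R, t * i * t⁻¹ = i⁻¹ → x * i = i * x →
      i ∈ Z ∧ Nat.card Z ≤ ℓ := fun x hx hx1 i hi e1 e2 => by
    have a1 := hRp.to_le (zpowers_le_of_mem hx.1)
    have a2 := fix3_of_swap C.S h ht h1 (zpowers_le_of_mem (hRD hx.1)) (zpowers_le_of_mem hx.2)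
    have a3 : zpowers x ≤ stabilizer G α := zpowers_le_of_mem (hRD hx.1).1
    obtain ⟨⟨b, hb⟩, hb1⟩ := ne_bot_iff_exists_ne_one.1 hZ0
    have a4 : Z ⊔ zpowers i ≤ centralizer (zpowers x : Set G) := by
      rw [centralizer_zpowers]
      exact sup_le (fun y hy => mem_centralizer_singleton_iff.2 (hy.2 x hx.1).symm)
        (zpowers_le_of_mem (mem_centralizer_singleton_iff.2 e2.symm))
    have a5 : Z ⊔ zpowers i ≤ R := sup_le inf_le_left (zpowers_le_of_mem hi)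
    have a6 : Inverts t (Z ⊔ zpowers i) := fun y hy => by
      obtain ⟨c, hc, j, hj, rfl⟩ := (mem_sup_iff_of_le_normalizer'
        (zpowers_le_of_mem (hZn i (le_normalizer hi)))).1 hy
      rw [← conj_mul, hZi c hc, Invol.inverts_of_mem_zpowers e1 hj, ← mul_inv_rev,
        hc.2 j (zpowers_le_of_mem hi hj)]
    have a7 : ∀ y ∈ Z ⊔ zpowers i, Fp α y := fun y hy =>
      fp_of_inverts C.S h ht h1 (hRD (a5 hy)) (a6 y hy)
    have a8 := card_le_of_cyclic hl (C.cyclic_of_rk2 hl2 a1 a2 a3 (by simpa using hx1)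
      (C.rk2_of_fp hl2 a1 a2 a3 (a4 (mem_sup_left hb)) (hRD hb.1).1 (fun e => hb1 (Subtype.ext e))
        (a7 b (mem_sup_left hb))) a6.isMulCommutative
      (le_inf (a5.trans (hRD.trans inf_le_left)) (a4.trans (centralizer_le_normalizer _))) a7)
      fun y hy => hexp y (a5 hy)
    have a9 := eq_of_le_of_card_le (le_sup_left : Z ≤ Z ⊔ zpowers i)
      (a8.trans (le_card_of_ne_bot hZ0 fun y hy => hexp y hy.1))
    exact ⟨a9 ▸ mem_sup_right (mem_zpowers i), (card_le_of_le le_sup_left).trans a8⟩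
  have hZc := (hkey x₀ hx₀ hx₀1 1 (one_mem _) (by simp) (by simp)).2
  have hVn : R ⊓ centralizer {t} ≤ normalizer (Z : Set G) := fun g hg => hZn g (le_normalizer hg.1)
  have hV : ∀ x ∈ R ⊓ centralizer {t}, ∀ y ∈ R ⊓ centralizer {t}, x * y = y * x :=
    fun x hx y hy => commutatorElement_eq_one_iff_mul_comm.1 (mem_bot.1 (hZi.inf_cent
      (odd_of_le hRo inf_le_left) ▸ ⟨hRZ x hx.1 y hy.1, (centralizer {t}).mul_mem ((centralizer {t}).mul_mem
        ((centralizer {t}).mul_mem hx.2 hy.2) ((centralizer {t}).inv_mem hx.2))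
        ((centralizer {t}).inv_mem hy.2)⟩))
  have hVZ : ¬ R ≤ R ⊓ centralizer {t} ⊔ Z := fun e =>
    hnab (H5.isMulCommutative_iff'.2 fun x hx y hy => by
      obtain ⟨a, ha, b, hb, rfl⟩ := (mem_sup_iff_of_le_normalizer hVn).1 (e hx)
      obtain ⟨c, hc, d, hd, rfl⟩ := (mem_sup_iff_of_le_normalizer hVn).1 (e hy)
      rw [mul_assoc, ← hb.2 _ hy, ← mul_assoc, ← mul_assoc, hV a ha c hc, mul_assoc c a d,
        hd.2 a ha.1]
      simp only [mul_assoc])
  have hcard : Nat.card R ≤ ℓ ^ 3 := by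
    obtain ⟨r, hr, hr1⟩ := SetLike.not_le_iff_exists.1 hVZ
    obtain ⟨c, hc, i, hi, e1, rfl⟩ := GW.exists_cent_mul_inv ht.1 hRo htR hr
    have a1 : Nat.card ↥(R ⊓ centralizer {t}) ≤ ℓ := by
      have a2 := SE.card_inf_mul_relIndex (centralizer {i}) (R ⊓ centralizer {t})
      have a3 : R ⊓ centralizer {t} ⊓ centralizer {i} = ⊥ := eq_bot_iff.2 fun x hx => by
        by_contra e
        exact hr1 (mul_mem_sup hc (hkey x hx.1 e i hi e1
          (mem_centralizer_singleton_iff.1 hx.2)).1)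
      rw [a3, card_bot, one_mul] at a2
      rw [← a2]
      exact (relIndex_cent_le (Y := R ⊓ centralizer {t}) fun y hy => hRZ y hy.1 i hi).trans hZc
    have a2 : R ⊓ centralizer {x₀} ≤ R ⊓ centralizer {t} ⊔ Z := fun y hy => by
      obtain ⟨c, hc, i, hi, e1, rfl⟩ := GW.exists_cent_mul_inv ht.1 hRo htR hy.1
      refine mul_mem_sup hc (hkey x₀ hx₀ hx₀1 i hi e1 ?_).1
      have a3 := mem_centralizer_singleton_iff.1 hy.2
      rw [← mul_assoc, hV x₀ hx₀ c hc, mul_assoc, mul_assoc] at a3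
      exact (mul_left_cancel a3).symm
    rw [← SE.card_inf_mul_relIndex (centralizer {x₀}) R, pow_succ, pow_two]
    exact Nat.mul_le_mul ((card_le_of_le a2).trans ((Nat.le_of_dvd
      (Nat.mul_pos Nat.card_pos Nat.card_pos) (card_sup_dvd_mul hVn)).trans
      (Nat.mul_le_mul a1 hZc))) ((relIndex_cent_le fun y hy => hRZ y hy x₀ hx₀.1).trans hZc)
  have hrank : PRankLE ℓ 2 R := by
    by_contra e
    obtain ⟨E, a, b, c⟩ := FT.not_pRankLE_iff.1 e
    exact hnab (eq_of_le_of_card_le a (hcard.trans c.ge) ▸ b.1)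
  have hDD : st2 G α β ≤ normalizer ((⁅st2 G α β, st2 G α β⁆ : Subgroup G) : Set G) :=
    normalizer_commutator_ge_left _ _
  have h2 : ⁅R, cm (st2 G α β) t⁆ ≤ Z := (commutator_mono le_rfl hA).trans
    (hprop _ (comm_lt_of_rank2 hl2 hRp hR1 hrank hDR hD) (le_normalizer_commutator hDR hDD)
      (le_normalizer_commutator (zpowers_le_of_mem htR) (le_normalizer_commutator
        (zpowers_le_of_mem htD) (zpowers_le_of_mem htD)) (mem_zpowers t)))
  have h3 : R ⊓ centralizer {t} ⊔ Z ≤ R := sup_le inf_le_left inf_le_left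
  refine hVZ (hmin ⟨h3.trans hRA, ?_, le_normalizer_sup (zpowers_le_of_mem (norm_inf htR
    (le_normalizer (mem_centralizer_singleton_iff.2 rfl)))) (zpowers_le_of_mem (hZn t htR))
    (mem_zpowers t), fun e => hR0 (eq_bot_iff.2 (e ▸ le_inf le_sup_left inf_le_right))⟩ h3)
  rw [← commutator_sup_centralizer (zpowers_le_of_mem htD) (ht.coprime hD) IsInv.solv,
    centralizer_zpowers]
  exact sup_le (le_normalizer_of_commutator_le (h2.trans le_sup_right) h3)
    (le_normalizer_sup (le_normalizer_inf (inf_le_left.trans hDR)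
      (inf_le_right.trans le_normalizer)) fun g hg => hZn g (hDR hg.1))

end Cm

/-- the two point stabilizer in the group generated by the `2`-elements fixing `α` -/
abbrev D2 (G : Type*) [Group G] [MulAction G Ω] (α β : Ω) : Subgroup G := J2 G α ⊓ st2 G α β

theorem le_normalizer_D2 [Finite G] (α β : Ω) : st2 G α β ≤ normalizer (D2 G α β : Set G) :=
  le_normalizer_inf (inf_le_left.trans (le_normalizer_J2 α)) le_normalizer

/-- the configuration in a counterexample -/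
structure Cv (α β : Ω) (p : ℕ) (z t : G) (K : Subgroup G) : Prop where
  C : Cm G Ω
  ne : α ≠ β
  pp : p.Prime
  ord : orderOf z = p
  zD : z ∈ D2 G α β
  ti : IsInv t
  sw : t • α = β
  zt : z * t = t * z
  fz : K ⊓ centralizer {z} = ⊥
  cyc : ∀ A ≤ D2 G α β, IsPGroup p A → IsCyclic A
  nd : ¬ p ∣ Nat.card ↥⁅D2 G α β, D2 G α β⁆
  le : K ≤ D2 G α β
  nrm : st2 G α β ≤ normalizer (K : Set G)
  inv : Inverts t K
  mem : ∀ k ∈ st2 G α β, t * k * t⁻¹ = k⁻¹ → k ∈ K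

theorem Cm.exists_cv [Finite G] (C : Cm G Ω) {α β : Ω} (h : α ≠ β) :
    ∃ (p : ℕ) (z t : G) (K : Subgroup G), Cv α β p z t K := by
  have hD := C.S.odd_st2 h
  have hD1 := odd_of_le hD (inf_le_right : D2 G α β ≤ _)
  obtain ⟨p, hp, P, hP, h1⟩ : ∃ (p : ℕ) (_ : Fact p.Prime) (P : Subgroup G),
      IsSylowIn p P (D2 G α β) ∧ ¬ P ≤ ⁅D2 G α β, D2 G α β⁆ := by
    by_contra e
    push Not at e
    exact (FT.der_lt_of_solvable (FT.feit_thompson hD1) (C.d1 α β h)).not_ge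
      (le_of_forall_sylow_le fun q hq _ =>
        ⟨default, e q hq _ (IsSylowIn.of_sylow_subgroup default)⟩)
  obtain ⟨h2, h3, h4⟩ := C.tr h hP h1
  have h5 := (FT.cyclic_Sylow_tiVsub_der1 hP h2).resolve_right h1
  obtain ⟨⟨x, hx⟩, hx1⟩ := ne_bot_iff_exists_ne_one.1 (show P ≠ ⊥ from fun e => h1 (e ▸ bot_le))
  obtain ⟨q, hq, z, hz, e⟩ := exists_prime_pow (x := x) fun e => hx1 (Subtype.ext e)
  replace hz := zpowers_le_of_mem hx hz
  obtain rfl : q = p := by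
    obtain ⟨k, hk⟩ := orderOf_eq_pow_of_mem_isPGroup hP.isPGroup hz
    exact (Nat.prime_dvd_prime_iff_eq hq hp.out).1 (hq.dvd_of_dvd_pow (hk ▸ e.symm.dvd))
  have hz1 : z ≠ 1 := fun a => hq.ne_one (by rw [← e, a, orderOf_one])
  have h6 := zpowers_le_of_mem hz
  have hzD := h6.trans (hP.le.trans inf_le_right)
  have hp2 : q ≠ 2 := ne_two_of_odd (odd_orderOf_of_mem hD1 (hP.le hz)) e.symm.dvd
  have h7 := hP.isPGroup.to_le h6
  obtain ⟨u, hu, a, b⟩ := C.exists_inv_cent hp2 h7 (h3.mono h6) (hzD.trans inf_le_left)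
  obtain ⟨v, hv, c, d⟩ := C.exists_inv_cent hp2 h7 (h3.mono h6) (hzD.trans inf_le_right)
  obtain ⟨t, h8, ht, -, h9, h10⟩ :=
    C.S.exists_swap_mem hu hv a c h (mem_cent_of_le b) (mem_cent_of_le d)
  have htD := mem_normalizer_st2 h9 h10
  have hzt := h8 z (mem_zpowers z)
  have h11 : ∀ k ∈ st2 G α β, t * k * t⁻¹ = k⁻¹ → k * z = z * k → k = 1 := fun k hk e1 e2 => by
    by_contra e3
    exact h4 ⟨z, hz, hz1, C.rk2_of_fp hp2 h7 (h3.mono h6) (hzD.trans inf_le_left)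
      (by rw [centralizer_zpowers]; exact mem_centralizer_singleton_iff.2 e2) hk.1 e3
      (fp_of_inverts C.S h ht h9 hk e1)⟩
  have hDD : ⁅st2 G α β, st2 G α β⁆ ≤ st2 G α β :=
    commutator_le_left_of_le_normalizer le_normalizer
  have h12 : ∀ k ∈ st2 G α β, t * k * t⁻¹ = k⁻¹ → k ∈ ⁅st2 G α β, st2 G α β⁆ := fun k hk e1 => by
    have h13 := sup_le hDD hzD
    obtain ⟨c, hc, y, hy, rfl⟩ := (mem_sup_iff_of_le_normalizer'
      (hzD.trans (normalizer_commutator_ge_left _ _))).1 (mem_of_fiber hq hD h13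
      (le_normalizer_of_commutator_le le_sup_left h13) e (mem_sup_right (mem_zpowers z)) hzt h11
      hk e1)
    refine mul_mem hc (mem_of_sq_mem (odd_orderOf_of_mem hD (hzD hy)) ?_)
    have h14 : t * y * t⁻¹ = y := by rw [← h8 y hy, mul_inv_cancel_right]
    have h15 := conj_mem_of_mem_normalizer (le_normalizer_commutator (zpowers_le_of_mem htD)
      (zpowers_le_of_mem htD) (mem_zpowers t)) hc
    rw [← conj_mul, h14] at e1
    have h16 : y * y = y * (t * c * t⁻¹)⁻¹ * y⁻¹ * c⁻¹ := by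
      rw [mul_assoc, mul_assoc, ← mul_inv_rev c, ← e1]; group
    rw [h16]
    exact mul_mem (conj_mem_of_mem_normalizer (normalizer_commutator_ge_left _ _ (hzD hy))
      (inv_mem h15)) (inv_mem hc)
  have h13 : ∀ x ∈ st2 G α β, t * (x * t * x⁻¹ * t⁻¹) * t⁻¹ = (x * t * x⁻¹ * t⁻¹)⁻¹ :=
    fun x _ => by simp [ht.inv_eq, mul_assoc, ht.1]
  have h14 := C.inverts_of_le h ht h9
    ((cm_le_iff ht).2 fun x hx => h12 _ (cm_le htD (mem_cm hx t)) (h13 x hx))
  refine ⟨q, z, t, _, C, h, hq, e, hP.le hz, ht, h9, hzt, eq_bot_iff.2 fun k hk =>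
    h11 k (cm_le htD hk.1) (h14 k hk.1) (mem_centralizer_singleton_iff.1 hk.2),
    fun A => isCyclic_of_sylow hP h2, fun e1 => ?_, fun k hk => mem_of_fiber hq hD inf_le_right
      (le_normalizer_D2 α β) e (hP.le hz) hzt h11 (cm_le htD hk) (h14 k hk), le_normalizer_cm _ t,
    h14, fun k hk e => mem_cm_of_inverts hk (odd_orderOf_of_mem hD hk) e⟩
  exact (hP.inf_of_le_normalizer (commutator_le_left_of_le_normalizer le_normalizer)
    (hP.le.trans (normalizer_commutator_ge_left _ _))).ne_bot e1 h5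

namespace Cv

variable [Finite G] {α β : Ω} {p : ℕ} {z t : G} {K : Subgroup G} (c : Cv α β p z t K)
include c

theorem leD : K ≤ st2 G α β := c.le.trans inf_le_right

theorem oddD : Odd (Nat.card (st2 G α β)) := c.C.S.odd_st2 c.ne

theorem oddK : Odd (Nat.card K) := odd_of_le c.oddD c.leD

theorem fp {k : G} (hk : k ∈ K) : Fp α k :=
  fp_of_inverts c.C.S c.ne c.ti c.sw (c.leD hk) (c.inv k hk)

theorem tD : t ∈ normalizer (st2 G α β : Set G) := c.sw ▸ norm_st2 c.ti α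

theorem dec {d : G} (hd : d ∈ st2 G α β) :
    ∃ v ∈ st2 G α β ⊓ centralizer {t}, ∃ k ∈ K, d = v * k := by
  obtain ⟨v, hv, k, hk, e, rfl⟩ := GW.exists_cent_mul_inv c.ti.1 c.oddD c.tD hd
  exact ⟨v, hv, k, c.mem k hk e, rfl⟩

theorem dec1 {d : G} (hd : d ∈ D2 G α β) :
    ∃ v ∈ D2 G α β ⊓ centralizer {t}, ∃ k ∈ K, d = v * k := by
  obtain ⟨v, hv, k, hk, rfl⟩ := c.dec hd.2
  exact ⟨v, ⟨((D2 G α β).mul_mem_cancel_right (c.le hk)).1 hd, hv.2⟩, k, hk, rfl⟩

theorem inf_cent {u : G} (hu : IsInv u) (h : u • α = α) : K ⊓ centralizer {u} = ⊥ :=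
  eq_bot_iff.2 fun k hk => c.fp hk.1 u hu h (mem_centralizer_singleton_iff.1 hk.2).symm

theorem card_K : Nat.card K = nJ G α := by
  have h1 := SE.card_inf_mul_relIndex (centralizer {t}) K
  rw [c.inv.inf_cent c.oddK, card_bot, one_mul] at h1
  rw [← h1, ← c.C.S.relIndex_cent_swap c.ne c.ti c.sw, ← Frob.ncard_conj_subgroup,
    ← Frob.ncard_conj_subgroup]
  congr 1
  ext s
  refine ⟨fun ⟨x, hx, e⟩ => ⟨x, c.leD hx, e⟩, ?_⟩
  rintro ⟨x, hx, rfl⟩
  obtain ⟨v, hv, k, hk, e⟩ := c.dec (inv_mem hx)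
  refine ⟨k⁻¹, inv_mem hk, ?_⟩
  rw [inv_eq_iff_eq_inv.1 e, mul_inv_rev, mul_assoc k⁻¹ v⁻¹,
    mem_centralizer_singleton_iff.1 (inv_mem hv.2)]
  group

/-- `K` is transitive on the involutions fixing `α` -/
theorem reg {u v : G} (hu : IsInv u) (h : u • α = α) (hv : IsInv v) (h' : v • α = α) :
    ∃ k ∈ K, k * u * k⁻¹ = v := by
  have h1 := SE.card_inf_mul_relIndex (centralizer {u}) K
  rw [c.inf_cent hu h, card_bot, one_mul, ← Frob.ncard_conj_subgroup, c.card_K, nJ] at h1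
  have h2 := Set.eq_of_subset_of_ncard_le (by
    rintro _ ⟨x, hx, rfl⟩
    refine ⟨hu.conj x, ?_⟩
    have := conj_smul_eq (g := x) h
    rwa [show x • α = α from (c.leD hx).1] at this) h1.ge
  exact h2.ge ⟨hv, h'⟩

theorem K_ne_bot : K ≠ ⊥ := fun e => c.C.S.nJ_ne_one c.C.hr α (by rw [← c.card_K, e, card_bot])

theorem not_fix3 {A : Subgroup G} {ℓ : ℕ} [Fact ℓ.Prime] (hA : IsPGroup ℓ A) {k : G} (h1 : k ∈ A)
    (h2 : k ∈ K) (h3 : k ≠ 1) : ¬ Fix3 Ω A := fun h4 => by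
  have h5 := zpowers_le_of_mem h1
  have h6 := zpowers_le_of_mem h2
  have h7 : ℓ ≠ 2 := by
    rintro rfl
    exact h3 (mem_bot.1 (H5.eq_bot_of_isPGroup_of_coprime (hA.to_le h5)
      (Nat.coprime_two_right.2 (odd_of_le c.oddK h6)) ▸ mem_zpowers k))
  exact h3 (mem_bot.1 (c.inv.inf_cent c.oddK ▸ ⟨h2, c.C.le_cent_of_fix3 h7 (hA.to_le h5)
    (h4.mono h5) c.ti (c.inv.mono h6).mem_norm (mem_zpowers k)⟩))

/-- a nontrivial element of `K` fixes only `α` and `β` -/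
theorem eq_of_fix {k : G} (h2 : k ∈ K) (h3 : k ≠ 1) {γ : Ω} (h : γ ≠ α) (h4 : k • γ = γ) :
    γ = β := by
  obtain ⟨ℓ, hl, y, hy, e⟩ := exists_prime_pow h3
  have : Fact ℓ.Prime := ⟨hl⟩
  have h5 := zpowers_le_of_mem (zpowers_le_of_mem h2 hy)
  exact eq_of_not_fix3 (c.not_fix3 (isPGroup_zpowers_of e) (mem_zpowers y) (h5 (mem_zpowers y))
    fun a => hl.ne_one (by rw [← e, a, orderOf_one])) h c.ne.symm
    (h5.trans (c.leD.trans inf_le_left)) (zpowers_le_of_mem (zpowers_le_of_mem h4 hy))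
    (h5.trans (c.leD.trans inf_le_right))

end Cv

end CfsgLib.SEB
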