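import Cfsg.Agent.Lib.SEB.Defs

/-! Project SEB: groups that are doubly transitive on their commuting involutions, first part. -/

set_option autoImplicit false

namespace CfsgLib.SEB

open Subgroup Cfsg CfsgLib.Cop CfsgLib.H1 CfsgLib.SE CfsgLib.SEG
open scoped commutatorElement

variable {G : Type*} [Group G]

/-- the involutions commute and are permuted doubly transitively -/
structure LT (G : Type*) [Group G] : Prop where
  comm : ∀ u v : G, IsInv u → IsInv v → u * v = v * u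
  rk : Rk2 (⊤ : Subgroup G)
  tr : ∀ u v u' v' : G, IsInv u → IsInv v → IsInv u' → IsInv v' → u ≠ v → u' ≠ v' →
    ∃ g, g * u * g⁻¹ = u' ∧ g * v * g⁻¹ = v'

theorem isInv_coe {M : Subgroup G} {u : M} : IsInv (u : G) ↔ IsInv u :=
  ⟨fun h => ⟨Subtype.ext h.1, fun e => h.2 (congrArg Subtype.val e)⟩,
    fun h => ⟨congrArg Subtype.val h.1, fun e => h.2 (Subtype.ext e)⟩⟩

theorem sq_conj {a : G} (h : a * a = 1) (g : G) : g * a * g⁻¹ * (g * a * g⁻¹) = 1 := by
  rw [conj_mul, h, mul_one, mul_inv_cancel]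

theorem conj_eq_iff {g a : G} : g * a * g⁻¹ = a ↔ g * a = a * g := mul_inv_eq_iff_eq_mul

theorem conj_comp (g k x : G) : g * k * x * (g * k)⁻¹ = g * (k * x * k⁻¹) * g⁻¹ := by group

theorem conj_mul' (g a b : G) : g * (a * b) * g⁻¹ = g * a * g⁻¹ * (g * b * g⁻¹) := conj_mul.symm

theorem mem_cent1 {g a : G} : g ∈ centralizer {a} ↔ g * a * g⁻¹ = a :=
  mem_centralizer_singleton_iff.trans conj_eq_iff.symm

namespace LT

variable (h : LT G)
include h

theorem comm' {a b : G} (ha : a * a = 1) (hb : b * b = 1) : a * b = b * a := by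
  by_cases e : a = 1
  · simp [e]
  by_cases e' : b = 1
  · simp [e']
  exact h.comm a b ⟨ha, e⟩ ⟨hb, e'⟩

/-- the subgroup of all elements of order at most two -/
def Z : Subgroup G where
  carrier := {x | x * x = 1}
  one_mem' := mul_one 1
  mul_mem' := fun {a b} ha hb => by
    change a * b * (a * b) = 1
    rw [mul_assoc, ← mul_assoc b, ← h.comm' ha hb, mul_assoc, hb, mul_one, ha]
  inv_mem' := fun {a} ha => by
    change a⁻¹ * a⁻¹ = 1
    rw [← mul_inv_rev, ha, inv_one]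

theorem mem_Z {x : G} : x ∈ h.Z ↔ x * x = 1 := Iff.rfl

theorem Z_normal : h.Z.Normal := ⟨fun _ hx g => sq_conj hx g⟩

theorem Z_comm : IsMulCommutative h.Z :=
  H5.isMulCommutative_iff'.2 fun _ hx _ hy => h.comm' hx hy

theorem Z_two : IsPGroup 2 h.Z := fun x => ⟨1, Subtype.ext ((pow_two _).trans x.2)⟩

theorem isInv_mul' {a b : G} (ha : IsInv a) (hb : IsInv b) (hne : a ≠ b) : IsInv (a * b) :=
  isInv_mul ha hb hne (h.comm a b ha hb)

variable [Finite G]

theorem le_cent {u : G} (hu : IsInv u) {X : Subgroup G} (hX : Odd (Nat.card X))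
    (hn : u ∈ normalizer (X : Set G)) : X ≤ centralizer {u} := by
  by_contra h1
  obtain ⟨y, hy, hy1, e⟩ := exists_inverted hu hn h1
  have h2 := h.comm' hu.1 (Invol.mul_mul_self hu.1 e)
  rw [mul_assoc, mul_left_cancel_iff, ← conj_eq_iff, e] at h2
  exact hy1 (Invol.eq_one_of_odd (odd_orderOf_of_mem hX hy) (by
    nth_rw 1 [← h2]; exact inv_mul_cancel y))

theorem norm {p : ℕ} [Fact p.Prime] (hp2 : p ≠ 2) {u v : G} (hu : IsInv u) (hv : IsInv v)
    (hne : u ≠ v) {P : Subgroup G} (hP : IsSylowIn p P (centralizer {u} ⊓ centralizer {v})) :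
    LT (normalizer (P : Set G)) := by
  have ho := odd_card_of_isPGroup hp2 hP.isPGroup
  have key : ∀ a ∈ normalizer (P : Set G), ∀ b ∈ normalizer (P : Set G), IsInv a → IsInv b →
      a ≠ b → ∃ g ∈ normalizer (P : Set G), g * u * g⁻¹ = a ∧ g * v * g⁻¹ = b := by
    intro a ha b hb e1 e2 e3
    obtain ⟨g, rfl, rfl⟩ := h.tr u v a b hu hv e1 e2 hne e3
    have h1 := hP.map_conj g
    rw [map_conj_inf, map_conj_cent1, map_conj_cent1] at h1
    obtain ⟨c, hc, e⟩ := (h1.of_card_le hP.isPGroup (le_inf (h.le_cent e1 ho ha)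
      (h.le_cent e2 ho hb)) (card_map_conj g P).le).exists_conj_eq h1
    refine ⟨c * g, mem_normalizer_of_map_conj_eq (by rw [map_conj_mul, e]), ?_, ?_⟩
    · rw [← mem_cent1.1 hc.1]; group
    · rw [← mem_cent1.1 hc.2]; group
  have h1 : ∀ {w : G}, P ≤ centralizer {w} → w ∈ normalizer (P : Set G) := fun e =>
    centralizer_le_normalizer _ (mem_cent_of_le e)
  refine ⟨fun a b ha hb => Subtype.ext (h.comm _ _ (isInv_coe.2 ha) (isInv_coe.2 hb)),
    ⟨⟨u, h1 (hP.le.trans inf_le_left)⟩, mem_top _, ⟨v, h1 (hP.le.trans inf_le_right)⟩, mem_top _,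
      isInv_coe.1 hu, isInv_coe.1 hv, fun e => hne (congrArg Subtype.val e),
      Subtype.ext (h.comm u v hu hv)⟩, fun a b c d ha hb hc hd e1 e2 => ?_⟩
  obtain ⟨g, hg, a1, a2⟩ := key a a.2 b b.2 (isInv_coe.2 ha) (isInv_coe.2 hb)
    fun e => e1 (Subtype.ext e)
  obtain ⟨k, hk, b1, b2⟩ := key c c.2 d d.2 (isInv_coe.2 hc) (isInv_coe.2 hd)
    fun e => e2 (Subtype.ext e)
  refine ⟨⟨k, hk⟩ * ⟨g, hg⟩⁻¹, Subtype.ext ?_, Subtype.ext ?_⟩
  · simp only [coe_mul, coe_inv, ← a1, ← b1]; group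
  · simp only [coe_mul, coe_inv, ← a2, ← b2]; group

theorem map {G' : Type*} [Group G'] {f : G →* G'} (hf : Function.Surjective f)
    (ho : Odd (Nat.card f.ker)) : LT G' := by
  have h1 : ∀ u : G', IsInv u → ∃ a, IsInv a ∧ f a = u := fun u hu => by
    obtain ⟨x, rfl⟩ := hf u
    exact lift_inv ho hu
  have h2 : ∀ a : G, a * a = 1 → f a = 1 → a = 1 := fun a ha e =>
    Invol.eq_one_of_odd (odd_orderOf_of_mem ho e) ha
  refine ⟨fun u v hu hv => ?_, ?_, fun u v u' v' hu hv hu' hv' e1 e2 => ?_⟩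
  · obtain ⟨a, ha, rfl⟩ := h1 u hu
    obtain ⟨b, hb, rfl⟩ := h1 v hv
    rw [← map_mul, h.comm a b ha hb, map_mul]
  · obtain ⟨a, -, b, -, ha, hb, e1, e2⟩ := h.rk
    have h3 : ∀ a, IsInv a → IsInv (f a) := fun a ha =>
      ⟨by rw [← map_mul, ha.1, map_one], fun e => ha.2 (h2 a ha.1 e)⟩
    exact ⟨f a, mem_top _, f b, mem_top _, h3 a ha, h3 b hb, fun e => (h.isInv_mul' ha hb e1).2
      (h2 _ (h.isInv_mul' ha hb e1).1 (by rw [map_mul, e, (h3 b hb).1])),
      by rw [← map_mul, e2, map_mul]⟩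
  · obtain ⟨a, ha, rfl⟩ := h1 u hu
    obtain ⟨b, hb, rfl⟩ := h1 v hv
    obtain ⟨c, hc, rfl⟩ := h1 u' hu'
    obtain ⟨d, hd, rfl⟩ := h1 v' hv'
    obtain ⟨g, rfl, rfl⟩ := h.tr a b c d ha hb hc hd (fun e => e1 (e ▸ rfl)) fun e => e2 (e ▸ rfl)
    exact ⟨f g, by simp, by simp⟩

end LT

/-- the minimal case: the centralizer of two involutions is a `2`-group -/
structure LM (G : Type*) [Group G] : Prop extends LT G where
  two : ∀ u v : G, IsInv u → IsInv v → u ≠ v → IsPGroup 2 ↥(centralizer {u} ⊓ centralizer {v})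

/-- `y` permutes `b`, `c`, `b * c` cyclically -/
structure Cyc (y b c : G) : Prop where
  ib : IsInv b
  ic : IsInv c
  ne : b ≠ c
  e1 : y * b * y⁻¹ = c
  e2 : y * c * y⁻¹ = b * c

/-- `a` induces a transvection with center `w`, or the identity -/
def Tv (w a : G) : Prop := ∀ b : G, b * b = 1 → a * b * a⁻¹ = b ∨ a * b * a⁻¹ = w * b

theorem Cyc.conj {y b c : G} (k : Cyc y b c) (g : G) :
    Cyc (g * y * g⁻¹) (g * b * g⁻¹) (g * c * g⁻¹) :=
  ⟨k.ib.conj g, k.ic.conj g, fun e => k.ne (by simpa using e), by rw [← k.e1]; group,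
    by rw [← conj_mul' g b c, ← k.e2]; group⟩

namespace Tv

variable {w a : G}

theorem fix (hw : IsInv w) (h : Tv w a) : a * w * a⁻¹ = w :=
  (h w hw.1).resolve_right fun e => (hw.conj a).2 (e.trans hw.1)

theorem conj (h : Tv w a) (g : G) : Tv (g * w * g⁻¹) (g * a * g⁻¹) := fun b hb => by
  have e : g * a * g⁻¹ * b * (g * a * g⁻¹)⁻¹ = g * (a * (g⁻¹ * b * g⁻¹⁻¹) * a⁻¹) * g⁻¹ := by group
  rw [e]
  refine (h _ (sq_conj hb g⁻¹)).imp (fun e => ?_) fun e => ?_ <;> rw [e] <;> group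

theorem mul (hw : IsInv w) {k : G} (h : Tv w a) (hk : Tv w k) : Tv w (a * k) := fun b hb => by
  rw [conj_comp]
  rcases hk b hb with e | e <;> rw [e]
  · exact h b hb
  · rw [conj_mul', h.fix hw]
    rcases h b hb with e | e <;> rw [e]
    · exact Or.inr rfl
    · exact Or.inl (hw.mul_mul b)

theorem inv (hw : IsInv w) (h : Tv w a) : Tv w a⁻¹ := fun b hb => by
  have e : ∀ x z, a * x * a⁻¹ = z → a⁻¹ * z * a⁻¹⁻¹ = x := fun x z e => by rw [← e]; group
  exact (h b hb).imp (e _ _) fun e1 => e _ _ (by rw [conj_mul', h.fix hw, e1, hw.mul_mul])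

theorem sq (hw : IsInv w) (h : Tv w a) {b : G} (hb : b * b = 1) : a * a * b * (a * a)⁻¹ = b := by
  rw [conj_comp]
  rcases h b hb with e | e
  · rw [e, e]
  · rw [e, conj_mul', h.fix hw, e, hw.mul_mul]

end Tv

namespace LT

variable (h : LT G)
include h

/-- the centralizer of all involutions -/
abbrev Q : Subgroup G := centralizer (h.Z : Set G)

theorem mem_Q {x : G} : x ∈ h.Q ↔ ∀ b, b * b = 1 → x * b * x⁻¹ = b :=
  ⟨fun e b hb => conj_eq_iff.2 (e b hb).symm, fun e b hb => (conj_eq_iff.1 (e b hb)).symm⟩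

theorem Q_normal : h.Q.Normal := by
  have := h.Z_normal
  infer_instance

theorem Z_le_Q : h.Z ≤ h.Q := fun _ hx _ hb => h.comm' hb hx

theorem tv_of_Q {w x : G} (hx : x ∈ h.Q) : Tv w x := fun b hb => Or.inl (h.mem_Q.1 hx b hb)

theorem exists_move {w a : G} (ht : Tv w a) (ha : a ∉ h.Q) :
    ∃ x, IsInv x ∧ a * x * a⁻¹ = w * x := by
  obtain ⟨x, hx, e⟩ : ∃ x, x * x = 1 ∧ a * x * a⁻¹ ≠ x := by
    by_contra h1
    push Not at h1
    exact ha (h.mem_Q.2 h1)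
  exact ⟨x, ⟨hx, fun e1 => e (by simp [e1])⟩, (ht x hx).resolve_left e⟩

theorem tr1 {u v : G} (hu : IsInv u) (hv : IsInv v) : ∃ g, g * u * g⁻¹ = v := by
  obtain ⟨a, -, b, -, ha, hb, hne, -⟩ := h.rk
  have key : ∀ u, IsInv u → ∃ u', IsInv u' ∧ u ≠ u' := fun u _ => by
    by_cases e : u = a
    · exact ⟨b, hb, e ▸ hne⟩
    · exact ⟨a, ha, e⟩
  obtain ⟨u', a1, a2⟩ := key u hu
  obtain ⟨v', b1, b2⟩ := key v hv
  exact (h.tr u u' v v' hu a1 hv b1 a2 b2).imp fun _ e => e.1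

theorem relIndex_le [Finite G] {w a : G} (hw : IsInv w) (ht : Tv w a) {I : Subgroup G}
    (hI : I ≤ h.Z) : Nat.card I ≤ 2 * Nat.card ↥(I ⊓ centralizer {a}) := by
  rw [← SE.card_inf_mul_relIndex (centralizer {a}) I, mul_comm, ← hw.card_zpowers]
  refine Nat.mul_le_mul_right _ (relIndex_cent_le fun z hz => ?_)
  have e : ⁅z, a⁆ = z * (a * z * a⁻¹) := by
    rw [commutatorElement_def, inv_eq_of_mul_eq_one_right (hI hz)]; group
  rw [e]
  rcases ht z (hI hz) with e1 | e1 <;> rw [e1]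
  · rw [hI hz]; exact one_mem _
  · rw [h.comm' hw.1 (hI hz), ← mul_assoc, hI hz, one_mul]; exact mem_zpowers w

end LT

namespace LM

variable [Finite G] (h : LM G)
include h

theorem eq_one {u v x : G} (hu : IsInv u) (hv : IsInv v) (hne : u ≠ v) (ho : Odd (orderOf x))
    (h1 : x * u = u * x) (h2 : x * v = v * x) : x = 1 := by
  obtain ⟨k, hk⟩ := h.two u v hu hv hne
    ⟨x, mem_centralizer_singleton_iff.2 h1, mem_centralizer_singleton_iff.2 h2⟩
  exact orderOf_eq_one_iff.1 (Nat.eq_one_of_dvd_coprimes ((Nat.coprime_two_right.2 ho).pow_right k)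
    dvd_rfl (orderOf_dvd_of_pow_eq_one (congrArg Subtype.val hk)))

omit [Finite G] in
theorem Q_two : IsPGroup 2 h.Q := by
  obtain ⟨a, -, b, -, ha, hb, hne, -⟩ := h.rk
  exact (h.two a b ha hb hne).to_le fun x hx =>
    ⟨mem_cent1.2 (h.mem_Q.1 hx a ha.1), mem_cent1.2 (h.mem_Q.1 hx b hb.1)⟩

omit [Finite G] in
theorem cyc_e3 {y b c : G} (k : Cyc y b c) : y * (b * c) * y⁻¹ = b := by
  rw [← conj_mul, k.e1, k.e2, h.comm b c k.ib k.ic, k.ic.mul_mul]

omit [Finite G] in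
theorem cyc_cube {y b c : G} (k : Cyc y b c) : y ^ 3 ∈ centralizer {b} ⊓ centralizer {c} := by
  have key : ∀ x, y * (y * (y * x * y⁻¹) * y⁻¹) * y⁻¹ = x → y ^ 3 ∈ centralizer {x} :=
    fun x e => mem_cent1.2 (by rw [pow_three]; nth_rw 2 [← e]; group)
  exact ⟨key b (by rw [k.e1, k.e2, h.cyc_e3 k]), key c (by rw [k.e2, h.cyc_e3 k, k.e1])⟩

omit h [Finite G] in
theorem cyc_mul {y b c x : G} (k : Cyc y b c) (hx : x ∈ centralizer {b} ⊓ centralizer {c}) :
    Cyc (y * x) b c :=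
  ⟨k.ib, k.ic, k.ne, by rw [← k.e1]; nth_rw 2 [← mem_cent1.1 hx.1]; group,
    by rw [← k.e2]; nth_rw 2 [← mem_cent1.1 hx.2]; group⟩

omit [Finite G] in
theorem cyc_pow {y b c : G} (k : Cyc y b c) (n : ℕ) : Cyc (y ^ (2 ^ n * 2 ^ n)) b c := by
  obtain ⟨m, hm⟩ : ∃ m, 2 ^ n * 2 ^ n = 3 * m + 1 := by
    refine ⟨(2 ^ n * 2 ^ n) / 3, ?_⟩
    have : 2 ^ n * 2 ^ n % 3 = 1 := by rw [← mul_pow, Nat.pow_mod]; simp
    omega
  rw [hm, pow_succ', pow_mul]
  exact cyc_mul k (pow_mem (h.cyc_cube k) m)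

omit [Finite G] in
theorem cyc_not_two {y b c : G} (k : Cyc y b c) (n : ℕ) : y ^ 2 ^ n ≠ 1 := fun e => by
  have := (h.cyc_pow k n).e1
  rw [pow_mul, e] at this
  exact k.ne (by simpa using this)

omit h [Finite G] in
theorem odd_of_cube {y : G} (e : y ^ 3 = 1) : Odd (orderOf y) :=
  (show Odd 3 by decide).of_dvd_nat (orderOf_dvd_of_pow_eq_one e)

theorem cyc_norm {y b c : G} (k : Cyc y b c) :
    y ∈ normalizer ((centralizer {b} ⊓ centralizer {c} : Subgroup G) : Set G) := by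
  refine mem_normalizer_of_conj_mem fun x hx => ?_
  have h1 : ∀ d, x ∈ centralizer {d} → y * x * y⁻¹ ∈ centralizer {y * d * y⁻¹} := fun d hd => by
    rw [mem_centralizer_singleton_iff] at hd ⊢
    rw [conj_mul, conj_mul, hd]
  refine ⟨?_, k.e1 ▸ h1 b hx.1⟩
  nth_rw 1 [← h.cyc_e3 k]
  exact h1 _ (le_cent_of_mem (X := zpowers x) (mul_mem (mem_cent_of_le (zpowers_le_of_mem hx.1))
    (mem_cent_of_le (zpowers_le_of_mem hx.2))) (mem_zpowers x))

theorem cyc_conj {y y' b c : G} (k : Cyc y b c) (k' : Cyc y' b c) (e : y ^ 3 = 1)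
    (e' : y' ^ 3 = 1) : ∃ g ∈ centralizer {b} ⊓ centralizer {c}, g * y' * g⁻¹ = y := by
  have : Fact (Nat.Prime 2) := ⟨Nat.prime_two⟩
  have := Fintype.ofFinite G
  obtain ⟨n, hn⟩ := (h.two b c k.ib k.ic k.ne).exists_card_eq
  have h1 : ∀ d, y * d * y⁻¹ = y' * d * y'⁻¹ → y⁻¹ * y' ∈ centralizer {d} := fun d hd =>
    mem_cent1.2 (by
      calc y⁻¹ * y' * d * (y⁻¹ * y')⁻¹ = y⁻¹ * (y' * d * y'⁻¹) * y := by group
        _ = d := by rw [← hd]; group)
  obtain ⟨x, hx, d, hd, a1, a2⟩ := FT.exists_conj_cent_lcoset (h.cyc_norm k)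
    (by rw [hn]; exact (Nat.coprime_two_right.2 (odd_of_cube e)).pow_right n)
    (show y⁻¹ * y' ∈ _ from ⟨h1 b (by rw [k.e1, k'.e1]), h1 c (by rw [k.e2, k'.e2])⟩)
  rw [mul_inv_cancel_left] at a2
  have h2 : d ^ 3 = 1 := by
    have := congrArg (· ^ 3) a2
    simp only [conj_pow, e', (show Commute y d from a1.symm).mul_pow, e] at this
    simpa using this.symm
  rw [h.eq_one k.ib k.ic k.ne (odd_of_cube h2) (mem_centralizer_singleton_iff.1 hd.1)
    (mem_centralizer_singleton_iff.1 hd.2), mul_one] at a2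
  exact ⟨x, hx, a2⟩

theorem exists_cyc : ∃ y b c w : G, Cyc y b c ∧ y ^ 3 = 1 ∧ IsInv w ∧ y * w = w * y := by
  obtain ⟨b, -, c, -, hb, hc, hne, hcm⟩ := h.rk
  have hbc := h.isInv_mul' hb hc hne
  obtain ⟨g, e1, e2⟩ := h.tr b c c (b * c) hb hc hc hbc hne fun e => hb.2 (by simpa using e)
  have k : Cyc g b c := ⟨hb, hc, hne, e1, e2⟩
  obtain ⟨n, hn⟩ := h.two b c hb hc hne ⟨g ^ 3, h.cyc_cube k⟩
  have k1 := h.cyc_pow k n
  have e3 : (g ^ (2 ^ n * 2 ^ n)) ^ 3 = 1 := by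
    rw [← pow_mul, mul_comm, pow_mul, pow_mul, show (g ^ 3) ^ 2 ^ n = 1 from
      congrArg Subtype.val hn, one_pow]
  generalize g ^ (2 ^ n * 2 ^ n) = y at k1 e3
  obtain ⟨s, a1, a2⟩ := h.tr b c c b hb hc hc hb hne hne.symm
  have k2 := k1.conj s
  rw [a1, a2] at k2
  have k3 : Cyc y⁻¹ c b := ⟨hc, hb, hne.symm, by rw [← k1.e1]; group,
    by rw [← hcm]; nth_rw 1 [← h.cyc_e3 k1]; group⟩
  obtain ⟨x, -, e4⟩ := h.cyc_conj k3 k2 (by rw [inv_pow, e3, inv_one])
    (by rw [conj_pow, e3]; simp)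
  have e5 : x * s * y * (x * s)⁻¹ = y⁻¹ := by rw [← e4]; group
  have h1 : zpowers (x * s) ≤ normalizer (zpowers y : Set G) :=
    zpowers_le_of_mem (mem_normalizer_of_conj_mem fun z hz => by
      rw [Invol.inverts_of_mem_zpowers e5 hz]; exact inv_mem hz)
  have h2 : ¬ Odd (Nat.card (zpowers (x * s))) := fun h2 => by
    have h3 : x * s ∈ centralizer {y} := mem_of_sq_mem (by rwa [← Nat.card_zpowers])
      (mem_cent1.2 (by
        rw [conj_comp, e5, ← conj_inv, e5, inv_inv]))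
    rw [mem_cent1.1 h3] at e5
    exact h.cyc_not_two k1 1 (by rw [pow_one, pow_two]; nth_rw 1 [e5]; exact inv_mul_cancel y)
  obtain ⟨w, hw, hi⟩ : ∃ w ∈ zpowers (x * s), IsInv w := by
    by_contra h3
    push Not at h3
    exact h2 (odd_of_forall h3)
  exact ⟨y, b, c, w, k1, e3, hi, mem_centralizer_singleton_iff.1 (h.le_cent hi
    (by rw [Nat.card_zpowers]; exact odd_of_cube e3) (h1 hw) (mem_zpowers y))⟩

end LM

/-- an element `y` of order three with the fixed involution `w` -/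
structure LY (y b c w : G) : Prop extends LM G where
  k : Cyc y b c
  cube : y ^ 3 = 1
  iw : IsInv w
  yw : y * w = w * y

namespace LY

variable [Finite G] {y b c w : G} (h : LY y b c w)
include h

omit [Finite G] in
theorem ne_one : y ≠ 1 := fun e => h.cyc_not_two h.k 0 (by simpa using e)

theorem fix {a : G} (ha : a * a = 1) (e : y * a * y⁻¹ = a) : a = 1 ∨ a = w := by
  by_contra h1
  push Not at h1
  exact h.ne_one (h.eq_one ⟨ha, h1.1⟩ h.iw h1.2 (LM.odd_of_cube h.cube) (conj_eq_iff.1 e) h.yw)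

omit [Finite G] in
theorem conj3 (a : G) : y * (y * (y * a * y⁻¹) * y⁻¹) * y⁻¹ = a := by
  calc _ = y ^ 3 * a * (y ^ 3)⁻¹ := by rw [pow_three]; group
    _ = a := by rw [h.cube]; simp

theorem tr_mem {a : G} (ha : a * a = 1) :
    a * (y * a * y⁻¹) * (y * (y * a * y⁻¹) * y⁻¹) = 1 ∨
      a * (y * a * y⁻¹) * (y * (y * a * y⁻¹) * y⁻¹) = w := by
  have h1 := sq_conj ha y
  have h2 := sq_conj h1 y
  refine h.fix (h.Z.mul_mem (h.Z.mul_mem ha h1) h2) ?_
  rw [conj_mul', conj_mul', h.conj3, h.comm' (h.Z.mul_mem h1 h2) ha, ← mul_assoc]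

/-- an involution other than `w` is moved cyclically by `y`, up to the factor `w` -/
theorem cyc_or {a : G} (ha : IsInv a) (hw : a ≠ w) :
    Cyc y a (y * a * y⁻¹) ∨ Cyc y (w * a) (y * (w * a) * y⁻¹) := by
  have key : ∀ a, IsInv a → a ≠ w → a * (y * a * y⁻¹) * (y * (y * a * y⁻¹) * y⁻¹) = 1 →
      Cyc y a (y * a * y⁻¹) := fun a ha hw e => ⟨ha, ha.conj y,
    fun e => (h.fix ha.1 e.symm).elim ha.2 hw, rfl, by
      rw [← inv_eq_of_mul_eq_one_right e, inv_eq_of_mul_eq_one_right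
        (h.Z.mul_mem ha.1 (sq_conj ha.1 y))]⟩
  rcases h.tr_mem ha.1 with e | e
  · exact Or.inl (key a ha hw e)
  refine Or.inr (key _ (h.isInv_mul' h.iw ha hw.symm) (fun e => ha.2 (by simpa using e)) ?_)
  have h1 := conj_eq_iff.2 h.yw
  have h2 := h.comm' h.iw.1 ha.1
  have h3 := h.comm' h.iw.1 (sq_conj ha.1 y)
  rw [← conj_mul, h1, ← conj_mul, h1]
  calc _ = w * (a * w) * (y * a * y⁻¹ * w) * (y * (y * a * y⁻¹) * y⁻¹) := by group
    _ = w * w * w * (a * (y * a * y⁻¹) * (y * (y * a * y⁻¹) * y⁻¹)) := by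
      rw [← h2, ← h3, mul_assoc w (w * a), mul_assoc w a, ← mul_assoc a w, ← h2]; group
    _ = 1 := by rw [e, h.iw.1, one_mul, h.iw.1]

theorem b_ne : b ≠ w := fun e => h.k.ne (by rw [← h.k.e1, e, conj_eq_iff.2 h.yw])

theorem relIndex_two : ∃ n, (centralizer {y}).relIndex (centralizer {w}) = 2 ^ n := by
  have : Fact (Nat.Prime 2) := ⟨Nat.prime_two⟩
  let Y : Subgroup G :=
    { carrier := {g | g * w * g⁻¹ = w ∧ (g * b * g⁻¹ = b ∨ g * b * g⁻¹ = w * b)}
      one_mem' := by simp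
      mul_mem' := fun {g k} hg hk => by
        refine ⟨by rw [conj_comp, hk.1, hg.1], ?_⟩
        rw [conj_comp]
        rcases hk.2 with e1 | e1 <;> rw [e1]
        · exact hg.2
        · rw [← conj_mul, hg.1]
          rcases hg.2 with e2 | e2 <;> rw [e2]
          · exact Or.inr rfl
          · exact Or.inl (h.iw.mul_mul b)
      inv_mem' := fun {g} hg => by
        have e : ∀ x z, g * x * g⁻¹ = z → g⁻¹ * z * g⁻¹⁻¹ = x := fun x z e => by rw [← e]; group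
        refine ⟨e _ _ hg.1, hg.2.imp (e _ _) fun e1 => e _ _ ?_⟩
        rw [← conj_mul, hg.1, e1, h.iw.mul_mul] }
  have hY : IsPGroup 2 Y := fun g => by
    obtain ⟨n, hn⟩ := h.two w b h.iw h.k.ib h.b_ne.symm ⟨g * g, mul_mem (mem_cent1.2 g.2.1)
      (mem_cent1.2 g.2.1), mem_cent1.2 (by
        rw [conj_comp]
        rcases g.2.2 with e | e
        · rw [e, e]
        · rw [e, ← conj_mul, g.2.1, e, h.iw.mul_mul])⟩
    have h1 : ((g : G) * g) ^ 2 ^ n = 1 := congrArg Subtype.val hn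
    exact ⟨n + 1, Subtype.ext (by rw [pow_succ', pow_mul, pow_two]; exact h1)⟩
  have key : ∀ a, Cyc y a (y * a * y⁻¹) → ∃ g ∈ centralizer {y}, g * a * g⁻¹ = b := fun a k => by
    obtain ⟨g, e1, e2⟩ := h.tr _ _ b c k.ib k.ic h.k.ib h.k.ic k.ne h.k.ne
    have k1 := k.conj g
    rw [e1, e2] at k1
    obtain ⟨x, hx, e⟩ := h.cyc_conj h.k k1 h.cube (by rw [conj_pow, h.cube]; simp)
    exact ⟨x * g, mem_cent1.2 (by rw [conj_comp, e]),
      by rw [conj_comp, e1, mem_cent1.1 hx.1]⟩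
  have h1 : ∀ g ∈ centralizer {y}, g * w * g⁻¹ = w := fun g hg =>
    (h.fix (sq_conj h.iw.1 g) (by
      rw [← conj_comp, ← mem_centralizer_singleton_iff.1 hg, conj_comp,
        conj_eq_iff.2 h.yw])).resolve_left (h.iw.conj g).2
  obtain ⟨n, hn⟩ := hY.exists_card_eq
  refine ((Nat.dvd_prime_pow Nat.prime_two).1 (hn ▸ relIndex_dvd_card (centralizer {y}) Y)).imp
    fun m hm => ?_
  rw [← hm.2, ← Frob.ncard_conj_subgroup, ← Frob.ncard_conj_subgroup]
  congr 1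
  ext v
  refine ⟨?_, fun ⟨x, hx, e⟩ => ⟨x, mem_cent1.2 hx.1, e⟩⟩
  rintro ⟨x, hx, rfl⟩
  have h2 := mem_cent1.1 (inv_mem hx)
  have h3 : ∀ g ∈ centralizer {y}, x * g⁻¹ * y * (x * g⁻¹)⁻¹ = x * y * x⁻¹ := fun g hg => by
    rw [conj_comp, mem_cent1.1 (inv_mem hg)]
  have h4 : ∀ g ∈ centralizer {y}, g * x⁻¹ * w * (g * x⁻¹)⁻¹ = w := fun g hg => by
    rw [conj_comp, h2, h1 g hg]
  rcases h.cyc_or (h.k.ib.conj x⁻¹) (fun e => h.b_ne (by
    rw [← h2] at e; simpa using e)) with k | k <;> obtain ⟨g, hg, e⟩ := key _ k <;>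
    refine ⟨x * g⁻¹, ?_, h3 g hg⟩ <;> rw [← inv_mem_iff, mul_inv_rev, inv_inv] <;>
    refine ⟨h4 g hg, ?_⟩
  · exact Or.inl (by rw [conj_comp, e])
  · refine Or.inr ?_
    rw [conj_mul', h1 g hg] at e
    nth_rw 2 [← e]
    rw [h.iw.mul_mul, conj_comp]

theorem y_not_mem : y ∉ h.Q := fun e => h.k.ne ((h.mem_Q.1 e b h.k.ib.1).symm.trans h.k.e1)

theorem exists_tv : ∃ a, Tv w a ∧ a ∉ h.Q := by
  have := h.Q_normal
  have := h.Z_normal
  set X : Subgroup G := centralizer {w} with hX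
  have hy : y ∈ X := mem_centralizer_singleton_iff.2 h.yw
  have hQX : h.Q ≤ X := fun x hx => mem_cent1.2 (h.mem_Q.1 hx w h.iw.1)
  have hs := isSolvable_map (Chr.isSolvable_normalClosure_of_class_prime_pow (G := X)
    (x := ⟨y, hy⟩) Nat.prime_two (h.relIndex_two.imp fun n hn => by
      have e : centralizer {(⟨y, hy⟩ : X)} = (centralizer {y}).subgroupOf X :=
        Subgroup.ext fun x => by
          rw [mem_subgroupOf, mem_centralizer_singleton_iff, mem_centralizer_singleton_iff,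
            Subtype.ext_iff]; rfl
      rw [e]; exact hn)) X.subtype
  have : Fact (Nat.Prime 2) := ⟨Nat.prime_two⟩
  set Y := (normalClosure {(⟨y, hy⟩ : X)}).map X.subtype with hY
  have hQn : ∀ {A : Subgroup G}, A ≤ normalizer (h.Q : Set G) := fun {_} => le_top.trans le_normalizer_of_normal
  have hZn : ∀ {A : Subgroup G}, A ≤ normalizer (h.Z : Set G) := fun {_} => le_top.trans le_normalizer_of_normal
  obtain ⟨R, ⟨h1, h2, h3, h4⟩, hmin⟩ := exists_minimal_of_wellFoundedLT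
    (fun R : Subgroup G => h.Q ≤ R ∧ R ≤ Y ⊔ h.Q ∧ ¬ R ≤ h.Q ∧ X ≤ normalizer (R : Set G))
    ⟨Y ⊔ h.Q, le_sup_right, le_rfl, fun e => h.y_not_mem (e (mem_sup_left
      (mem_map_of_mem X.subtype (subset_normalClosure (Set.mem_singleton _))))),
      le_normalizer_sup (FT.le_normalizer_map_subtype _) hQn⟩
  have hRX : R ≤ X := h2.trans (sup_le (map_subtype_le _) hQX)
  have h5 : ⁅R, R⁆ ≤ h.Q := by
    by_contra h5
    have h6 : ⁅R, R⁆ ⊔ h.Q ≤ R := sup_le (commutator_le_left_of_le_normalizer le_normalizer) h1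
    exact h3 (FT.eq_of_le_commutator_sup (isSolvable_of_le (isSolvable_sup hQn hs
      (isSolvable_of_isPGroup h.Q_two)) h2) h1 hQn (hmin ⟨le_sup_right, h6.trans h2,
        fun e => h5 (le_sup_left.trans e), le_normalizer_sup (le_normalizer_commutator h4 h4) hQn⟩
        h6)).ge
  obtain ⟨q, hq, S, hS, h6⟩ : ∃ (q : ℕ) (_ : Fact q.Prime) (S : Subgroup G), IsSylowIn q S R ∧
      ¬ S ≤ h.Q := by
    by_contra e
    push Not at e
    exact h3 (le_of_forall_sylow_le fun q hq _ =>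
      ⟨default, e q hq _ (IsSylowIn.of_sylow_subgroup default)⟩)
  have h7 : X ≤ normalizer ((S ⊔ h.Q : Subgroup G) : Set G) := fun g hg => by
    obtain ⟨k, hk, e⟩ := hS.frattini_elem (h4 hg)
    exact (mul_mem_cancel_left (le_normalizer_of_commutator_le (h5.trans le_sup_right)
      (sup_le hS.le h1) hk)).1 (le_normalizer_sup (H := normalizer (S : Set G)) le_rfl hQn e)
  set B := ⁅h.Z, S ⊔ h.Q⁆ with hB
  have hBZ : B ≤ h.Z := commutator_le_left_of_le_normalizer hZn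
  have h8 : ∀ x ∈ B, x ≠ 1 → x ≠ w → h.Z ≤ B := fun x hx e1 e2 => by
    have h9 : ∀ z, IsInv z → z ≠ w → z ∈ B := fun z hz e3 => by
      obtain ⟨g, a1, rfl⟩ := h.tr w x w z h.iw ⟨hBZ hx, e1⟩ h.iw hz e2.symm e3.symm
      exact conj_mem_of_mem_normalizer (le_normalizer_commutator hZn h7 (mem_cent1.2 a1)) hx
    intro z hz
    by_cases e3 : z = 1
    · rw [e3]; exact one_mem _
    by_cases e4 : z = w
    · have := mul_mem (h9 _ (h.isInv_mul' h.iw ⟨hBZ hx, e1⟩ e2.symm) fun e => e1 (by simpa using e))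
        (inv_mem hx)
      rwa [mul_inv_cancel_right, ← e4] at this
    exact h9 z ⟨hz, e3⟩ e4
  have h9 : ∀ a ∈ S, ∀ z ∈ h.Z, z * (a * z * a⁻¹) ∈ B := fun a ha z hz => by
    have := commutator_mem_commutator hz (mem_sup_left (T := h.Q) ha)
    rwa [commutatorElement_def, inv_eq_of_mul_eq_one_right hz, mul_assoc, mul_assoc,
      ← mul_assoc a] at this
  obtain ⟨a, ha, h10⟩ := SetLike.not_le_iff_exists.1 h6
  by_cases e : q = 2
  · subst e
    refine ⟨a, fun z hz => ?_, h10⟩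
    have h11 := FT.commutator_lt_of_isPGroup (isPGroup_sup_of_le_normalizer hS.isPGroup h.Q_two hQn)
      (h.Z_le_Q.trans le_sup_right) hZn fun e => h.iw.2 (mem_bot.1 (e ▸ h.mem_Z.2 h.iw.1))
    by_contra h12
    push Not at h12
    refine h11.not_ge (h8 _ (h9 a ha z hz) (fun e => h12.1 ?_) fun e => h12.2 ?_)
    · rw [← inv_eq_of_mul_eq_one_right e, inv_eq_of_mul_eq_one_right hz]
    · rw [← e, h.comm' (h.Z.mul_mem hz (sq_conj hz a)) hz, ← mul_assoc, hz, one_mul]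
  exfalso
  have h11 : B ≤ ⁅h.Z, S⁆ := commutator_sup_le (normalizer_commutator_ge_right _ _)
    (le_trans (centralizer_le (commutator_le_left_of_le_normalizer hZn))
      (centralizer_le_normalizer _)) le_rfl
    ((commutator_eq_bot_iff_le_centralizer.2 (le_centralizer_iff.1 le_rfl)).le.trans bot_le)
  obtain ⟨n, hn⟩ := h.Z_two.exists_card_eq
  have h12 : w ∉ B := fun e1 => h.iw.2 (mem_bot.1 (commutator_inf_centralizer_eq_bot (A := S) hZn
    (hn ▸ (Nat.coprime_two_right.2 (odd_card_of_isPGroup e hS.isPGroup)).pow_right n) h.Z_comm ▸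
    ⟨h11 e1, mem_cent_of_le (hS.le.trans hRX)⟩))
  refine h10 (h.mem_Q.2 fun z hz => ?_)
  by_contra h13
  exact h12 (h8 _ (h9 a ha z hz) (fun e => h13 (by
    rw [← inv_eq_of_mul_eq_one_right e, inv_eq_of_mul_eq_one_right hz]))
    (fun e => h12 (e ▸ h9 a ha z hz)) h.iw.1)

theorem eight_le {I : Subgroup G} (hI : I ≤ h.Z) (hw : w ∈ I) {i : G} (hi : IsInv i) (e : i ≠ w)
    (h1 : i ∈ I) (h2 : y * i * y⁻¹ ∈ I) : 8 ≤ Nat.card I := by
  have : Fact (Nat.Prime 2) := ⟨Nat.prime_two⟩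
  have hy := conj_eq_iff.2 h.yw
  have a1 : y * i * y⁻¹ ≠ i := fun e1 => (h.fix hi.1 e1).elim hi.2 e
  have a2 : y * i * y⁻¹ ≠ w := fun e1 => e (by rw [← hy] at e1; simpa using e1)
  have a3 : y * i * y⁻¹ ≠ w * i := fun e1 => a1 (by
    have := h.conj3 i
    rwa [e1, conj_mul' y w i, hy, e1, h.iw.mul_mul] at this)
  have a4 := h.isInv_mul' h.iw hi e.symm
  have h3 : ({1, w, i, w * i, y * i * y⁻¹} : Set G).ncard = 5 := by
    rw [Set.ncard_insert_of_notMem, Set.ncard_insert_of_notMem, Set.ncard_insert_of_notMem,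
      Set.ncard_pair a3.symm]
    · simp [h.iw.2, a1.symm]
    · simp [hi.2, a2.symm, e.symm]
    · simp [h.iw.2.symm, hi.2.symm, a4.2.symm, (hi.conj y).2.symm]
  have h4 : 5 ≤ Nat.card I := h3 ▸ Set.ncard_le_ncard (t := (I : Set G)) (by
    simp [Set.insert_subset_iff, hw, h1, h2, mul_mem hw h1])
  obtain ⟨n, hn⟩ := (h.Z_two.to_le hI).exists_card_eq
  rw [hn] at h4 ⊢
  exact Nat.pow_le_pow_right two_pos (by
    by_contra h5
    have := Nat.pow_le_pow_right two_pos (show n ≤ 2 by omega)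
    omega : 3 ≤ n)

theorem card_Z : Nat.card h.Z = 8 := by
  obtain ⟨a, ht, ha⟩ := h.exists_tv
  obtain ⟨x, hx, e⟩ := h.exists_move ht ha
  have h1 := ht.fix h.iw
  have hne : w ≠ x := fun e1 => h.iw.2 (by rw [← e1, h1] at e; simpa using e)
  obtain ⟨g, e1, e2⟩ := h.tr w x x w h.iw hx hx h.iw hne hne.symm
  have ht' := ht.conj g
  rw [e1] at ht'
  have e3 : g * a * g⁻¹ * w * (g * a * g⁻¹)⁻¹ = x * w := by
    calc _ = g * a * g⁻¹ * (g * x * g⁻¹) * (g * a * g⁻¹)⁻¹ := by rw [e2]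
      _ = g * (a * x * a⁻¹) * g⁻¹ := by group
      _ = _ := by rw [e, conj_mul', e1, e2]
  have k : Cyc (a * (g * a * g⁻¹)) w x := ⟨h.iw, hx, hne, by
    rw [conj_comp, e3, conj_mul', e, h1, h.comm w x h.iw hx, mul_assoc, h.iw.1, mul_one],
    by rw [conj_comp, ht'.fix hx, e]⟩
  set I := h.Z ⊓ centralizer {a} ⊓ centralizer {g * a * g⁻¹} with hI
  have h2 : Nat.card I ≤ 2 := by
    by_cases e4 : I = ⊥
    · simp [e4]
    obtain ⟨⟨u, hu⟩, hu1⟩ := ne_bot_iff_exists_ne_one.1 e4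
    have hu2 : IsInv u := ⟨hu.1.1, fun e => hu1 (Subtype.ext e)⟩
    refine (card_le_of_le fun v hv => ?_).trans hu2.card_zpowers.le
    by_contra h2
    have h3 : ∀ v ∈ I, a * (g * a * g⁻¹) ∈ centralizer {v} := fun v hv =>
      mul_mem (mem_centralizer_singleton_iff.2 (mem_centralizer_singleton_iff.1 hv.1.2).symm)
        (mem_centralizer_singleton_iff.2 (mem_centralizer_singleton_iff.1 hv.2).symm)
    obtain ⟨n, hn⟩ := h.two u v hu2 ⟨hv.1.1, fun e => h2 (e ▸ one_mem _)⟩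
      (fun e => h2 (e ▸ mem_zpowers _)) ⟨_, h3 u hu, h3 v hv⟩
    exact h.cyc_not_two k n (congrArg Subtype.val hn)
  have h3 := h.relIndex_le h.iw ht le_rfl
  have h4 := h.relIndex_le hx ht' (inf_le_left : h.Z ⊓ centralizer {a} ≤ _)
  have h5 := h.eight_le le_rfl h.iw.1 h.k.ib h.b_ne h.k.ib.1 (sq_conj h.k.ib.1 y)
  rw [← hI] at h4
  omega

end LY

end CfsgLib.SEB
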