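import Cfsg.Agent.Lib.SEB.Defs
import Cfsg.Agent.S3776

/-! Project SEB: `p`-stability for groups whose involutions are central modulo the odd core. -/

set_option autoImplicit false

namespace CfsgLib.SEB

open Subgroup Cfsg CfsgLib.Cop CfsgLib.H1 CfsgLib.SE CfsgLib.SEG Module
open scoped commutatorElement

section linear

variable {k : Type*} [Field k] {p : ℕ} [hp : Fact p.Prime] [CharP k p]

theorem two_ne_zero_of (hp2 : p ≠ 2) : (2 : k) ≠ 0 := by
  have := H9.natCast_ne_zero_of_coprime k p
    ((Nat.coprime_primes Nat.prime_two hp.out).2 hp2.symm)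
  exact_mod_cast this

theorem quad_pair.{v} [IsAlgClosed k] (hp2 : p ≠ 2) {H : Type*} [Group H]
    [Finite H] {a b : H} (hS : closure {a, b} = ⊤) {j z : H} (hj : (orderOf j).Coprime p)
    (hz : z * z = 1) (hjz : j * z = z * j) (h2 : ∀ (U : Type v) [AddCommGroup U] [Module k U]
      (τ : H →* End k U), finrank k U = 2 → τ j = 1 ∨ τ z = -1) (n : ℕ) :
    ∀ (W : Type v) [AddCommGroup W] [Module k W] [FiniteDimensional k W] (ρ : H →* End k W),
      finrank k W = n → (ρ a - 1) * (ρ a - 1) = 0 → (ρ b - 1) * (ρ b - 1) = 0 →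
      ρ j * (ρ z + 1) = ρ z + 1 := by
  induction n using Nat.strong_induction_on with
  | _ n ih =>
  intro W _ _ _ ρ hn hx hy
  rcases subsingleton_or_nontrivial W with hW | hW
  · exact Subsingleton.elim _ _
  set x := ρ a - 1 with hxd
  set y := ρ b - 1 with hyd
  have hxx : ∀ w, x (x w) = 0 := fun w => congrArg (fun T : End k W => T w) hx
  have hyy : ∀ w, y (y w) = 0 := fun w => congrArg (fun T : End k W => T w) hy
  have hρa : ∀ w, ρ a w = w + x w := fun w => by simp [hxd]
  have hρb : ∀ w, ρ b w = w + y w := fun w => by simp [hyd]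
  obtain ⟨c, hc⟩ := Module.End.exists_eigenvalue (x * y + y * x)
  obtain ⟨v, hv⟩ := hc.exists_hasEigenvector
  obtain ⟨w, hw0, hw1, hw2⟩ : ∃ w : W, w ≠ 0 ∧ x w = 0 ∧ x (y w) = c • w := by
    have h1 : x (y v) + y (x v) = c • v := hv.apply_eq_smul
    by_cases h : x v = 0
    · exact ⟨v, hv.2, h, by rwa [h, map_zero, add_zero] at h1⟩
    · refine ⟨x v, h, hxx v, ?_⟩
      have := congrArg x h1
      rwa [map_add, hxx, zero_add, map_smul] at this
  have hinv : ∀ U : Submodule k W, U ≤ U.comap (ρ a) → U ≤ U.comap (ρ b) →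
      ∀ h, U ≤ U.comap (ρ h) := by
    intro U h1 h3 h
    let K : Submonoid H :=
      { carrier := {h | U ≤ U.comap (ρ h)}
        mul_mem' := fun {s t} hs ht u hu => by
          rw [Submodule.mem_comap, H9.rho_mul_apply]
          exact hs (ht hu)
        one_mem' := fun u hu => by simpa using hu }
    have h4 : h ∈ closure ({a, b} : Set H) := hS ▸ mem_top h
    induction h4 using closure_induction with
    | mem s hs => rcases hs with rfl | rfl <;> assumption
    | one => exact K.one_mem
    | mul s t _ _ hs ht => exact K.mul_mem hs ht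
    | inv s _ hs =>
      have h5 : s⁻¹ = s ^ (orderOf s - 1) := by
        rw [inv_eq_iff_mul_eq_one, ← pow_succ', Nat.sub_add_cancel (orderOf_pos s),
          pow_orderOf_eq_one]
      rw [h5]
      exact K.pow_mem hs _
  obtain ⟨U, hU0, hU, hUg⟩ : ∃ U : Submodule k W, U ≠ ⊥ ∧ (∀ h, U ≤ U.comap (ρ h)) ∧
      ∀ u ∈ U, ρ j (ρ z u + u) = ρ z u + u := by
    by_cases h : y w = 0
    · have hyw := h
      have h1 : ∀ h, ρ h w = w := by
        intro h
        have h4 : h ∈ closure ({a, b} : Set H) := hS ▸ mem_top h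
        induction h4 using closure_induction with
        | mem s hs =>
          rcases hs with rfl | rfl
          · rw [hρa, hw1, add_zero]
          · rw [hρb, hyw, add_zero]
        | one => simp
        | mul s t _ _ hs ht => rw [H9.rho_mul_apply, ht, hs]
        | inv s _ hs =>
          conv_lhs => rw [← hs]
          rw [← H9.rho_mul_apply, inv_mul_cancel, map_one, End.one_apply]
      have h3 : ∀ h, ∀ u ∈ Submodule.span k {w}, ρ h u = u := by
        intro h u hu
        obtain ⟨d, rfl⟩ := Submodule.mem_span_singleton.1 hu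
        rw [map_smul, h1]
      exact ⟨Submodule.span k {w}, by simpa using hw0,
        fun h u hu => by rw [Submodule.mem_comap, h3 h u hu]; exact hu,
        fun u hu => by rw [h3 z u hu, map_add, h3 j u hu]⟩
    · set U := Submodule.span k {w, y w} with hUd
      have hwU : w ∈ U := Submodule.subset_span (by simp)
      have hywU : y w ∈ U := Submodule.subset_span (by simp)
      have hU := hinv U (by
          rw [hUd, Submodule.span_le]
          rintro _ (rfl | rfl)
          · simpa [hρa, hw1] using hwU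
          · simpa [hρa, hw2] using U.add_mem hywU (U.smul_mem c hwU))
        (by
          rw [hUd, Submodule.span_le]
          rintro _ (rfl | rfl)
          · simpa [hρb] using U.add_mem hwU hywU
          · simpa [hρb, hyy] using hywU)
      have hli : LinearIndependent k ![w, y w] := by
        rw [LinearIndependent.pair_iff]
        intro s t hst
        have h1 := congrArg y hst
        rw [map_add, map_smul, map_smul, hyy, smul_zero, add_zero, map_zero, smul_eq_zero] at h1
        have h3 := h1.resolve_right h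
        rw [h3, zero_smul, zero_add, smul_eq_zero] at hst
        exact ⟨h3, hst.resolve_right h⟩
      have hfin : finrank k U = 2 := by
        have := finrank_span_eq_card hli
        rwa [Matrix.range_cons, Matrix.range_cons, Matrix.range_empty, Set.union_empty,
          Set.singleton_union] at this
      refine ⟨U, fun h0 => hw0 (by simpa [h0] using hwU), hU, fun u hu => ?_⟩
      rcases h2 U (Representation.subrepresentation ρ U hU) hfin with h1 | h1
      · exact congrArg (fun T : End k U => (T ⟨_, U.add_mem (hU z hu) hu⟩ : W)) h1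
      · have : ρ z u = -u := congrArg (fun T : End k U => (T ⟨u, hu⟩ : W)) h1
        rw [this, neg_add_cancel, map_zero]
  have hq : ∀ (h : H) (w : W), Representation.quotient ρ U hU h (Submodule.Quotient.mk w) =
      Submodule.Quotient.mk (ρ h w) := fun h w => rfl
  have h1 := ih _ (by
      have := Submodule.finrank_quotient_add_finrank U
      have h3 := Submodule.one_le_finrank_iff.2 hU0
      omega) (W ⧸ U) (Representation.quotient ρ U hU) rfl
    (LinearMap.ext fun w => by
      obtain ⟨w, rfl⟩ := Submodule.Quotient.mk_surjective U w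
      have : (Representation.quotient ρ U hU a - 1) (Submodule.Quotient.mk w) =
        Submodule.Quotient.mk (x w) := rfl
      rw [End.mul_apply, this]
      exact congrArg Submodule.Quotient.mk (hxx w))
    (LinearMap.ext fun w => by
      obtain ⟨w, rfl⟩ := Submodule.Quotient.mk_surjective U w
      have : (Representation.quotient ρ U hU b - 1) (Submodule.Quotient.mk w) =
        Submodule.Quotient.mk (y w) := rfl
      rw [End.mul_apply, this]
      exact congrArg Submodule.Quotient.mk (hyy w))
  refine LinearMap.ext fun v => ?_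
  change ρ j (ρ z v + v) = ρ z v + v
  set u := ρ z v + v with hu
  have h3 : ρ j u - u ∈ U := by
    rw [← Submodule.Quotient.eq, ← hq]
    exact congrArg (fun T => T (Submodule.Quotient.mk v)) h1
  have h4 : ρ z u = u := by
    rw [hu, map_add, ← H9.rho_mul_apply, hz, map_one, End.one_apply, add_comm]
  have h5 : ρ z (ρ j u - u) = ρ j u - u := by
    rw [map_sub, ← H9.rho_mul_apply, ← hjz, H9.rho_mul_apply, h4]
  have h6 := hUg _ h3
  rw [h5, ← two_smul k, map_smul] at h6
  have h7 := smul_right_injective W (two_ne_zero_of hp2) h6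
  have key : ∀ m : ℕ, ρ (j ^ m) u = u + (m : k) • (ρ j u - u) := fun m => by
    induction m with
    | zero => simp
    | succ m ih =>
      rw [pow_succ', H9.rho_mul_apply, ih, map_add, map_smul, h7, Nat.cast_succ, add_smul, one_smul]
      abel
  have h8 := key (orderOf j)
  rw [pow_orderOf_eq_one, map_one, End.one_apply, left_eq_add, smul_eq_zero] at h8
  exact sub_eq_zero.1 (h8.resolve_left (H9.natCast_ne_zero_of_coprime k p hj))

theorem det_eq_one {H : Type*} [Group H] {S : Set H} (hS : closure S = ⊤)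
    (hSp : ∀ s ∈ S, ∃ n, s ^ p ^ n = 1) {U : Type*} [AddCommGroup U] [Module k U]
    (τ : H →* End k U) (x : H) : LinearMap.det (τ x) = 1 := by
  refine (closure_le (LinearMap.det.comp τ).ker).2 (fun s hs => ?_) (hS ▸ mem_top x)
  obtain ⟨n, hn⟩ := hSp s hs
  refine eq_one_of_pow_char_pow (p := p) (n := n) ?_
  rw [← map_pow, hn, map_one]

theorem quad_comm [IsAlgClosed k] (hp2 : p ≠ 2) {H : Type*} [Group H] [Finite H] {a b : H}
    (hS : closure {a, b} = ⊤) (ha : ∃ n, a ^ p ^ n = 1) (hb : ∃ n, b ^ p ^ n = 1) {W : Type*}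
    [AddCommGroup W] [Module k W] [FiniteDimensional k W] (ρ : H →* End k W)
    (h1 : (ρ a - 1) * (ρ a - 1) = 0) (h2 : (ρ b - 1) * (ρ b - 1) = 0) {e i : H}
    (hi : i * i * (i * i) = 1) (hj : (orderOf ⁅e, i⁆).Coprime p)
    (hc : ⁅e, i⁆ * (i * i) = i * i * ⁅e, i⁆) : ρ ⁅e, i⁆ * (ρ (i * i) + 1) = ρ (i * i) + 1 := by
  refine quad_pair hp2 hS hj hi hc (fun U _ _ τ hU => ?_) _ W ρ rfl h1 h2
  have hd := det_eq_one hS (by rintro _ (rfl | rfl) <;> assumption) τ
  refine (eq_one_or_neg_one_of_finrank_two hp2 hU (by rw [← map_mul, hi, map_one]) (hd _)).imp_left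
    fun h => ?_
  have h3 : τ e * τ i = τ i * τ e := by
    rcases eq_one_or_neg_one_of_finrank_two hp2 hU (by rw [← map_mul, h]) (hd i) with e | e <;>
      simp [e]
  rw [commutatorElement_def, map_mul, map_mul, map_mul, h3, mul_assoc (τ i), ← map_mul,
    mul_inv_cancel, map_one, mul_one, ← map_mul, mul_inv_cancel, map_one]

theorem quad_abTwo [IsAlgClosed k] (hp2 : p ≠ 2) {H : Type*} [Group H] [Finite H] {a b : H}
    (hS : closure {a, b} = ⊤) (ha : ∃ n, a ^ p ^ n = 1) (hb : ∃ n, b ^ p ^ n = 1) {W : Type*}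
    [AddCommGroup W] [Module k W] [FiniteDimensional k W] (ρ : H →* End k W)
    (h1 : (ρ a - 1) * (ρ a - 1) = 0) (h2 : (ρ b - 1) * (ρ b - 1) = 0)
    (h3 : ∀ S : Subgroup H, IsPGroup 2 S → ∀ s ∈ S, ∀ t ∈ S, ρ ⁅s, t⁆ = 1) {g : H}
    (hg : (orderOf g).Coprime p) : ρ g = 1 := by
  set f := QuotientGroup.mk' ρ.ker with hf
  have hfs : Function.Surjective f := QuotientGroup.mk'_surjective _
  refine eq_one_of_quadratic_pair (H := H ⧸ ρ.ker) hp2 (fun Q hQ => ?_) (a := f a) (b := f b)
    (by rw [← Set.image_pair, ← MonoidHom.map_closure, hS, map_top_of_surjective f hfs])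
    (ha.imp fun n h => by rw [← map_pow, h, map_one])
    (hb.imp fun n h => by rw [← map_pow, h, map_one]) (g := f g)
    (hg.coprime_dvd_left (orderOf_map_dvd f g)) _ W (QuotientGroup.lift _ ρ fun _ h => h) rfl h1 h2
  obtain ⟨S, -, h4, rfl⟩ := H9.exists_lift_isPGroup f (K := ⊤)
    (by rw [map_top_of_surjective f hfs]; exact le_top) hQ
  refine H5.isMulCommutative_iff'.2 ?_
  rintro _ ⟨x, hx, rfl⟩ _ ⟨y, hy, rfl⟩
  rw [← commutatorElement_eq_one_iff_mul_comm, ← map_commutatorElement]
  exact (QuotientGroup.eq_one_iff _).2 (h3 S h4 x hx y hy)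

variable {H W : Type*} [Group H] [AddCommGroup W] [Module k W] (ρ : H →* End k W)

/-- the elements acting trivially on the fixed space of `z` -/
def Nz (z : H) : Subgroup H where
  carrier := {h | ρ h * (ρ z + 1) = ρ z + 1}
  one_mem' := by simp
  mul_mem' := fun {a b} ha hb => by
    change ρ (a * b) * _ = _
    rw [map_mul, mul_assoc, hb, ha]
  inv_mem' := fun {a} ha => by
    change ρ a⁻¹ * _ = _
    nth_rw 1 [← ha]
    rw [← mul_assoc, ← map_mul, inv_mul_cancel, map_one, one_mul]

omit hp [CharP k p] in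
theorem conj_mem_Nz {z h : H} (g : H) (hh : h ∈ Nz ρ z) : g * h * g⁻¹ ∈ Nz ρ (g * z * g⁻¹) := by
  have e : ρ (g * z * g⁻¹) + 1 = ρ g * (ρ z + 1) * ρ g⁻¹ := by
    rw [mul_add, add_mul, mul_one, ← map_mul, ← map_mul, ← map_mul, mul_inv_cancel, map_one]
  change _ * _ = _
  rw [e, ← mul_assoc, ← mul_assoc, ← map_mul, inv_mul_cancel_right, map_mul, mul_assoc (ρ g), hh]

theorem Nz_trans (hp2 : p ≠ 2) {a b c : H} (h1 : b ∈ Nz ρ a) (h2 : c ∈ Nz ρ b) : c ∈ Nz ρ a := by
  have e : (ρ b + 1) * (ρ a + 1) = (2 : k) • (ρ a + 1) := by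
    rw [add_mul, h1, one_mul, two_smul]
  refine smul_right_injective _ (two_ne_zero_of (k := k) hp2) ?_
  change (2 : k) • (ρ c * (ρ a + 1)) = (2 : k) • (ρ a + 1)
  rw [← mul_smul_comm, ← e, ← mul_assoc, h2]

theorem eq_of_mem_Nz [Finite H] (hp2 : p ≠ 2) {z g : H} (h : g * z * g⁻¹ ∈ Nz ρ z)
    (hc : z * (g * z * g⁻¹) = g * z * g⁻¹ * z) : ρ (g * z * g⁻¹) = ρ z := by
  have key : ∀ m : ℕ, g ^ (m + 2) * z * (g ^ (m + 2))⁻¹ ∈ Nz ρ (g * z * g⁻¹) := fun m => by
    induction m with
    | zero => simpa [pow_two, mul_assoc] using conj_mem_Nz ρ g h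
    | succ m ih =>
      refine Nz_trans ρ hp2 ih ?_
      simpa [pow_succ, mul_assoc] using conj_mem_Nz ρ (g ^ (m + 2)) h
  have h1 := key (2 * orderOf g - 2)
  rw [Nat.sub_add_cancel (by have := orderOf_pos g; omega), pow_mul', pow_orderOf_eq_one, one_pow,
    one_mul, inv_one, mul_one] at h1
  generalize g * z * g⁻¹ = w at *
  have h2 : ρ w * (ρ z + 1) = ρ z + 1 := h
  have h3 : ρ z * (ρ w + 1) = ρ w + 1 := h1
  rw [mul_add, mul_one, ← map_mul] at h2 h3
  refine smul_right_injective _ (two_ne_zero_of (k := k) hp2) ?_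
  change (2 : k) • ρ w = (2 : k) • ρ z
  rw [two_smul, two_smul]
  rw [hc] at h3
  linear_combination (norm := abel) h2 - h3

end linear

end CfsgLib.SEB
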