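import Cfsg.Agent.Lib.SEB.T

/-! Project SEB: centralizers of `p`-subgroups with three fixed points. -/

set_option autoImplicit false

namespace CfsgLib.SEB

open Subgroup MulAction Cfsg CfsgLib.Cop CfsgLib.H1 CfsgLib.SE CfsgLib.SEG

variable {G Ω : Type*} [Group G] [MulAction G Ω]

theorem mem_of_pow_mem {y : G} (hy : Odd (orderOf y)) {X : Subgroup G} {k : ℕ}
    (h : y ^ 2 ^ k ∈ X) : y ∈ X := by
  induction k with
  | zero => simpa using h
  | succ k ih =>
    refine ih (mem_of_sq_mem (hy.of_dvd_nat (orderOf_pow_dvd _)) ?_)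
    rwa [← pow_two, ← pow_mul, ← pow_succ]

/-- the largest normal `2`-subgroup of the centralizer of `X` in `G_α` -/
abbrev TA (X : Subgroup G) (α : Ω) : Subgroup G :=
  pCoreOf 2 (centralizer (X : Set G) ⊓ stabilizer G α)

/-- `TA X α` is transitive on the fixed points of `X` other than `α` -/
def Reg (X : Subgroup G) (α : Ω) : Prop := ∀ β γ : Ω, β ≠ α → γ ≠ α → X ≤ stabilizer G β →
  X ≤ stabilizer G γ → ∃ s ∈ TA X α, s • β = γ

theorem TA_le (X : Subgroup G) (α : Ω) : TA X α ≤ centralizer (X : Set G) ⊓ stabilizer G α :=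
  pCoreOf_le _

theorem le_normalizer_TA [Finite G] (X : Subgroup G) (α : Ω) :
    normalizer (X : Set G) ⊓ stabilizer G α ≤ normalizer (TA X α : Set G) :=
  (le_normalizer_inf (le_normalizer_centralizer inf_le_left)
    (inf_le_right.trans le_normalizer)).trans (normalizer_le_normalizer_pCoreOf _)

theorem Reg.step [Finite G] (S : SEA G Ω) {X Y : Subgroup G} {α : Ω} (h : Reg X α) (h1 : X ≤ Y)
    (h2 : Y ≤ normalizer (X : Set G) ⊓ stabilizer G α) : Reg Y α := by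
  have : Fact (Nat.Prime 2) := ⟨Nat.prime_two⟩
  intro β γ a b c d
  obtain ⟨s, hs, e⟩ := h β γ a b (h1.trans c) (h1.trans d)
  have h3 : s ∈ centralizer (Y : Set G) := fun x hx => by
    have h4 := (TA X α).mul_mem (inv_mem hs)
      (conj_mem_of_mem_normalizer (le_normalizer_TA X α (h2 hx)) hs)
    have h5 : s⁻¹ * (x * s * x⁻¹) = 1 := disjoint_def.1 (H5.disjoint_of_isPGroup_of_coprime
      (pCoreOf_isPGroup _) (Nat.coprime_two_right.2 (S.odd_st2 a.symm))) h4 ⟨(TA_le X α h4).2, by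
        change _ • β = β
        rw [mul_smul, mul_smul, mul_smul, show x⁻¹ • β = β from inv_mem (c hx), e,
          show x • γ = γ from d hx, ← e, inv_smul_smul]⟩
    rw [inv_mul_eq_one] at h5
    exact (eq_mul_inv_iff_mul_eq.1 h5).symm
  refine ⟨s, le_pCoreOf (A := TA X α ⊓ centralizer (Y : Set G)) (le_inf inf_le_right
    (inf_le_left.trans ((TA_le X α).trans inf_le_right))) (le_normalizer_inf ?_
      (inf_le_left.trans le_normalizer)) ((pCoreOf_isPGroup _).to_le inf_le_left) ⟨hs, h3⟩, e⟩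
  exact (inf_le_inf_right _ ((centralizer_le h1).trans (centralizer_le_normalizer _))).trans
    (le_normalizer_TA X α)

theorem Reg.up [Finite G] (S : SEA G Ω) {p : ℕ} [Fact p.Prime] {X A : Subgroup G} {α : Ω}
    (h : Reg X α) (h1 : X ≤ A) (hA : IsPGroup p A) (h2 : A ≤ stabilizer G α) : Reg A α := by
  obtain ⟨Y, ⟨a, b⟩, hm⟩ := exists_maximal_of_wellFoundedGT
    (fun Y : Subgroup G => Y ≤ A ∧ Reg Y α) ⟨X, h1, h⟩
  rcases a.eq_or_lt with rfl | c
  · exact b
  have d := lt_inf_normalizer_of_isPGroup hA c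
  exact absurd (hm ⟨inf_le_left, b.step S d.le (le_inf inf_le_right (inf_le_left.trans h2))⟩ d.le)
    d.not_ge

namespace Cy

variable [Finite G] (C : Cy G Ω)
include C

theorem le_cent_of_not_rk2 {N : Subgroup G} {a : G} {α : Ω} (ha : IsInv a) (h1 : a • α = α)
    (h2 : a ∈ N) (h3 : ¬ N ≤ stabilizer G α) (h4 : ¬ Rk2 N) :
    N ⊓ stabilizer G α ≤ centralizer {a} := by
  obtain ⟨y, -, -, h5, X, h6, h7, h8, h9⟩ := exists_block C.S ha h1 h2 h3 h4
  have hO := odd_piCoreOf N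
  have h10 := le_cent_of_cm ha (odd_of_le hO inf_le_left)
    (norm_inf (le_normalizer_piCoreOf N h2) (le_normalizer h1)) (h8.trans (C.le_cent ha h1 h5
      (h9.trans inf_le_right) (le_stab_smul h7 (h9.trans inf_le_right)) h6))
  rintro g ⟨hg, e⟩
  have h11 := zstar_of_not_rk2 h4 ha h2 hg
  have h12 := mem_centralizer_singleton_iff.1 (h10 ⟨h11, (stabilizer G α).mul_mem
    ((stabilizer G α).mul_mem (mul_mem e h1) (inv_mem e)) (inv_mem h1)⟩)
  have h13 : g * a * g⁻¹ * a⁻¹ = 1 := Invol.eq_one_of_odd (odd_orderOf_of_mem hO h11) (by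
    rw [ha.inv_eq] at h12 ⊢
    rw [mul_assoc _ a, ← h12]
    simp only [mul_assoc, ha.1, mul_one, inv_mul_cancel_left, ha.mul_mul, mul_inv_cancel])
  rw [mem_centralizer_singleton_iff, ← mul_inv_eq_iff_eq_mul, ← mul_inv_eq_one, h13]

section P

variable {p : ℕ} [Fact p.Prime] (hp2 : p ≠ 2) {X : Subgroup G} (hX : IsPGroup p X)
  (h3 : Fix3 Ω X) {α : Ω} (hα : X ≤ stabilizer G α)
include hp2 hX h3 hα

theorem cent_not_le : ¬ centralizer (X : Set G) ≤ stabilizer G α := fun e => by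
  obtain ⟨β, a, -, b⟩ := h3.exists_third α α
  obtain ⟨c, hc, e1⟩ := C.cent_trans hp2 hX h3 a.symm hα b
  exact a (e1.symm.trans (e hc))

theorem rk2_of_fp {k : G} (h1 : k ∈ centralizer (X : Set G)) (h2 : k • α = α) (hk : k ≠ 1)
    (h4 : Fp α k) : Rk2 (centralizer (X : Set G)) := by
  by_contra h5
  obtain ⟨u, hu, a, b⟩ := C.exists_inv_cent hp2 hX h3 hα
  exact hk (h4 u hu a (mem_centralizer_singleton_iff.1 (C.le_cent_of_not_rk2 hu a
    (mem_cent_of_le b) (C.cent_not_le hp2 hX h3 hα) h5 ⟨h1, h2⟩)).symm)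

variable (h0 : X ≠ ⊥) (hr : Rk2 (centralizer (X : Set G)))
include h0 hr

theorem bt_cent : BU (centralizer (X : Set G)) α := by
  obtain ⟨u, hu, a, b⟩ := C.exists_inv_cent hp2 hX h3 hα
  exact C.ih _ α (C.cent_ne_top (odd_card_of_isPGroup hp2 hX) h0)
    (C.S.rk2_inf hu (mem_cent_of_le b) a hr) (C.cent_not_le hp2 hX h3 hα)

theorem comm_of_rk2 {a b : G} (ha : IsInv a) (hb : IsInv b) (h1 : a • α = α) (h2 : b • α = α)
    (h4 : a ∈ centralizer (X : Set G)) (h5 : b ∈ centralizer (X : Set G)) : a * b = b * a := by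
  obtain ⟨m, hm, h6⟩ := SetLike.not_le_iff_exists.1 (C.cent_not_le hp2 hX h3 hα)
  have h7 := C.ic a (a * b * (a * b)) α (m • α) ha h1 h6 (by simp only [mul_smul, h1, h2])
    ((C.bt_cent hp2 hX h3 hα h0 hr).sq h4 h5 ha hb h1 h2 hm)
    (by rw [← conj_mul, Invol.inverts_mul ha.1 hb.1, mul_inv_rev (a * b)])
  have h8 := inv_eq_of_mul_eq_one_right h7
  rw [mul_inv_rev, ha.inv_eq, hb.inv_eq] at h8
  exact h8.symm

theorem reg_of_rk2 : Reg X α := by
  have : Fact (Nat.Prime 2) := ⟨Nat.prime_two⟩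
  intro β γ h1 h2 h5 h6
  obtain ⟨m, hm, rfl⟩ := C.cent_trans hp2 hX h3 h1.symm hα h5
  obtain ⟨n, hn, rfl⟩ := C.cent_trans hp2 hX h3 h2.symm hα h6
  set M := centralizer (X : Set G)
  obtain ⟨Q, a1, a2, a3, a4, a5, a6⟩ := (C.bt_cent hp2 hX h3 hα h0 hr).exQ
  set W := Ker M α
  have hW := le_normalizer_Ker M α
  have hWo : Odd (Nat.card W) := C.S.odd_of_le h1 (Ker_le_stab α hm) (Ker_le_stab' M α)
  obtain ⟨u, hu, a, b⟩ := C.exists_inv_cent hp2 hX h3 hα
  have b1 : u ∈ centralizer (W : Set G) := mem_cent_of_le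
    (C.le_cent hu a h1 (Ker_le_stab' M α) (Ker_le_stab α hm) (hW (mem_cent_of_le b)))
  have b2 : M ⊓ centralizer (W : Set G) ≤ normalizer (W : Set G) := inf_le_left.trans hW
  obtain ⟨s, hs, e⟩ := a5 m hm n hn h1 h2
  obtain ⟨c, hc, w, hw, rfl⟩ := (mem_sup_iff_of_le_normalizer b2).1 (a6 _ le_sup_right
    (sup_le inf_le_left (Ker_le M α)) (le_normalizer_sup (le_normalizer_inf le_normalizer
      (le_normalizer_centralizer hW)) hW) ⟨u, mem_sup_left ⟨mem_cent_of_le b, b1⟩, hu⟩ hs)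
  have b3 : c ∈ Q ⊓ centralizer (W : Set G) := ⟨(Q.mul_mem_cancel_right (a1 hw)).1 hs, hc.2⟩
  obtain ⟨T, hT⟩ := IsSylowIn.exists_in (p := 2) (Q ⊓ centralizer (W : Set G))
  have b4 : Q ⊓ centralizer (W : Set G) ≤ T ⊔ W ⊓ centralizer (T : Set G) := by
    refine le_of_forall_sylow_le fun q hq _ => ?_
    by_cases e : q = 2
    · subst e
      obtain ⟨T, rfl⟩ := hT.exists_sylow_map
      exact ⟨T, le_sup_left⟩
    refine ⟨default, le_sup_of_le_right fun x hx => ?_⟩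
    have h7 := IsSylowIn.of_sylow_subgroup (default : Sylow q ↥(Q ⊓ centralizer (W : Set G)))
    obtain ⟨k, hk⟩ := a4 x (h7.le hx).1
    have h8 : x ∈ W := mem_of_pow_mem (odd_orderOf_of_mem (odd_card_of_isPGroup e h7.isPGroup) hx)
      hk
    exact ⟨h8, fun y hy => ((hT.le hy).2 x h8).symm⟩
  have b5 : W ⊓ centralizer (T : Set G) ≤ normalizer (T : Set G) :=
    inf_le_right.trans (centralizer_le_normalizer _)
  obtain ⟨τ, hτ, w', hw', rfl⟩ := (mem_sup_iff_of_le_normalizer' b5).1 (b4 b3)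
  refine ⟨τ, pCoreOf_le_of_le_normalizer (inf_le_left.trans a2) (le_normalizer_inf a3
    (le_normalizer_centralizer (inf_le_left.trans hW))) (le_pCoreOf hT.le
      (b4.trans (sup_le le_normalizer b5)) hT.isPGroup hτ), ?_⟩
  rwa [mul_smul, mul_smul, (mem_Ker.1 hw).2 m hm, (mem_Ker.1 hw'.1).2 m hm] at e

theorem sq_of_mem_Zg {z : G} (hz : z ∈ Zg X α) : z * z = 1 := by
  have key : ∀ z ∈ Zg X α, z * z = 1 → ∀ w ∈ Zg X α, w * w = 1 → z * w = w * z :=
    fun z hz e w hw e' => by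
      by_cases e1 : z = 1
      · simp [e1]
      by_cases e2 : w = 1
      · simp [e2]
      exact C.comm_of_rk2 hp2 hX h3 hα h0 hr ⟨e, e1⟩ ⟨e', e2⟩ (Zg_le X α hz).1 (Zg_le X α hw).1
        (Zg_le X α hz).2 (Zg_le X α hw).2
  induction hz using closure_induction with
  | mem x hx => exact hx.1.1
  | one => simp
  | mul x y hx hy e1 e2 =>
    rw [mul_assoc, ← mul_assoc y, ← key x hx e1 y hy e2, mul_assoc, e2, mul_one, e1]
  | inv x _ e => rw [← mul_inv_rev, e, inv_one]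

theorem isPGroup_Zg : IsPGroup 2 (Zg X α) := fun z =>
  ⟨1, Subtype.ext (by simpa [pow_two] using C.sq_of_mem_Zg hp2 hX h3 hα h0 hr z.2)⟩

omit h0 hr in
theorem Zg_ne_bot : Zg X α ≠ ⊥ := fun e => by
  obtain ⟨u, hu, a, b⟩ := C.exists_inv_cent hp2 hX h3 hα
  exact hu.2 (mem_bot.1 (e ▸ mem_Zg_of hu a (mem_cent_of_le b)))

theorem Zg_inf_cent {k : G} (hk : k ≠ 1) (h : Fp α k) : Zg X α ⊓ centralizer {k} = ⊥ :=
  eq_bot_iff.2 fun z hz => by
    by_contra e
    exact hk (h z ⟨C.sq_of_mem_Zg hp2 hX h3 hα h0 hr hz.1, e⟩ (Zg_le X α hz.1).1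
      (mem_centralizer_singleton_iff.1 hz.2))

theorem cyclic_of_rk2 {B : Subgroup G} (hB : IsMulCommutative B)
    (h1 : B ≤ stabilizer G α ⊓ normalizer (X : Set G)) (h2 : ∀ k ∈ B, Fp α k) : IsCyclic B :=
  FT.regular_abelian_cyclic hB (C.Zg_ne_bot hp2 hX h3 hα) (h1.trans (le_normalizer_Zg X α))
    fun k hk e => C.Zg_inf_cent hp2 hX h3 hα h0 hr e (h2 k hk)

end P

end Cy

namespace Ca

variable [Finite G] (C : Ca G Ω)
include C

theorem cy : Cy G Ω := ⟨C.toCw, C.ic⟩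

theorem eq_one_of_cent {α β : Ω} (h : α ≠ β) {x : G} (hx : x ∈ st2 G α β)
    (h1 : ∀ u, IsInv u → u • α = α → u * x = x * u) : x = 1 := by
  by_contra h2
  obtain ⟨p, hp, y, hy, e⟩ := exists_prime_pow h2
  have : Fact p.Prime := ⟨hp⟩
  have h3 : zpowers y ≤ st2 G α β := zpowers_le_of_mem (zpowers_le_of_mem hx hy)
  have h4 : ∀ u, IsInv u → u • α = α → zpowers y ≤ centralizer {u} := fun u a b =>
    zpowers_le_of_mem (zpowers_le_of_mem (mem_centralizer_singleton_iff.2 (h1 u a b).symm) hy)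
  have h5 := odd_of_le (C.S.odd_st2 h) h3
  obtain ⟨u, hu, a⟩ := C.S.exists_inv α
  refine C.cy.cent_not_le (ne_two_of_odd h5 (by rw [Nat.card_zpowers, e])) (isPGroup_zpowers_of e)
    (fix3_of_cent C.S h hu a h3 (h4 u hu a)) (h3.trans inf_le_left) (C.le_stab_of_inv
      (C.cent_ne_top h5 fun e1 => ?_) fun u a b => mem_cent_of_le (h4 u a b))
  rw [zpowers_eq_bot.1 e1, orderOf_one] at e
  exact hp.ne_one e.symm

theorem D1_ne_bot {α β : Ω} (h : α ≠ β) : Jg G α ⊓ st2 G α β ≠ ⊥ := fun e => by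
  obtain ⟨a, b, ha, hb, h1, h2, h3⟩ := C.exists_not_comm α
  obtain ⟨p, hp, hd⟩ := Nat.exists_prime_and_dvd (n := (centralizer {a}).relIndex (Jg G α))
    fun e => h3 (mem_centralizer_singleton_iff.1 (relIndex_eq_one.1 e (mem_Jg hb h2))).symm
  have : Fact p.Prime := ⟨hp⟩
  have h4 : p ∣ nJ G α := by
    refine hd.trans ?_
    have := normal_subgroupOf_of_le_normalizer (le_normalizer_Jg (G := G) α)
    rw [← C.S.relIndex_cent_stab ha h1, ← relIndex_subgroupOf (Jg_le α)]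
    exact OrbitRep.relIndex_dvd_index_of_normal_right _ _
  obtain ⟨P, hP⟩ := IsSylowIn.exists_in (p := p) (st2 G α β)
  have hP' := C.cy.sylow_stab h4 h hP
  refine (hP'.inf_of_le_normalizer (Jg_le α) (hP'.le.trans (le_normalizer_Jg α))).ne_bot
    (hd.trans (relIndex_dvd_card _ _)) (eq_bot_iff.2 ?_)
  rw [← e, inf_comm]
  exact inf_le_inf_left _ hP.le

end Ca

end CfsgLib.SEB
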