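import Cfsg.Agent.Lib.SEB.Loc

/-! Project SEB: abelian normal subgroups of the two point stabilizer are inverted. -/

set_option autoImplicit false

namespace CfsgLib.SEB

open Subgroup MulAction Cfsg CfsgLib.Cop CfsgLib.H1 CfsgLib.SE CfsgLib.SEG
open scoped commutatorElement
open GW (Inverts)

variable {G Ω : Type*} [Group G] [MulAction G Ω]

/-- the subgroup generated by the `2`-elements of `H` -/
def Tw (H : Subgroup G) : Subgroup G := closure {x | x ∈ H ∧ ∃ k : ℕ, x ^ 2 ^ k = 1}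

theorem Tw_le (H : Subgroup G) : Tw H ≤ H := (closure_le _).2 fun _ h => h.1

theorem Tw_le_iff {H K : Subgroup G} : Tw H ≤ K ↔ ∀ x ∈ H, ∀ k : ℕ, x ^ 2 ^ k = 1 → x ∈ K :=
  ⟨fun h _ a k b => h (subset_closure ⟨a, k, b⟩), fun h => (closure_le _).2
    fun x ⟨a, k, b⟩ => h x a k b⟩

theorem le_Tw {H T : Subgroup G} (h : T ≤ H) (hT : IsPGroup 2 T) : T ≤ Tw H := fun x hx => by
  obtain ⟨k, hk⟩ := hT ⟨x, hx⟩
  exact subset_closure ⟨h hx, k, congrArg Subtype.val hk⟩

theorem inv_mem_Tw {H : Subgroup G} {u : G} (hu : IsInv u) (h : u ∈ H) : u ∈ Tw H :=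
  subset_closure ⟨h, 1, by simpa [pow_two] using hu.1⟩

theorem normalizer_le_normalizer_Tw [Finite G] (H : Subgroup G) :
    normalizer (H : Set G) ≤ normalizer (Tw H : Set G) := fun g hg =>
  mem_normalizer_of_conj_mem fun x hx => (Tw_le_iff (K := (Tw H).comap
    (MulAut.conj g).toMonoidHom)).2 (fun u hu k e => subset_closure
      ⟨conj_mem_of_mem_normalizer hg hu, k, by
        change (g * u * g⁻¹) ^ _ = 1
        rw [conj_pow, e, mul_one, mul_inv_cancel]⟩) hx

theorem mem_comm_Tw {H : Subgroup G} {x : G} (hx : x ∈ Tw H) (ho : Odd (orderOf x)) :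
    x ∈ ⁅Tw H, Tw H⁆ := by
  have key : ∀ x (hx : x ∈ Tw H), ∃ k : ℕ, Abelianization.of (⟨x, hx⟩ : Tw H) ^ 2 ^ k = 1 := by
    intro x hx
    induction hx using closure_induction with
    | mem x hx =>
      obtain ⟨k, hk⟩ := hx.2
      exact ⟨k, (map_pow _ _ _).symm.trans ((congrArg _ (Subtype.ext hk)).trans (map_one _))⟩
    | one => exact ⟨0, by rw [pow_zero, pow_one]; exact map_one _⟩
    | mul x y hx hy e1 e2 =>
      obtain ⟨k, hk⟩ := e1
      obtain ⟨l, hl⟩ := e2
      refine ⟨k + l, ?_⟩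
      rw [show (⟨x * y, _⟩ : Tw H) = ⟨x, hx⟩ * ⟨y, hy⟩ from rfl, map_mul, mul_pow, pow_add,
        pow_mul, hk, mul_comm (2 ^ k), pow_mul, hl, one_pow, one_pow, mul_one]
    | inv x hx e =>
      obtain ⟨k, hk⟩ := e
      exact ⟨k, by rw [show (⟨x⁻¹, _⟩ : Tw H) = ⟨x, hx⟩⁻¹ from rfl, map_inv, inv_pow, hk, inv_one]⟩
  obtain ⟨k, hk⟩ := key x hx
  refine mem_of_pow_mem ho (k := k) ?_
  rw [← map_pow, ← MonoidHom.mem_ker, Abelianization.ker_of] at hk
  exact FT.map_subtype_der (Tw H) ▸ mem_map_of_mem (Tw H).subtype hk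

/-- the subgroup generated by the `2`-elements fixing `α` -/
abbrev J2 (G : Type*) [Group G] [MulAction G Ω] (α : Ω) : Subgroup G := Tw (stabilizer G α)

theorem J2_le (α : Ω) : J2 G α ≤ stabilizer G α := Tw_le _

theorem mem_J2 {α : Ω} {u : G} (hu : IsInv u) (h : u • α = α) : u ∈ J2 G α := inv_mem_Tw hu h

theorem le_normalizer_J2 [Finite G] (α : Ω) : stabilizer G α ≤ normalizer (J2 G α : Set G) :=
  le_normalizer.trans (normalizer_le_normalizer_Tw _)

/-- invariant elementary abelian normal subgroups of two point stabilizers are inverted -/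
structure Cm (G Ω : Type*) [Group G] [MulAction G Ω] : Prop extends Cy G Ω where
  mix : ∀ (ℓ : ℕ) (α β : Ω) (t : G) (Y : Subgroup G), ℓ.Prime → α ≠ β → IsInv t → t • α = β →
    IsElementaryAbelian ℓ Y → Y ≤ st2 G α β → st2 G α β ≤ normalizer (Y : Set G) →
    t ∈ normalizer (Y : Set G) → Y ⊓ centralizer {t} = ⊥
  d1 : ∀ α β : Ω, α ≠ β → J2 G α ⊓ st2 G α β ≠ ⊥

namespace Ca

variable [Finite G] (C : Ca G Ω)
include C

theorem mixed {ℓ : ℕ} [hl : Fact ℓ.Prime] {α β : Ω} (h : α ≠ β) {t : G} (ht : IsInv t)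
    (h1 : t • α = β) {Y : Subgroup G} (hY : IsElementaryAbelian ℓ Y) (hYD : Y ≤ st2 G α β)
    (hD : st2 G α β ≤ normalizer (Y : Set G)) (htY : t ∈ normalizer (Y : Set G)) :
    Y ⊓ centralizer {t} = ⊥ := by
  by_contra h0
  have hYo := odd_of_le (C.S.odd_st2 h) hYD
  have hYp : IsPGroup ℓ Y := fun y => ⟨1, Subtype.ext (by simpa using hY.2 y y.2)⟩
  have hc := H5.isMulCommutative_iff'.1 hY.1
  have hl2 : ℓ ≠ 2 := by
    rintro rfl
    exact h0 (eq_bot_iff.2 (inf_le_left.trans (H5.eq_bot_of_isPGroup_of_coprime hYp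
      (Nat.coprime_two_right.2 hYo)).le))
  set B := cm Y t with hB
  have hBY : B ≤ Y := cm_le htY
  have hfp : ∀ b ∈ B, Fp α b := fun b hb =>
    fp_of_inverts C.S h ht h1 (hYD (hBY hb)) (inverts_cm ht hYo htY hY.1 b hb)
  obtain ⟨u, hu, hu1, hu2⟩ := C.cy.exists_inv_cent hl2 (hYp.to_le inf_le_left)
    (fix3_of_swap C.S h ht h1 (inf_le_left.trans hYD) inf_le_right)
    (inf_le_left.trans (hYD.trans inf_le_left))
  have hcard : ∀ a, IsInv a → a • α = α →
      Nat.card ↥(Y ⊓ centralizer {a}) = Nat.card ↥(Y ⊓ centralizer {u}) := fun a ha e => by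
    obtain ⟨d, hd, rfl⟩ := C.S.exists_conj h hu ha hu1 e
    rw [← card_map_conj d (Y ⊓ centralizer {u}), map_conj_inf,
      map_conj_eq_of_mem_normalizer (hD hd), map_conj_cent1]
  have hne : ∀ a, IsInv a → a • α = α → Y ⊓ centralizer {a} ≠ ⊥ := fun a ha e e1 => by
    have := hcard a ha e
    rw [e1, card_bot, eq_comm, card_eq_one] at this
    exact h0 (eq_bot_iff.2 ((le_inf inf_le_left hu2).trans this.le))
  obtain ⟨b₀, hb₀, hb₁⟩ : ∃ b ∈ B, b ≠ 1 := by
    by_contra h2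
    push Not at h2
    have h3 : Y ≤ centralizer {u} := (le_inf le_rfl (cm_eq_bot_iff.1 (eq_bot_iff.2 h2))).trans hu2
    refine h0 (eq_bot_iff.2 fun x hx => C.eq_one_of_cent h (hYD hx.1) fun a ha e => ?_)
    obtain ⟨d, hd, rfl⟩ := C.S.exists_conj h hu ha hu1 e
    exact (mem_centralizer_singleton_iff.1 (le_cent_conj (hD hd) h3 hx.1)).symm
  have hrk : ∀ a, IsInv a → a • α = α → ∀ x ∈ Y ⊓ centralizer {a},
      IsPGroup ℓ (zpowers x) ∧ Fix3 Ω (zpowers x) ∧ zpowers x ≤ stabilizer G α ∧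
        Rk2 (centralizer (zpowers x : Set G)) := fun a ha e x hx => by
    have a1 := hYp.to_le (zpowers_le_of_mem hx.1)
    have a2 := fix3_of_cent C.S h ha e (zpowers_le_of_mem (hYD hx.1)) (zpowers_le_of_mem hx.2)
    have a3 : zpowers x ≤ stabilizer G α := zpowers_le_of_mem (hYD hx.1).1
    exact ⟨a1, a2, a3, C.cy.rk2_of_fp hl2 a1 a2 a3 (by
      rw [centralizer_zpowers]; exact mem_centralizer_singleton_iff.2 (hc _ (hBY hb₀) _ hx.1))
      (hYD (hBY hb₀)).1 hb₁ (hfp _ hb₀)⟩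
  have hcomm : ∀ a b, IsInv a → IsInv b → a • α = α → b • α = α → ∀ x ∈ Y, x ≠ 1 →
      x * a = a * x → x * b = b * x → a * b = b * a := fun a b ha hb e1 e2 x hx hx1 e3 e4 => by
    obtain ⟨a1, a2, a3, a4⟩ := hrk a ha e1 x ⟨hx, mem_centralizer_singleton_iff.2 e3⟩
    exact C.cy.comm_of_rk2 hl2 a1 a2 a3 (by simpa using hx1) a4 ha hb e1 e2
      (by rw [centralizer_zpowers]; exact mem_centralizer_singleton_iff.2 e3.symm)
      (by rw [centralizer_zpowers]; exact mem_centralizer_singleton_iff.2 e4.symm)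
  have hBc : Nat.card B ≤ ℓ := by
    obtain ⟨⟨x, hx⟩, hx1⟩ := ne_bot_iff_exists_ne_one.1 (hne u hu hu1)
    obtain ⟨a1, a2, a3, a4⟩ := hrk u hu hu1 x hx
    refine card_le_of_cyclic hl.out (C.cy.cyclic_of_rk2 hl2 a1 a2 a3 (by simpa using hx1) a4
      (H5.isMulCommutative_iff'.2 fun x hx y hy => hc _ (hBY hx) _ (hBY hy))
      (le_inf (hBY.trans (hYD.trans inf_le_left)) (le_trans ?_ (centralizer_le_normalizer _)))
      hfp) fun b hb => hY.2 b (hBY hb)
    rw [centralizer_zpowers]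
    exact fun b hb => mem_centralizer_singleton_iff.2 (hc _ (hBY hb) _ hx.1)
  have hn : ∀ {A A' : Subgroup G}, A ≤ Y → A' ≤ Y → A ≤ normalizer (A' : Set G) :=
    fun a b x hx => centralizer_le_normalizer _ fun y hy => hc _ (b hy) _ (a hx)
  have hYc : ∀ a, IsInv a → a • α = α → Nat.card Y ≤ ℓ * Nat.card ↥(Y ⊓ centralizer {a}) := by
    intro a ha e
    have h2 := commutator_sup_centralizer (zpowers_le_of_mem htY) (ht.coprime hYo) IsInv.solv
    rw [centralizer_zpowers] at h2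
    rw [hcard a ha e]
    nth_rw 1 [← h2]
    exact (Nat.le_of_dvd (Nat.mul_pos Nat.card_pos Nat.card_pos)
      (card_sup_dvd_mul (hn hBY inf_le_left))).trans
      (Nat.mul_le_mul hBc (card_le_of_le (le_inf inf_le_left hu2)))
  have hdis : ∀ a b, IsInv a → IsInv b → a • α = α → b • α = α → a * b ≠ b * a →
      (Y ⊓ centralizer {a}) ⊓ (Y ⊓ centralizer {b}) = ⊥ := fun a b ha hb e1 e2 e3 =>
    eq_bot_iff.2 fun x hx => by
      by_contra h2
      exact e3 (hcomm a b ha hb e1 e2 x hx.1.1 h2 (mem_centralizer_singleton_iff.1 hx.1.2)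
        (mem_centralizer_singleton_iff.1 hx.2.2))
  obtain ⟨a, a', ha, ha', e, e', hnc⟩ := C.exists_not_comm α
  have hle : ∀ c, IsInv c → c • α = α → Nat.card ↥(Y ⊓ centralizer {c}) ≤ ℓ := fun c hc e1 => by
    have h2 := card_sup_mul_card_inf (hn (inf_le_left : Y ⊓ centralizer {a} ≤ Y)
      (inf_le_left : Y ⊓ centralizer {a'} ≤ Y))
    rw [hdis a a' ha ha' e e' hnc, card_bot, mul_one] at h2
    have h3 := (h2.ge.trans (card_le_of_le (sup_le inf_le_left inf_le_left))).trans (hYc a' ha' e')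
    rw [hcard c hc e1, ← hcard a ha e]
    exact Nat.le_of_mul_le_mul_right h3 Nat.card_pos
  have hsup : ∀ a b, IsInv a → IsInv b → a • α = α → b • α = α →
      (Y ⊓ centralizer {a}) ⊓ (Y ⊓ centralizer {b}) = ⊥ →
      (Y ⊓ centralizer {a}) ⊔ (Y ⊓ centralizer {b}) = Y := fun a b ha hb e1 e2 e3 => by
    refine eq_of_le_of_card_le (sup_le inf_le_left inf_le_left) ?_
    have h2 := card_sup_mul_card_inf (hn (inf_le_left : Y ⊓ centralizer {a} ≤ Y)
      (inf_le_left : Y ⊓ centralizer {b} ≤ Y))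
    rw [e3, card_bot, mul_one] at h2
    rw [h2]
    exact (hYc b hb e2).trans (Nat.mul_le_mul_right _
      (le_card_of_ne_bot (hne a ha e1) fun x hx => hY.2 x hx.1))
  have hconj : ∀ y ∈ Y, ∀ a, IsInv a → a • α = α → (y * a * y⁻¹) • α = α ∧
      Y ⊓ centralizer {a} ≤ centralizer {y * a * y⁻¹} ∧ a * (y * a * y⁻¹) = y * a * y⁻¹ * a := by
    intro y hy a ha e1
    have h2 : (y * a * y⁻¹) • α = α := by
      have := conj_smul_eq (g := y) e1
      rwa [show y • α = α from (hYD hy).1] at this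
    have h3 : Y ⊓ centralizer {a} ≤ centralizer {y * a * y⁻¹} :=
      le_cent_conj (hn (zpowers_le_of_mem hy) inf_le_left (mem_zpowers y)) inf_le_right
    obtain ⟨⟨x, hx⟩, hx1⟩ := ne_bot_iff_exists_ne_one.1 (hne a ha e1)
    exact ⟨h2, h3, hcomm _ _ ha (ha.conj y) e1 h2 x hx.1 (fun e => hx1 (Subtype.ext e))
      (mem_centralizer_singleton_iff.1 hx.2) (mem_centralizer_singleton_iff.1 (h3 hx))⟩
  have hsame : ∀ a b, IsInv a → IsInv b → a • α = α → b • α = α → a * b = b * a →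
      Y ⊓ centralizer {a} = Y ⊓ centralizer {b} := fun a b ha hb e1 e2 e3 => by
    by_cases e4 : a = b
    · rw [e4]
    have h2 : (Y ⊓ centralizer {a}) ⊓ (Y ⊓ centralizer {b}) ≠ ⊥ := fun h2 => by
      refine hne _ (isInv_mul ha hb e4 e3) (by rw [mul_smul, e2, e1]) (eq_bot_iff.2 fun y hy => ?_)
      obtain ⟨a1, a2, a3⟩ := hconj y hy.1 a ha e1
      obtain ⟨-, b2, -⟩ := hconj y hy.1 b hb e2
      have h3 : a * (y * a * y⁻¹) = b * (y * b * y⁻¹) := by
        have h4 := mem_centralizer_singleton_iff.1 hy.2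
        calc a * (y * a * y⁻¹) = a * (y * (a * b) * (b * y⁻¹)) := by
              simp only [mul_assoc, hb.mul_mul]
          _ = _ := by rw [h4]; simp only [mul_assoc, ha.mul_mul]
      have h4 : a * (y * a * y⁻¹) = 1 := by
        by_contra h4
        refine hb₁ (hfp b₀ hb₀ _ ⟨?_, h4⟩ (by rw [mul_smul, a1, e1]) ?_)
        · nth_rw 2 [a3]
          rw [mul_assoc, ← mul_assoc (y * a * y⁻¹), (ha.conj y).1, one_mul, ha.1]
        · have h5 : Y ≤ centralizer {a * (y * a * y⁻¹)} := by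
            rw [← hsup a b ha hb e1 e2 h2]
            refine sup_le (fun x hx => le_cent_of_mem (mul_mem (mem_cent_of_le inf_le_right)
              (mem_cent_of_le a2)) hx) fun x hx => ?_
            rw [h3]
            exact le_cent_of_mem (mul_mem (mem_cent_of_le inf_le_right) (mem_cent_of_le b2)) hx
          exact (mem_centralizer_singleton_iff.1 (h5 (hBY hb₀))).symm
      have h5 : ∀ c, IsInv c → c * (y * c * y⁻¹) = 1 → y ∈ centralizer {c} := fun c hc e => by
        rw [mem_centralizer_singleton_iff, ← mul_inv_eq_iff_eq_mul]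
        exact (eq_inv_of_mul_eq_one_right e).trans hc.inv_eq
      exact h2 ▸ ⟨⟨hy.1, h5 a ha h4⟩, hy.1, h5 b hb (h3 ▸ h4)⟩
    have h3 := le_card_of_ne_bot (ℓ := ℓ) h2 fun x hx => hY.2 x hx.1.1
    rw [← eq_of_le_of_card_le inf_le_left ((hle a ha e1).trans h3),
      eq_of_le_of_card_le inf_le_right ((hle b hb e2).trans h3)]
  have htrans : ∀ a b c : G, IsInv a → IsInv b → IsInv c → a • α = α → b • α = α → c • α = α →
      a * b = b * a → b * c = c * b → a * c = c * a := fun a b c ha hb hc e1 e2 e3 e4 e5 => by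
    by_contra h2
    have := hdis a c ha hc e1 e3 h2
    rw [hsame a b ha hb e1 e2 e4, ← hsame b c hb hc e2 e3 e5, inf_idem] at this
    exact hne b hb e2 this
  let z : Option B → G := fun o => o.elim 1 fun b => b * a * (b : G)⁻¹
  have hz : ∀ o, z o * z o = 1 ∧ z o • α = α ∧ Y ⊓ centralizer {a} ≤ centralizer {z o} ∧
      a * z o = z o * a := by
    rintro (_ | b)
    · exact ⟨by simp [z], by simp [z], fun x _ => by simp [z, mem_centralizer_singleton_iff],
        by simp [z]⟩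
    · exact ⟨(ha.conj b).1, hconj b (hBY b.2) a ha e⟩
  have hz1 : ∀ o, (z o * a' * (z o)⁻¹) • α = α := fun o => by
    have := conj_smul_eq (g := z o) e'
    rwa [(hz o).2.1] at this
  have hex : ∀ o, ∃ x : ↥(Y ⊓ centralizer {a}),
      (x : G)⁻¹ * b₀ ∈ Y ⊓ centralizer {z o * a' * (z o)⁻¹} := fun o => by
    have h2 := hsup a _ ha (ha'.conj _) e (hz1 o) (hdis a _ ha (ha'.conj _) e (hz1 o) fun e1 =>
      hnc (by
        have := comm_conj (g := (z o)⁻¹) (a := a') (b := a) (by rw [inv_inv]; exact e1.symm)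
        rw [mul_assoc _ a, inv_inv, (hz o).2.2.2, inv_mul_cancel_left] at this
        exact this.symm))
    obtain ⟨x, hx, y, hy, e1⟩ := (mem_sup_iff_of_le_normalizer (hn inf_le_left inf_le_left)).1
      (h2.ge (hBY hb₀))
    exact ⟨⟨x, hx⟩, by rw [← e1, inv_mul_cancel_left]; exact hy⟩
  choose φ hφ using hex
  have hinj : Function.Injective φ := fun o o' e1 => by
    have h2 := hcomm _ _ (ha'.conj _) (ha'.conj _) (hz1 o) (hz1 o') _ (hφ o).1 (fun e2 => by
      refine hb₁ (hfp b₀ hb₀ a ha e ?_)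
      rw [← inv_mul_eq_one.1 e2]
      exact (mem_centralizer_singleton_iff.1 (φ o).2.2).symm)
      (mem_centralizer_singleton_iff.1 (hφ o).2)
      (mem_centralizer_singleton_iff.1 (e1 ▸ (hφ o').2))
    have h3 : z o = z o' := by
      by_contra h3
      have h4 : z o * z o' = z o' * z o := by
        by_cases e2 : z o = 1
        · simp [e2]
        by_cases e3 : z o' = 1
        · simp [e3]
        exact htrans _ a _ ⟨(hz o).1, e2⟩ ha ⟨(hz o').1, e3⟩ (hz o).2.1 e (hz o').2.1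
          (hz o).2.2.2.symm (hz o').2.2.2
      have h5 : (z o)⁻¹ = z o := inv_eq_of_mul_eq_one_right (hz o).1
      have hw : IsInv (z o * z o') := ⟨by
        nth_rw 1 [h4]
        rw [mul_assoc, ← mul_assoc (z o), (hz o).1, one_mul, (hz o').1], fun e2 =>
          h3 (by rw [← h5]; exact inv_eq_of_mul_eq_one_right e2)⟩
      have hw1 : (z o * z o') • α = α := by rw [mul_smul, (hz o').2.1, (hz o).2.1]
      have hw2 : z o * z o' * a = a * (z o * z o') := by
        rw [mul_assoc, ← (hz o').2.2.2, ← mul_assoc, ← (hz o).2.2.2, mul_assoc]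
      have hw3 : a' * (z o * z o' * a' * (z o * z o')⁻¹) = z o * z o' * a' * (z o * z o')⁻¹ * a' :=
        comm_of_conj (z o) (by
          have e2 : z o * (z o * z o' * a' * (z o * z o')⁻¹) * (z o)⁻¹ =
              z o' * a' * (z o')⁻¹ := by
            rw [mul_inv_rev, h5]
            simp only [← mul_assoc, (hz o).1, one_mul]
            simp only [mul_assoc, (hz o).1, mul_one]
          rwa [e2])
      generalize z o * z o' = w at *
      refine hnc (htrans a w a' ha hw ha' e hw1 e' hw2.symm ?_)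
      by_cases e2 : a' = w * a' * w⁻¹
      · exact mul_inv_eq_iff_eq_mul.1 e2.symm
      refine htrans w _ a' hw (isInv_mul ha' (ha'.conj w) e2 hw3) ha' hw1 ?_ e' ?_ ?_
      · have := conj_smul_eq (g := w) e'
        rw [hw1] at this
        rw [mul_smul, this, e']
      · nth_rw 1 [hw3]
        simp only [hw.inv_eq, mul_assoc, hw.mul_mul, hw.1, mul_one]
      · rw [mul_assoc, ← hw3]
    match o, o', h3 with
    | none, none, _ => rfl
    | none, some b, h3 => exact absurd h3.symm (ha.conj b).2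
    | some b, none, h3 => exact absurd h3 (ha.conj b).2
    | some b, some b', h3 =>
      have h4 : (b' : G)⁻¹ * b = 1 := hfp _ (mul_mem (inv_mem b'.2) b.2) a ha e (by
        have h5 : (b : G) * a * (b : G)⁻¹ = b' * a * (b' : G)⁻¹ := h3
        calc a * ((b' : G)⁻¹ * b) = (b' : G)⁻¹ * (b' * a * (b' : G)⁻¹) * b := by group
          _ = _ := by rw [← h5]; group)
      rw [Subtype.ext (inv_mul_eq_one.1 h4)]
  have h2 := (Nat.card_le_card_of_injective φ hinj).trans (hle a ha e)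
  have h3 := le_card_of_ne_bot (ℓ := ℓ) (B := B) (fun e => hb₁ (mem_bot.1 (e ▸ hb₀)))
    fun b hb => hY.2 b (hBY hb)
  rw [Finite.card_option] at h2
  omega

theorem cm : Cm G Ω := ⟨C.cy, fun ℓ _ _ _ _ hl => by
  have : Fact ℓ.Prime := ⟨hl⟩
  exact fun h ht h1 hY => C.mixed h ht h1 hY, fun α β h e => C.D1_ne_bot h (eq_bot_iff.2 ((inf_le_inf_right _
    (Jg_le_iff.2 fun _ => mem_J2)).trans e.le))⟩

end Ca

namespace Cm

variable [Finite G] (C : Cm G Ω)
include C

theorem inverts_of_comm {α β : Ω} (h : α ≠ β) {t : G} (ht : IsInv t)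
    (h1 : t • α = β) {A : Subgroup G} (hA : IsMulCommutative A) (hAD : A ≤ st2 G α β)
    (hD : st2 G α β ≤ normalizer (A : Set G)) (htA : t ∈ normalizer (A : Set G)) :
    Inverts t A := by
  refine GW.inverts_of_inf_cent ht.1 (odd_of_le (C.S.odd_st2 h) hAD) htA
    (eq_bot_iff.2 fun x hx => ?_)
  by_contra h2
  obtain ⟨p, hp, y, hy, e⟩ := exists_prime_pow h2
  have : Fact p.Prime := ⟨hp⟩
  have h3 := zpowers_le_of_mem hx hy
  have h4 := C.mix p α β t _ hp h ht h1 (PGrp.isElementaryAbelian_omegaOne (p := p) hA)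
    (fun x hx => hAD ((PGrp.mem_omegaOne_of_comm hA).1 hx).1)
    (hD.trans (FT.normalizer_le_normalizer_omegaOne A))
    (FT.normalizer_le_normalizer_omegaOne A htA)
  have h5 : y = 1 := mem_bot.1 (h4 ▸ ⟨FT.mem_omegaOne h3.1 (e ▸ pow_orderOf_eq_one y), h3.2⟩)
  rw [h5, orderOf_one] at e
  exact hp.ne_one e.symm

end Cm

end CfsgLib.SEB
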