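import Cfsg.Agent.Lib.SEB.KS

/-! Project SEB: the action of `G_α` on its involutions. -/

set_option autoImplicit false

namespace CfsgLib.SEB

open Subgroup MulAction Cfsg CfsgLib.Cop CfsgLib.H1 CfsgLib.SE CfsgLib.SEG
open scoped commutatorElement

variable {G Ω : Type*} [Group G] [MulAction G Ω]

namespace Cv

variable [Finite G] {α β : Ω} {p : ℕ} {z t : G} {K : Subgroup G} (c : Cv α β p z t K)
include c

theorem not_isPGroup (ns : ∀ α : Ω, ¬ Group.IsSolvable (Jg G α)) {ℓ : ℕ}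
    [hl : Fact ℓ.Prime] : ¬ IsPGroup ℓ K := fun h => by
  obtain ⟨u, hu, h1⟩ := c.C.S.exists_inv α
  obtain ⟨k, hk⟩ := h.exists_card_eq
  have h2 := Chr.isSolvable_normalClosure_of_class_prime_pow (G := stabilizer G α) (x := ⟨u, h1⟩)
    hl.out ⟨k, by
      have e : centralizer {(⟨u, h1⟩ : stabilizer G α)} =
          (centralizer {u}).subgroupOf (stabilizer G α) := Subgroup.ext fun x => by
        rw [mem_subgroupOf, mem_centralizer_singleton_iff, mem_centralizer_singleton_iff,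
          Subtype.ext_iff]; rfl
      rw [← hk, c.card_K, ← c.C.S.relIndex_cent_stab hu h1, relIndex, e]⟩
  refine ns α (isSolvable_of_le (isSolvable_map h2 (stabilizer G α).subtype)
    (Jg_le_iff.2 fun v hv h3 => ?_))
  obtain ⟨d, hd, rfl⟩ := c.C.S.exists_conj_stab hu hv h1 h3
  exact ⟨_, normalClosure_normal.conj_mem (⟨u, h1⟩ : stabilizer G α)
    (subset_normalClosure (Set.mem_singleton _)) ⟨d, hd⟩, rfl⟩

theorem le_of_normal {N : Subgroup G} (h1 : N ≤ stabilizer G α)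
    (h2 : stabilizer G α ≤ normalizer (N : Set G)) (h3 : N ⊓ K ≠ ⊥) : K ≤ N := by
  obtain ⟨⟨x, hx⟩, hx1⟩ := ne_bot_iff_exists_ne_one.1 h3
  obtain ⟨ℓ, hl, y, hy, e⟩ := exists_prime_pow (x := x) fun e => hx1 (Subtype.ext e)
  have : Fact ℓ.Prime := ⟨hl⟩
  replace hy := zpowers_le_of_mem hx hy
  obtain ⟨R, hyR, hR⟩ := IsSylowIn.exists_ge (isPGroup_zpowers_of e)
    (zpowers_le_of_mem (show y ∈ N ⊓ st2 G α β from ⟨hy.1, c.leD hy.2⟩))
  have h5 := c.not_fix3 hR.isPGroup (hyR (mem_zpowers y)) hy.2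
    fun a => hl.ne_one (by rw [← e, a, orderOf_one])
  have h6 := sylow_of_not_fix3 c.ne.symm hR h5
  rw [inf_eq_left.2 h1] at h6
  have h7 := hR.le.trans inf_le_right
  have h8 : stabilizer G α = st2 G α β ⊔ N := le_antisymm ((h6.frattini_le h1 h2).trans
    (sup_le le_sup_right fun g hg => mem_sup_left ⟨hg.1, eq_of_not_fix3 h5
      (smul_ne_of_fix hg.1 c.ne.symm) c.ne.symm (h7.trans inf_le_left)
      (le_stab_smul hg.2 (h7.trans inf_le_right)) (h7.trans inf_le_right)⟩)) (sup_le inf_le_left h1)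
  refine (c.le.trans inf_le_left).trans (Tw_le_iff.2 fun g hg k e1 => ?_)
  refine Cop.le_of_coprime_relIndex (zpowers_le_of_mem hg) h2 ?_ (mem_zpowers g)
  rw [h8, relIndex_sup_of_le_normalizer (inf_le_left.trans h2), Nat.card_zpowers]
  exact ((Nat.coprime_two_left.2 (c.oddD.of_dvd_nat (relIndex_dvd_card _ _))).pow_left
    k).coprime_dvd_left (orderOf_dvd_of_pow_eq_one e1)

theorem trans_of_cyclic {ℓ : ℕ} [hl : Fact ℓ.Prime] (hd : ℓ ∣ Nat.card K) {L : Subgroup G}
    (hL : IsSylowIn ℓ L K) (hc : IsCyclic L) (hne : Nat.card K ≠ ℓ) {u v w : G} (hu : IsInv u)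
    (hv : IsInv v) (hw : IsInv w) (h1 : u • α = α) (h6 : v • α = α) (h2 : w • α = α) (h4 : u ≠ v)
    (h3 : u ≠ w) : ∃ g ∈ stabilizer G α, g * u * g⁻¹ = u ∧ g * v * g⁻¹ = w := by
  classical
  let _ : CommGroup K := { (inferInstance : Group K) with
    mul_comm := fun a b => Subtype.ext (c.inv.comm a.2 b.2) }
  let _ := invAct G α
  have := Fintype.ofFinite (Additive K)
  have hK := c.leD.trans inf_le_left
  let e : Additive K ≃ {v : G // IsInv v ∧ v • α = α} := Equiv.ofBijective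
    (fun k => (⟨k.toMul, hK k.toMul.2⟩ : stabilizer G α) • ⟨u, hu, h1⟩) ⟨fun a b e => by
      have h7 : (a.toMul : G) * u * (a.toMul : G)⁻¹ = b.toMul * u * (b.toMul : G)⁻¹ :=
        congrArg Subtype.val e
      have h8 := c.fp (K.mul_mem (K.inv_mem b.toMul.2) a.toMul.2) u hu h1 (by
        rw [mul_assoc, mul_inv_eq_iff_eq_mul.1 h7]; group)
      exact (Subtype.ext (inv_mul_eq_one.1 h8)).symm, fun s => by
      obtain ⟨k, hk, e⟩ := c.reg hu h1 s.2.1 s.2.2
      exact ⟨Additive.ofMul ⟨k, hk⟩, Subtype.ext e⟩⟩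
  have he : ∀ x, (e x : G) = x.toMul * u * (x.toMul : G)⁻¹ := fun _ => rfl
  have hs : ∀ (g : stabilizer G α) (s : {v : G // IsInv v ∧ v • α = α}),
      ((g • s : {v : G // IsInv v ∧ v • α = α}) : G) = g * s * (g : G)⁻¹ := fun _ _ => rfl
  have hadd : ∀ a x, (⟨a.toMul, hK a.toMul.2⟩ : stabilizer G α) • e x = e (a + x) := fun a x =>
    Subtype.ext (by simp only [hs, he, toMul_add, coe_mul]; group)
  have htr : ∀ a, Equiv.addLeft a ∈ BGrp.transGrp (stabilizer G α) e := fun a => ⟨_, hadd a⟩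
  have h0 : (e 0 : G) = u := by simp [he]
  have hZ : (Finset.univ.filter (fun x : Additive K => ℓ • x = 0)).card = ℓ := by
    set B := ((powMonoidHom ℓ : K →* K).ker).map K.subtype
    have hB : ∀ b ∈ B, b ^ ℓ = 1 := by
      rintro _ ⟨b, hb, rfl⟩
      exact congrArg Subtype.val hb
    have a1 : Nat.card B = ℓ := by
      refine le_antisymm (card_le_of_cyclic hl.out (isCyclic_of_sylow hL hc (map_subtype_le _)
        fun b => ⟨1, Subtype.ext (by simpa using hB b b.2)⟩) hB) (le_card_of_ne_bot ?_ hB)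
      obtain ⟨y, hy⟩ := exists_prime_orderOf_dvd_card' ℓ hd
      refine fun a => hl.out.ne_one ?_
      rw [← hy, orderOf_eq_one_iff]
      exact Subtype.ext (mem_bot.1 (a ▸ ⟨y, hy ▸ pow_orderOf_eq_one y, rfl⟩))
    rw [card_map_subtype] at a1
    rw [← Fintype.card_subtype, ← Nat.card_eq_fintype_card]
    exact a1
  have hA : Fintype.card (Additive K) ≠ ℓ := fun a => hne (by
    rw [← a, ← Nat.card_eq_fintype_card]; rfl)
  have hprim : ∀ B : AddSubgroup (Additive K), (∀ x y, BGrp.Rel0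
      (BGrp.transGrp (stabilizer G α) e) x y → x ∈ B → y ∈ B) → B = ⊥ ∨ B = ⊤ := fun B hB => by
    by_contra a
    push Not at a
    have hm : ∀ (g h : stabilizer G α) x,
        BGrp.transPerm e (g * h) x = BGrp.transPerm e g (BGrp.transPerm e h x) :=
      fun g h x => by simp [BGrp.transPerm, mul_smul]
    have h7 : ∀ x, BGrp.transPerm e (1 : stabilizer G α) x = x := fun x => by simp [BGrp.transPerm]
    let N : Subgroup (stabilizer G α) :=
      { carrier := {g | ∀ x, BGrp.transPerm e g x - x ∈ B}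
        one_mem' := fun x => by simp [h7]
        mul_mem' := fun {g h} hg hh x => by simpa [hm] using B.add_mem (hg (BGrp.transPerm e h x)) (hh x)
        inv_mem' := fun {g} hg x => by
          simpa [← hm, h7] using B.neg_mem (hg (BGrp.transPerm e g⁻¹ x)) }
    have hN : N.Normal := ⟨fun n hn g x => by
      simpa [← hm, h7, mul_assoc] using BGrp.smul_coset e htr B hB g (hn (BGrp.transPerm e g⁻¹ x))⟩
    have h8 : ∀ a x, BGrp.transPerm e (⟨a.toMul, hK a.toMul.2⟩ : stabilizer G α) x = a + x :=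
      fun a x => e.injective (by rw [← BGrp.smul_eq_transPerm, hadd])
    have h9 := c.le_of_normal (N := N.map (stabilizer G α).subtype) (map_subtype_le _)
      (FT.le_normalizer_map_subtype N) (fun a1 => a.1 (eq_bot_iff.2 fun b hb => ?_))
    · refine a.2 (eq_top_iff.2 fun b _ => ?_)
      obtain ⟨n, hn, a2⟩ := h9 b.toMul.2
      obtain rfl : n = ⟨b.toMul, hK b.toMul.2⟩ := Subtype.ext a2
      simpa [h8] using hn 0
    · have a2 : (b.toMul : G) = 1 := mem_bot.1 (a1 ▸ ⟨⟨⟨b.toMul, hK b.toMul.2⟩, fun x => by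
        simpa [h8] using hb, rfl⟩, b.toMul.2⟩)
      exact Subtype.ext a2
  obtain ⟨π, ⟨g, hg⟩, a1, a2⟩ := BGrp.schur_core hZ hA _ htr hprim
    (a := e.symm ⟨v, hv, h6⟩) (b := e.symm ⟨w, hw, h2⟩)
    (fun a => h4 (by rw [← h0, ← a, e.apply_symm_apply]))
    (fun a => h3 (by rw [← h0, ← a, e.apply_symm_apply]))
  have a3 := congrArg Subtype.val (hg 0)
  have a4 := congrArg Subtype.val (hg (e.symm ⟨v, hv, h6⟩))
  rw [a1, hs, h0] at a3
  rw [a2, hs, e.apply_symm_apply, e.apply_symm_apply] at a4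
  exact ⟨g, g.2, a3, a4⟩

theorem not_cyclic (ns : ∀ α : Ω, ¬ Group.IsSolvable (Jg G α)) {ℓ : ℕ} [hl : Fact ℓ.Prime]
    (hd : ℓ ∣ Nat.card K) {L : Subgroup G} (hL : IsSylowIn ℓ L K) : ¬ IsCyclic L := fun hc => by
  obtain ⟨u, w, hu, hw, h1, h2, h3⟩ := Ca.exists_not_comm ⟨c.C.toCw, ns⟩ α
  obtain ⟨v, hv, h4, h5⟩ := c.C.S.exists_comm c.C.hr hu
  obtain ⟨g, -, a3, a4⟩ := c.trans_of_cyclic hd hL hc (fun a => c.not_isPGroup ns (ℓ := ℓ)
    (IsPGroup.of_card (n := 1) (by rw [pow_one, a]))) hu hv hw h1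
    (c.C.S.fix_of_comm hu h1 h5.symm) h2 h4 fun a => h3 (by rw [a])
  refine h3 ?_
  rw [← a3, ← a4, conj_mul, conj_mul, h5]

end Cv

end CfsgLib.SEB
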