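import Cfsg.Agent.Lib.SEB.Lin

/-! Project SEB: `p`-stability for groups whose involutions are central modulo the odd core. -/

set_option autoImplicit false

namespace CfsgLib.SEB

open Subgroup Cfsg CfsgLib.Cop CfsgLib.H1 CfsgLib.SE CfsgLib.SEG Module
open scoped commutatorElement

variable {G : Type*} [Group G]

theorem eq_one_of_comm_comm {e a : G} {n : ℕ} (he : Odd (orderOf e)) (h : ⁅e, a⁆ ^ 2 ^ n = 1)
    (hc : ⁅e, a⁆ * e = e * ⁅e, a⁆) : ⁅e, a⁆ = 1 := by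
  have h1 := PGrp.commutatorElement_pow_left (x := e) (y := a) hc (orderOf e)
  rw [pow_orderOf_eq_one, commutatorElement_one_left] at h1
  exact orderOf_eq_one_iff.1 (Nat.eq_one_of_dvd_coprimes
    ((Nat.coprime_two_right.2 he).pow_right n) (orderOf_dvd_of_pow_eq_one h1.symm)
    (orderOf_dvd_of_pow_eq_one h))

/-- Higman's theorem for a cyclic group transitive on the involutions -/
theorem comm_sq_of_trans [Finite G] {T : Subgroup G} (hT : IsPGroup 2 T) (hr : Rk2 T) {n : G}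
    (hn : n ∈ normalizer (T : Set G))
    (h : ∀ u ∈ T, ∀ v ∈ T, IsInv u → IsInv v → ∃ m : ℕ, n ^ m * u * (n ^ m)⁻¹ = v) :
    ∀ s ∈ T, ∀ t ∈ T, ⁅s, t⁆ * ⁅s, t⁆ = 1 := fun s hs t ht => by
  by_cases hc : IsMulCommutative T
  · rw [commutatorElement_eq_one_iff_mul_comm.2 (H5.isMulCommutative_iff'.1 hc s hs t ht), mul_one]
  have hi : ∀ x : T, x ≠ 1 → x ^ 2 = 1 → IsInv (x : G) := fun x a b =>
    ⟨by rw [← pow_two]; exact congrArg Subtype.val b, fun e => a (Subtype.ext e)⟩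
  obtain ⟨h1, h2, h3⟩ := Cfsg.Agent.S3776.result hT hc (by
    obtain ⟨a, ha, b, hb, e1, e2, e3, -⟩ := hr
    exact ⟨⟨a, ha⟩, ⟨b, hb⟩, fun e => e3 (congrArg Subtype.val e),
      fun e => e1.2 (congrArg Subtype.val e), Subtype.ext (by simpa [pow_two] using e1.1),
      fun e => e2.2 (congrArg Subtype.val e), Subtype.ext (by simpa [pow_two] using e2.1)⟩)
    ⟨zpowers (T.normalizerMonoidHom ⟨n, hn⟩), isSolvable_of_isMulCommutative,
      fun x y a b c d => by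
        obtain ⟨m, hm⟩ := h x x.2 y y.2 (hi x a b) (hi y c d)
        exact ⟨_, npow_mem_zpowers _ m, Subtype.ext (by rw [← map_pow]; exact hm)⟩⟩
  have := (h3 ⁅(⟨s, hs⟩ : T), ⟨t, ht⟩⁆).1 (h2 ▸ h1 ▸ commutator_mem_commutator (mem_top _) (mem_top _))
  rw [← pow_two]
  exact congrArg Subtype.val this

/-- the normal subgroup `C` centralizes the involutions modulo `O`, and a cyclic group is
transitive on the involutions modulo `O` -/
structure St (O C : Subgroup G) (k : G) : Prop where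
  on : O.Normal
  odd : Odd (Nat.card O)
  cn : C.Normal
  hc : ∀ c ∈ C, ∀ u, IsInv u → c * u * c⁻¹ * u⁻¹ ∈ O
  inv : ∀ u, IsInv u → u ∈ C
  rk : Rk2 (⊤ : Subgroup G)
  cyc : ∀ u v, IsInv u → IsInv v → ∃ n : ℕ, k ^ n * u * (k ^ n)⁻¹ * v ∈ O

namespace St

variable [Finite G] {O C : Subgroup G} {k : G} (h : St O C k)
include h

theorem eq_one {T : Subgroup G} (hT : IsPGroup 2 T) {x : G} (h1 : x ∈ T) (h2 : x ∈ O) : x = 1 :=
  have : Fact (Nat.Prime 2) := ⟨Nat.prime_two⟩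
  disjoint_def.1 (H5.disjoint_of_isPGroup_of_coprime hT (Nat.coprime_two_right.2 h.odd)) h1 h2

theorem comm {T : Subgroup G} (hT : IsPGroup 2 T) {c u : G} (hc : c ∈ C)
    (hn : c ∈ normalizer (T : Set G)) (hu : u ∈ T) (e : u * u = 1) : c * u = u * c := by
  by_cases e1 : u = 1
  · simp [e1]
  exact mul_inv_eq_iff_eq_mul.1 (mul_inv_eq_one.1 (h.eq_one hT
    (T.mul_mem (conj_mem_of_mem_normalizer hn hu) (T.inv_mem hu)) (h.hc c hc u ⟨e, e1⟩)))

theorem exists_n {T : Subgroup G} (hT : haveI : Fact (Nat.Prime 2) := ⟨Nat.prime_two⟩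
    IsSylowIn 2 T C) : ∃ n ∈ normalizer (T : Set G),
      ∀ u ∈ T, ∀ v ∈ T, IsInv u → IsInv v → ∃ m : ℕ, n ^ m * u * (n ^ m)⁻¹ = v := by
  have : Fact (Nat.Prime 2) := ⟨Nat.prime_two⟩
  have := h.on
  have := h.cn
  obtain ⟨c, hc, hn⟩ := hT.frattini_elem (le_normalizer_of_normal (mem_top k))
  refine ⟨_, hn, fun u hu v hv hi hj => ?_⟩
  obtain ⟨m, hm⟩ := h.cyc u v hi hj
  have key : ∀ m : ℕ, (((c * k) ^ m * u * ((c * k) ^ m)⁻¹ : G) : G ⧸ O) =
      (k ^ m * u * (k ^ m)⁻¹ : G) := fun m => by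
    induction m with
    | zero => simp
    | succ m ih =>
      have e : ((c * (k ^ (m + 1) * u * (k ^ (m + 1))⁻¹) * c⁻¹ : G) : G ⧸ O) =
          (k ^ (m + 1) * u * (k ^ (m + 1))⁻¹ : G) :=
        QuotientGroup.eq_iff_div_mem.2 (by rw [div_eq_mul_inv]; exact h.hc c hc _ (hi.conj _))
      rw [← e, show (c * k) ^ (m + 1) * u * ((c * k) ^ (m + 1))⁻¹ =
        c * k * ((c * k) ^ m * u * ((c * k) ^ m)⁻¹) * (c * k)⁻¹ by
          simp only [pow_succ', mul_inv_rev, mul_assoc],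
        QuotientGroup.mk_mul, QuotientGroup.mk_mul _ (c * k), ih, ← QuotientGroup.mk_mul,
        ← QuotientGroup.mk_mul, pow_succ']
      congr 1; group
  refine ⟨m, ?_⟩
  rw [← hj.inv_eq, ← mul_eq_one_iff_eq_inv]
  refine h.eq_one hT.isPGroup (T.mul_mem (conj_mem_of_mem_normalizer (pow_mem hn m) hu) hv) ?_
  rw [← QuotientGroup.eq_one_iff, QuotientGroup.mk_mul, key, ← QuotientGroup.mk_mul,
    QuotientGroup.eq_one_iff]
  exact hm

theorem rk2 {T : Subgroup G} (hT : haveI : Fact (Nat.Prime 2) := ⟨Nat.prime_two⟩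
    IsSylowIn 2 T C) : Rk2 T := by
  have : Fact (Nat.Prime 2) := ⟨Nat.prime_two⟩
  obtain ⟨a, -, b, -, ha, hb, e1, e2⟩ := h.rk
  obtain ⟨g, -, hg⟩ := hT.exists_conj_le (isPGroup_sup_of_le_normalizer
    (Invol.isPGroup_zpowers ha.1) (Invol.isPGroup_zpowers hb.1) (zpowers_le_of_mem
      (centralizer_le_normalizer _ (mem_cent_of_le (zpowers_le_of_mem
        (mem_centralizer_singleton_iff.2 e2.symm))))))
    (sup_le (zpowers_le_of_mem (h.inv a ha)) (zpowers_le_of_mem (h.inv b hb)))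
  exact ⟨_, hg (conj_mem_map_conj (mem_sup_left (mem_zpowers a))), _,
    hg (conj_mem_map_conj (mem_sup_right (mem_zpowers b))), ha.conj g, hb.conj g,
    fun e => e1 (by simpa using e), by rw [conj_mul, conj_mul, e2]⟩

theorem comm_sq {S : Subgroup G} (hS : IsPGroup 2 S) (h1 : S ≤ C) :
    ∀ s ∈ S, ∀ t ∈ S, ⁅s, t⁆ * ⁅s, t⁆ = 1 := fun s hs t ht => by
  have : Fact (Nat.Prime 2) := ⟨Nat.prime_two⟩
  obtain ⟨T, h2, hT⟩ := IsSylowIn.exists_ge hS h1
  obtain ⟨n, hn, h3⟩ := h.exists_n hT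
  exact comm_sq_of_trans hT.isPGroup (h.rk2 hT) hn h3 s (h2 hs) t (h2 ht)

variable {F : Type*} [Field F] {p : ℕ} [hp : Fact p.Prime] [CharP F p] {W : Type*}
  [AddCommGroup W] [Module F W] (ρ : G →* End F W)

theorem cent_of_faithful (hp2 : p ≠ 2) (hρ : ∀ u, IsInv u → ρ u ≠ 1) {S : Subgroup G}
    (hS : IsPGroup 2 S) (h1 : S ≤ C) {e : G} (he : e ∈ C) (ho : Odd (orderOf e))
    (hn : e ∈ normalizer (S : Set G))
    (hq : ∀ i ∈ S, i * i * (i * i) = 1 → ⁅e, i⁆ ∈ Nz ρ (i * i)) : e ∈ centralizer (S : Set G) := by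
  have : Fact (Nat.Prime 2) := ⟨Nat.prime_two⟩
  have hom : ∀ A ≤ S, e ∈ normalizer (A : Set G) → e ∉ centralizer (A : Set G) →
      ∃ i ∈ A, i * i * (i * i) = 1 ∧ IsInv (i * i) ∧ ⁅e, i⁆ ∈ A ∧ ⁅e, i⁆ * e ≠ e * ⁅e, i⁆ := by
    intro A hA a b
    by_contra c
    push Not at c
    refine b (commutator_eq_bot_iff_le_centralizer'.1 (commutator_eq_bot_of_centralizes_omega_two
      (hS.to_le hA) (zpowers_le_of_mem a) (by rw [Nat.card_zpowers]; exact Nat.coprime_two_right.2 ho)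
      fun x hx e1 => ?_) (mem_zpowers e))
    rw [centralizer_zpowers, mem_centralizer_singleton_iff]
    by_cases e2 : x * x = 1
    · exact (h.comm hS he hn (hA hx) e2).symm
    have e3 : x * x * (x * x) = 1 := by rw [← e1]; simp [pow_succ, mul_assoc]
    have e4 : ⁅e, x⁆ ∈ A := A.mul_mem (conj_mem_of_mem_normalizer a hx) (A.inv_mem hx)
    obtain ⟨n, hn⟩ := hS ⟨_, hA e4⟩
    exact (commutatorElement_eq_one_iff_mul_comm.1 (eq_one_of_comm_comm ho
      (congrArg Subtype.val hn) (c x hx e3 ⟨e3, e2⟩ e4))).symm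
  by_contra h0
  obtain ⟨T, h2, hT⟩ := IsSylowIn.exists_ge hS h1
  obtain ⟨n, hnT, h3⟩ := h.exists_n hT
  have hcT : ∀ s ∈ T, ∀ u ∈ T, u * u = 1 → s * u = u * s := fun s hs u hu =>
    h.comm hT.isPGroup (hT.le hs) (le_normalizer hs) hu
  have huniq : ∀ z ∈ T, ∀ w ∈ T, IsInv z → IsInv w → w ∈ Nz ρ z → w = z := by
    intro z hz w hw a b c
    have d := hcT z hz w hw b.1
    obtain ⟨m, rfl⟩ := h3 z hz w hw a b
    by_contra e1
    refine hρ _ (isInv_mul a b (Ne.symm e1) d) ?_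
    rw [map_mul, eq_of_mem_Nz ρ hp2 c d, ← map_mul, a.1, map_one]
  have hcomm : ∀ z ∈ T, ∀ w ∈ T, IsInv z → IsInv w → z ≠ w → ∀ s ∈ T ⊓ Nz ρ z,
      ∀ t ∈ T ⊓ Nz ρ w, s * t = t * s := by
    intro z hz w hw a b c s hs t ht
    by_contra d
    have h4 : IsInv ⁅s, t⁆ := ⟨h.comm_sq hT.isPGroup hT.le s hs.1 t ht.1,
      fun e => d (commutatorElement_eq_one_iff_mul_comm.1 e)⟩
    have h5 : ⁅s, t⁆ ∈ T := T.mul_mem (T.mul_mem (T.mul_mem hs.1 ht.1) (T.inv_mem hs.1))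
      (T.inv_mem ht.1)
    have h6 := conj_mem_Nz ρ s ht.2
    have h7 := conj_mem_Nz ρ t ((Nz ρ z).inv_mem hs.2)
    rw [hcT s hs.1 w hw b.1, mul_inv_cancel_right] at h6
    rw [hcT t ht.1 z hz a.1, mul_inv_cancel_right] at h7
    refine c ((huniq z hz _ h5 a h4 ?_).symm.trans (huniq w hw _ h5 b h4
      ((Nz ρ w).mul_mem h6 ((Nz ρ w).inv_mem ht.2))))
    simpa [commutatorElement_def, mul_assoc] using (Nz ρ z).mul_mem hs.2 h7
  obtain ⟨i, hi, a1, a2, a3, a4⟩ := hom S le_rfl hn h0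
  have a5 : e * (i * i) = i * i * e := h.comm hS he hn (S.mul_mem hi hi) a1
  have hz := h2 (S.mul_mem hi hi)
  have a6 : e ∈ normalizer ((S ⊓ Nz ρ (i * i) : Subgroup G) : Set G) :=
    norm_inf hn (mem_normalizer_of_conj_mem fun x hx => by
      have := conj_mem_Nz ρ e hx
      rwa [a5, mul_inv_cancel_right] at this)
  obtain ⟨a, ha, -, b2, b3, b4⟩ := hom _ inf_le_left a6 fun c => a4 (c _ ⟨a3, hq i hi a1⟩)
  have b5 := huniq _ hz _ (h2 (S.mul_mem ha.1 ha.1)) a2 b2 ((Nz ρ _).mul_mem ha.2 ha.2)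
  generalize i * i = z at *
  have haT : a ∈ T ⊓ Nz ρ z := ⟨h2 ha.1, ha.2⟩
  have hb := conj_mem_of_mem_normalizer a6 ha
  have hbT : e * a * e⁻¹ ∈ T ⊓ Nz ρ z := ⟨h2 hb.1, hb.2⟩
  have hex : ∀ w ∈ T, IsInv w → ∃ c ∈ T ⊓ Nz ρ w, c * c = w := fun w hw b => by
    obtain ⟨m, rfl⟩ := h3 z hz w hw a2 b
    exact ⟨_, ⟨conj_mem_of_mem_normalizer (pow_mem hnT m) haT.1, conj_mem_Nz ρ _ ha.2⟩,
      by rw [conj_mul, b5]⟩
  obtain ⟨w, hw, c1, c2⟩ : ∃ w ∈ T, IsInv w ∧ z ≠ w := by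
    obtain ⟨x, hx, y, hy, c1, c2, c3, -⟩ := h.rk2 hT
    by_cases c : z = x
    exacts [⟨y, hy, c2, c ▸ c3⟩, ⟨x, hx, c1, c⟩]
  have c3 := hcT z hz w hw c1.1
  have c4 := isInv_mul a2 c1 c2 c3
  have c5 : z ≠ z * w := fun e => c1.2 (by simpa using e)
  have c6 : w ≠ z * w := fun e => a2.2 (by simpa using e)
  obtain ⟨c, hc, c7⟩ := hex w hw c1
  obtain ⟨d, hd, c8⟩ := hex _ (T.mul_mem hz hw) c4
  have d1 : ∀ s ∈ T ⊓ Nz ρ z, Commute s (c * d) := fun s hs =>
    Commute.mul_right (hcomm z hz w hw a2 c1 c2 s hs c hc)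
      (hcomm z hz _ (T.mul_mem hz hw) a2 c4 c5 s hs d hd)
  have d2 : Commute c d := hcomm w hw _ (T.mul_mem hz hw) c1 c4 c6 c hc d hd
  have d3 := hcT _ hbT.1 _ (T.mul_mem haT.1 (T.mul_mem hc.1 hd.1)) (by
    rw [← pow_two, (d1 a haT).mul_pow, d2.mul_pow, pow_two, pow_two, pow_two, b5, c7, c8,
      ← mul_assoc, c4.1])
  rw [mul_assoc a, ← (d1 _ hbT).eq, ← mul_assoc, ← mul_assoc a] at d3
  have d4 : Commute (e * a * e⁻¹) a⁻¹ := Commute.inv_right (mul_right_cancel d3)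
  refine b4 (h.comm hS he hn b3.1 ?_).symm
  rw [← pow_two, commutatorElement_def, d4.mul_pow, inv_pow, pow_two, pow_two, conj_mul, b5, a5,
    mul_inv_cancel_right, mul_inv_cancel]

theorem rho_eq_one [IsAlgClosed F] [FiniteDimensional F W] (hp2 : p ≠ 2)
    (hρ : (∀ u, IsInv u → ρ u = 1) ∨ ∀ u, IsInv u → ρ u ≠ 1) {a b : G} (haC : a ∈ C) (hbC : b ∈ C)
    (ha : ∃ n, a ^ p ^ n = 1) (hb : ∃ n, b ^ p ^ n = 1) (h1 : (ρ a - 1) * (ρ a - 1) = 0)
    (h2 : (ρ b - 1) * (ρ b - 1) = 0) {g : G} (hg : g ∈ closure {a, b})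
    (hc : (orderOf g).Coprime p) : ρ g = 1 := by
  have : Fact (Nat.Prime 2) := ⟨Nat.prime_two⟩
  set L := closure {a, b} with hL
  have hLC : L ≤ C := (closure_le _).2 (by rintro _ (rfl | rfl) <;> assumption)
  have haL : a ∈ L := subset_closure (by simp)
  have hbL : b ∈ L := subset_closure (by simp)
  have hS : closure {(⟨a, haL⟩ : L), ⟨b, hbL⟩} = ⊤ := by
    apply map_injective L.subtype_injective
    rw [MonoidHom.map_closure, ← MonoidHom.range_eq_map, range_subtype, Set.image_pair]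
    rfl
  have ha' : ∃ n, (⟨a, haL⟩ : L) ^ p ^ n = 1 := ha.imp fun _ h => Subtype.ext h
  have hb' : ∃ n, (⟨b, hbL⟩ : L) ^ p ^ n = 1 := hb.imp fun _ h => Subtype.ext h
  have hcop : (2 : ℕ).Coprime p := (Nat.coprime_primes Nat.prime_two hp.out).2 hp2.symm
  refine quad_abTwo hp2 hS ha' hb' (ρ.comp L.subtype) h1 h2 (fun S hS2 s hs t ht => ?_)
    (g := ⟨g, hg⟩) (by rwa [← orderOf_coe])
  rcases hρ with hρ | hρ
  · by_cases e : ⁅(s : G), (t : G)⁆ = 1
    · exact (congrArg ρ e).trans (map_one ρ)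
    exact hρ _ ⟨h.comm_sq (hS2.map L.subtype) ((map_subtype_le _).trans hLC) _
      (mem_map_of_mem _ hs) _ (mem_map_of_mem _ ht), e⟩
  have h3 : HasNormalPComplement 2 L := by
    refine FrobNPC.hnpc_of_primePow_centralizes fun Q hQ _ e he q n hq hq2 e1 => ?_
    refine mem_centralizer_map_subtype.1 (h.cent_of_faithful ρ hp2 hρ (hQ.map L.subtype)
      ((map_subtype_le _).trans hLC) (hLC e.2) (by
        rw [orderOf_coe, e1]; exact (hq.odd_of_ne_two hq2).pow)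
      (le_normalizer_map _ (mem_map_of_mem _ he)) ?_)
    rintro _ ⟨i, hi, rfl⟩ e2
    have h4 : ⁅e, i⁆ ∈ Q := Q.mul_mem (conj_mem_of_mem_normalizer he hi) (Q.inv_mem hi)
    obtain ⟨m, hm⟩ := orderOf_eq_pow_of_mem_isPGroup hQ h4
    exact quad_comm hp2 hS ha' hb' (ρ.comp L.subtype) h1 h2 (Subtype.ext e2)
      (hm ▸ hcop.pow_left m) (Subtype.ext (h.comm (hQ.map L.subtype) (hLC ⁅e, i⁆.2)
        (le_normalizer (mem_map_of_mem _ h4)) (mem_map_of_mem _ (Q.mul_mem hi hi)) e2))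
  have h4 : ∀ x : L, (∃ n, x ^ p ^ n = 1) → x ∈ pResidual 2 L := fun x ⟨n, hn⟩ =>
    (PCompl.hnpc_mem_pResidual_iff h3).2
      ((hcop.symm.pow_left n).coprime_dvd_left (orderOf_dvd_of_pow_eq_one hn))
  have h5 := (PCompl.hnpc_mem_pResidual_iff h3).1 ((closure_le (pResidual 2 L)).2
    (by rintro _ (rfl | rfl); exacts [h4 _ ha', h4 _ hb']) (hS ▸ mem_top s))
  obtain ⟨m, hm⟩ := orderOf_eq_pow_of_mem_isPGroup hS2 hs
  rw [orderOf_eq_one_iff.1 (Nat.eq_one_of_dvd_coprimes (h5.pow_right m) dvd_rfl hm.dvd),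
    commutatorElement_one_left, map_one]

theorem stable (hp2 : p ≠ 2) (htr : ∀ u v : G, IsInv u → IsInv v → ∃ g, g * u * g⁻¹ = v)
    (P : Subgroup G) [P.Normal] (hP : IsPGroup p P) {x : G} (hxC : x ∈ C)
    (hx : ∃ k, x ^ p ^ k = 1) (hq : Quad x P) :
    ∀ g ∈ normalClosure ({x} : Set G), (orderOf g).Coprime p → g ∈ centralizer (P : Set G) := by
  set B := centralizer (P : Set G) with hB
  set f := QuotientGroup.mk' B with hf
  have hn : ∀ g : G, g ∈ normalizer (P : Set G) := fun g => le_normalizer_of_normal (mem_top g)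
  obtain ⟨W, _, _, _, ρ, ι, S⟩ := H9.exists_secRep p (MonoidHom.id G) P
    ((frattini P).map P.subtype) (map_subtype_le _) hn
    (fun g => le_normalizer_frattini le_rfl (hn g))
    (commutator_le_frattini_map hP) fun a ha => pow_mem_frattini_map hP ha
  have h3 : ∀ z : G, Quad z P → (ρ z - 1) * (ρ z - 1) = 0 := fun z hz => by
    rw [← pow_two]
    exact (S.sub_one_pow_eq_zero_iff z 2).2 fun a ha => by
      have := hz a ha
      simp only [Function.iterate_succ, Function.iterate_zero, Function.comp_apply, id_eq,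
        MonoidHom.id_apply, this]
      exact one_mem _
  have hρ : (∀ u, IsInv u → ρ u = 1) ∨ ∀ u, IsInv u → ρ u ≠ 1 := by
    refine or_iff_not_imp_right.2 fun a v hv => ?_
    push Not at a
    obtain ⟨u, hu, e⟩ := a
    obtain ⟨g, rfl⟩ := htr u v hu hv
    rw [map_mul, map_mul, e, mul_one, ← map_mul, mul_inv_cancel, map_one]
  have h1 : f x ∈ pCore p (G ⧸ B) := by
    refine baer_suzuki fun y => ?_
    obtain ⟨y, rfl⟩ := QuotientGroup.mk'_surjective B y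
    have key : ∀ g ∈ closure {x, y * x * y⁻¹}, (orderOf g).Coprime p → g ∈ B := by
      intro g hg hc
      have h5 := (S.rho_eq_one_iff _).1 (h.rho_eq_one ρ hp2 hρ hxC (h.cn.conj_mem x hxC y) hx
        (hx.imp fun _ h => by simp [h]) (h3 _ hq) (h3 _ (hq.conj (hn y))) hg hc)
      have h6 : ⁅P, zpowers g⁆ = ⊥ := by
        refine commutator_eq_bot_of_le_frattini
          (coprime_card_of_isPGroup (by rwa [Nat.card_zpowers]) hP) ?_
        refine (le_centMod_iff.1 (zpowers_le_of_mem ⟨le_normalizer_frattini le_rfl (hn g),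
          fun a ha => ?_⟩)).2
        rw [← commutatorElement_inv]
        exact inv_mem (h5 a ha)
      exact commutator_eq_bot_iff_le_centralizer'.1 h6 (mem_zpowers g)
    have h4 : closure {f x, f y * f x * (f y)⁻¹} = (closure {x, y * x * y⁻¹}).map f := by
      rw [MonoidHom.map_closure, Set.image_pair, map_mul, map_mul, map_inv]
    rw [h4]
    rintro ⟨_, g, hg, rfl⟩
    obtain ⟨k, hk⟩ := PRes.exists_pow_pow_coprime hp.out g
    exact ⟨k, Subtype.ext ((QuotientGroup.eq_one_iff _).2 (key _ (pow_mem hg _) hk))⟩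
  intro g hg hc
  have h4 : f g ∈ pCore p (G ⧸ B) := normalClosure_le_normal (N := (pCore p (G ⧸ B)).comap f)
    (by rintro _ rfl; exact h1) hg
  obtain ⟨k, hk⟩ := pCore_isPGroup p ⟨_, h4⟩
  exact FrobNPC.mem_of_pow_mem_of_coprime (Nat.Coprime.pow_right k hc)
    ((QuotientGroup.eq_one_iff _).1 (congrArg Subtype.val hk))

theorem normal_dSub (hp2 : p ≠ 2) (htr : ∀ u v : G, IsInv u → IsInv v → ∃ g, g * u * g⁻¹ = v)
    (hc : CharIn p C) {S : Subgroup G} (hS : IsSylowIn p S C) :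
    ⊤ ≤ normalizer (dSub S : Set G) := by
  have := h.cn
  have hCn : ⊤ ≤ normalizer (C : Set G) := le_normalizer_of_normal
  have hs : ∀ W : Subgroup G, ⊤ ≤ normalizer (W : Set G) → IsPGroup p W → ∀ x ∈ S, Quad x W →
      pResidualOf p (conjClosure (zpowers x) ⊤) ≤ centralizer (W : Set G) := by
    intro W a b x hx hq
    have := normal_of_le_normalizer_top a
    rw [pResidualOf_le_iff, conjClosure_zpowers_top]
    exact h.stable hp2 htr W b (hS.le hx)
      ((hS.isPGroup ⟨x, hx⟩).imp fun _ h => congrArg Subtype.val h) hq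
  have hK : ∀ x ∈ S, conjClosure (zpowers x) ⊤ ≤ C := fun x hx =>
    conjClosure_le (zpowers_le_of_mem (hS.le hx)) hCn
  have hQS := pCoreOf_le_sylow hS
  have hQn := hCn.trans (normalizer_le_normalizer_pCoreOf (p := p) C)
  have hD := dFam_dSub S
  have h1 : dSub S ≤ pCoreOf p C := fun x hx =>
    le_pCoreOf (hK x (hD.1 hx)) (le_top.trans (le_normalizer_conjClosure _ _))
      (isPGroup_of_pResidualOf_le (pCoreOf_isPGroup C) ((le_inf ((pResidualOf_le _).trans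
        (hK x (hD.1 hx))) (hs _ hQn (pCoreOf_isPGroup C) x (hD.1 hx) (quad_of_mem_of_comm hD.2.1
          (hQS.trans hD.2.2.1) hx))).trans hc)) (le_conjClosure _ _ (mem_zpowers x))
  set W := conjClosure (dSub S) ⊤ with hW
  have hWn : ⊤ ≤ normalizer (W : Set G) := le_normalizer_conjClosure _ _
  have h2 : W ≤ dSub (pCoreOf p C) := conjClosure_le (dSub_le_dSub h1 hQS)
    (hQn.trans (normalizer_le_normalizer_dSub _))
  have hWQ : W ≤ pCoreOf p C := h2.trans (dSub_le _)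
  have h3 : DFam S W := by
    refine ⟨hWQ.trans hQS, h2.trans ((dSub_le_centralizer _).trans (centralizer_le h2)),
      le_top.trans hWn, fun x hx hq => mem_centralizer_conjClosure fun m hm => ?_⟩
    set K := conjClosure (zpowers x) ⊤ with hKd
    have h4 := hs W hWn ((pCoreOf_isPGroup C).to_le hWQ) x hx hq
    have hT := hS.inf_of_le_normalizer (hK x hx) (le_top.trans (le_normalizer_conjClosure _ _))
    have h5 : m * x * m⁻¹ ∈ (S ⊓ K) ⊔ pResidualOf p K := by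
      rw [sup_comm, pResidualOf_sup_sylow hT]
      exact map_conj_le_conjClosure _ hm (conj_mem_map_conj (mem_zpowers x))
    obtain ⟨s, hs', c, hc', hsc⟩ := (mem_sup_iff_of_le_normalizer (inf_le_right.trans
      (le_normalizer.trans (normalizer_le_normalizer_pResidualOf K)))).1 h5
    have h6 : Quad s W := Quad.of_mul (hsc ▸ hq.conj (hWn hm)) (hWn (mem_top s)) (h4 hc')
    rw [← hsc]
    exact mul_mem (hD.2.2.2 s hs'.1 (h6.mono (le_conjClosure _ _)))
      (centralizer_le (le_conjClosure _ _) (h4 hc'))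
  rwa [le_antisymm h3.le_dSub (le_conjClosure _ _ : dSub S ≤ W)] at hWn

end St

end CfsgLib.SEB
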