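import Cfsg.Agent.Lib.SEB.Mix

/-! Project SEB: transfer in groups generated by `2`-elements of a point stabilizer. -/

set_option autoImplicit false

namespace CfsgLib.SEB

open Subgroup MulAction Cfsg CfsgLib.Cop CfsgLib.H1 CfsgLib.SE CfsgLib.SEG
open scoped commutatorElement
open GW (Inverts)

variable {G Ω : Type*} [Group G] [MulAction G Ω]

namespace Cy

variable [Finite G] (C : Cy G Ω) {α β : Ω} {p : ℕ} [Fact p.Prime]
include C

theorem reg_of_gd (hp2 : p ≠ 2) {A : Subgroup G} (hA : IsPGroup p A) (h2 : A ≤ stabilizer G α)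
    (h3 : Fix3 Ω A) (h1 : SEG.Gd A) : Reg A α := by
  obtain ⟨e, he, he1, h7⟩ := h1
  have h8 := zpowers_le_of_mem he
  exact (C.reg_of_rk2 hp2 (hA.to_le h8) (h3.mono h8) (h8.trans h2) (by simpa using he1) h7).up
    C.S h8 hA h2

variable (h : α ≠ β)
include h

theorem norm_dec (hp2 : p ≠ 2) {A : Subgroup G} (hA : IsPGroup p A) (hAD : A ≤ st2 G α β)
    (h1 : Fix3 Ω A → SEG.Gd A) {g : G} (hg : g • α = α) (hn : g ∈ normalizer (A : Set G)) :
    ∃ z ∈ TA A α, (z * g) • β = β := by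
  have h2 := hAD.trans inf_le_left
  have h3 := hAD.trans inf_le_right
  have h4 := le_stab_smul hn h3
  have h5 := smul_ne_of_fix hg h.symm
  by_cases e0 : g • β = β
  · exact ⟨1, one_mem _, by rwa [one_mul]⟩
  have h6 : Fix3 Ω A := ⟨α, β, g • β, h, h5.symm, Ne.symm e0, h2, h3, h4⟩
  obtain ⟨s, hs, e⟩ := C.reg_of_gd hp2 hA h2 h6 (h1 h6) _ _ h5 h.symm h4 h3
  exact ⟨s, hs, by rwa [mul_smul]⟩

theorem sylow_of_gd (hp2 : p ≠ 2) {Y P : Subgroup G} (hY : Y ≤ stabilizer G α)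
    (hP : IsSylowIn p P (Y ⊓ st2 G α β)) (h1 : Fix3 Ω P → SEG.Gd P) (hT : TA P α ≤ Y) :
    IsSylowIn p P Y := by
  have : Fact (Nat.Prime 2) := ⟨Nat.prime_two⟩
  have hPD := hP.le.trans inf_le_right
  obtain ⟨k, hk⟩ := (pCoreOf_isPGroup (p := 2)
    (centralizer (P : Set G) ⊓ stabilizer G α)).exists_card_eq
  refine sylow_of_normalizer ?_
  set N := Y ⊓ normalizer (P : Set G)
  have h2 : P ≤ N ⊓ st2 G α β := le_inf (le_inf (hP.le.trans inf_le_left) le_normalizer) hPD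
  have h4 := hP.mono h2 (inf_le_inf_right _ inf_le_left)
  have h5 : N ⊓ st2 G α β ≤ normalizer (TA P α : Set G) :=
    (inf_le_left.trans (le_inf inf_le_right (inf_le_left.trans hY))).trans (le_normalizer_TA P α)
  have h6 : TA P α ≤ N := le_inf hT
    ((TA_le P α).trans (inf_le_left.trans (centralizer_le_normalizer _)))
  have h9 : N ⊓ st2 G α β ⊔ TA P α = N := le_antisymm (sup_le inf_le_left h6) fun g hg => by
    obtain ⟨z, hz, e⟩ := C.norm_dec h hp2 hP.isPGroup hPD h1 (hY hg.1) hg.2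
    have h10 := N.mul_mem (h6 hz) hg
    simpa using mul_mem (mem_sup_right (S := N ⊓ st2 G α β) (inv_mem hz))
      (mem_sup_left (show z * g ∈ N ⊓ st2 G α β from ⟨h10, hY h10.1, e⟩))
  refine ⟨h2.trans inf_le_left, hP.isPGroup, ?_⟩
  rw [← relIndex_mul_relIndex P _ N h2 inf_le_left, (Fact.out : p.Prime).dvd_mul]
  refine fun e => e.elim h4.not_dvd fun e => hp2 ?_
  have h10 := card_sup_dvd_mul h5
  rw [h9, ← card_mul_relIndex (inf_le_left : N ⊓ st2 G α β ≤ N), hk] at h10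
  exact (Nat.prime_dvd_prime_iff_eq Fact.out Nat.prime_two).1 ((Fact.out : p.Prime).dvd_of_dvd_pow
    (e.trans (Nat.dvd_of_mul_dvd_mul_left Nat.card_pos h10)))

theorem le_comm_of_gd {H P : Subgroup G} (hH : H ≤ stabilizer G α)
    (hP : IsSylowIn p P (Tw H ⊓ st2 G α β))
    (h1 : ∀ A ≤ P, (A = P ∨ ¬ IsCyclic A) → Fix3 Ω A → SEG.Gd A) (hT : ∀ A ≤ P, TA A α ≤ H) :
    P ≤ ⁅Tw H ⊓ st2 G α β, Tw H ⊓ st2 G α β⁆ := by
  have : Fact (Nat.Prime 2) := ⟨Nat.prime_two⟩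
  have hPD := hP.le.trans inf_le_right
  have ho := odd_of_le (C.S.odd_st2 h) hPD
  have hY := (Tw_le H).trans hH
  have hT' : ∀ A ≤ P, TA A α ≤ Tw H := fun A hA => le_Tw (hT A hA) (pCoreOf_isPGroup _)
  by_cases hp2 : p = 2
  · subst hp2
    rw [H5.eq_bot_of_isPGroup_of_coprime hP.isPGroup (Nat.coprime_two_right.2 ho)]
    exact bot_le
  refine le_trans (le_inf (fun x hx => mem_comm_Tw (hP.le hx).1 (odd_orderOf_of_mem ho hx)) le_rfl)
    (focal_le (C.sylow_of_gd h hp2 hY hP (h1 P le_rfl (Or.inl rfl)) (hT' P le_rfl)) hP.le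
      fun A hA hc g hg hn => ?_)
  obtain ⟨z, hz, e⟩ := C.norm_dec h hp2 (hP.isPGroup.to_le hA) (hA.trans hPD) (h1 A hA hc)
    (hY hg) hn
  have h2 := (Tw H).mul_mem (hT' A hA hz) hg
  refine ⟨z * g, ⟨h2, hY h2, e⟩, fun x hx => ?_⟩
  have h3 := (TA_le A α hz).1 _ (conj_mem_of_mem_normalizer hn hx)
  calc g * x * g⁻¹ = g * x * g⁻¹ * z * z⁻¹ := by group
    _ = _ := by rw [h3]; group

end Cy

namespace Cm

variable [Finite G] (C : Cm G Ω) {α β : Ω} (h : α ≠ β)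
include C h

theorem exists_B : ∃ (ℓ : ℕ) (B : Subgroup G), ℓ.Prime ∧ B ≠ ⊥ ∧ IsPGroup ℓ B ∧ B ≤ st2 G α β ∧
    st2 G α β ≤ normalizer (B : Set G) ∧ ∀ b ∈ B, Fp α b := by
  obtain ⟨ℓ, hl, h1⟩ := FT.exists_pCore_ne_bot' (FT.feit_thompson (C.S.odd_st2 h))
    fun e => C.d1 α β h (eq_bot_iff.2 (inf_le_right.trans e.le))
  rw [← pCoreOf_eq_piCoreOf] at h1
  obtain ⟨t, ht, h2, h3⟩ := C.S.exists_swap h
  have h4 : ∀ g ∈ normalizer (st2 G α β : Set G), g ∈ normalizer ((pCoreOf ℓ (st2 G α β) ⊓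
      centralizer (pCoreOf ℓ (st2 G α β) : Set G) : Subgroup G) : Set G) := fun g hg =>
    norm_inf (normalizer_le_normalizer_pCoreOf _ hg)
      (normalizer_le_normalizer_centralizer _ (normalizer_le_normalizer_pCoreOf _ hg))
  have h5 : pCoreOf ℓ (st2 G α β) ⊓ centralizer (pCoreOf ℓ (st2 G α β) : Set G) ≤ st2 G α β :=
    inf_le_left.trans (pCoreOf_le _)
  have h6 : IsMulCommutative ↥(pCoreOf ℓ (st2 G α β) ⊓
      centralizer (pCoreOf ℓ (st2 G α β) : Set G)) :=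
    H5.isMulCommutative_iff'.2 fun x hx y hy => hy.2 x hx.1
  refine ⟨ℓ, _, hl.out, H5.centerOf_ne_bot (pCoreOf_isPGroup _) h1,
    (pCoreOf_isPGroup _).to_le inf_le_left, h5, fun g hg => h4 g (le_normalizer hg),
    fun b hb => fp_of_inverts C.S h ht h2 (h5 hb) (C.inverts_of_comm h ht h2 h6 h5
      (fun g hg => h4 g (le_normalizer hg)) (h4 t (mem_normalizer_st2 h2 h3)) b hb)⟩

variable {p : ℕ} [Fact p.Prime]

theorem gd_of_not_cyclic {A : Subgroup G} (hA : IsPGroup p A) (hAD : A ≤ st2 G α β)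
    (h3 : Fix3 Ω A) (hc : ¬ IsCyclic A) : SEG.Gd A := by
  have hp2 : p ≠ 2 := by
    rintro rfl
    refine hc ?_
    rw [H5.eq_bot_of_isPGroup_of_coprime hA
      (Nat.coprime_two_right.2 (odd_of_le (C.S.odd_st2 h) hAD))]
    infer_instance
  obtain ⟨ℓ, B, hl, h1, h2, h4, h5, h6⟩ := C.exists_B h
  have : Fact ℓ.Prime := ⟨hl⟩
  obtain ⟨S, hS, -, hE, hS2⟩ := FT.ex_odd_normal_p2Elem hp2 hA hc
  have hSc : ¬ IsCyclic S := PGrp.not_isCyclic_of_isElementaryAbelian hE (by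
    rw [hS2, pow_two]; exact lt_mul_self (Fact.out : p.Prime).one_lt)
  obtain ⟨e, he, he1, h7⟩ : ∃ e ∈ S, e ≠ 1 ∧ B ⊓ centralizer {e} ≠ ⊥ := by
    by_contra h7
    push Not at h7
    exact hSc (FT.regular_abelian_cyclic hE.1 h1 ((hS.trans hAD).trans h5) h7)
  obtain ⟨⟨b, hb⟩, hb1⟩ := ne_bot_iff_exists_ne_one.1 h7
  have h8 := zpowers_le_of_mem (hS he)
  exact ⟨e, hS he, he1, C.rk2_of_fp hp2 (hA.to_le h8) (h3.mono h8)
    (h8.trans (hAD.trans inf_le_left)) (by rw [centralizer_zpowers]; exact hb.2) (h4 hb.1).1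
    (fun e => hb1 (Subtype.ext e)) (h6 b hb.1)⟩

theorem le_comm_of_gd {P : Subgroup G} (hP : IsSylowIn p P (J2 G α ⊓ st2 G α β))
    (h1 : Fix3 Ω P → SEG.Gd P) : P ≤ ⁅J2 G α ⊓ st2 G α β, J2 G α ⊓ st2 G α β⁆ :=
  C.toCy.le_comm_of_gd h le_rfl hP (fun A hA hc h3 => by
    rcases hc with rfl | hc
    · exact h1 h3
    · exact C.gd_of_not_cyclic h (hP.isPGroup.to_le hA) (hA.trans (hP.le.trans inf_le_right)) h3 hc)
    fun A _ => (TA_le A α).trans inf_le_right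

theorem tr {P : Subgroup G} (hP : IsSylowIn p P (J2 G α ⊓ st2 G α β))
    (h1 : ¬ P ≤ ⁅J2 G α ⊓ st2 G α β, J2 G α ⊓ st2 G α β⁆) :
    IsCyclic P ∧ Fix3 Ω P ∧ ¬ SEG.Gd P := by
  have h2 : ¬ (Fix3 Ω P → SEG.Gd P) := fun e => h1 (C.le_comm_of_gd h hP e)
  push Not at h2
  refine ⟨?_, h2⟩
  by_contra h3
  exact h2.2 (C.gd_of_not_cyclic h hP.isPGroup (hP.le.trans inf_le_right) h2.1 h3)

end Cm

end CfsgLib.SEB
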